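/-
The multiplier of Sp6(2) (generated certificates).
-/
import Cfsg.Agent.H63.Cls
import Cfsg.Agent.H56.Fields

set_option autoImplicit false
set_option maxRecDepth 100000

namespace Cfsg.Agent.H63.S62

open H14

def MASK : ℕ := nat_lit 0x1c00070001c00070001c0007
def QM : ℕ := nat_lit 0x6db6db6db6db6db6db6db6db6db
def I : ℕ := nat_lit 0x200001000008000040000200001
noncomputable abbrev mu : ℕ → ℕ → ℕ := mulM (nat_lit 6) (nat_lit 2) (nat_lit 3) (nat_lit 1) (nat_lit 1) (nat_lit 18) (nat_lit 262144) MASK QM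
theorem par : parOK (nat_lit 6) (nat_lit 2) (nat_lit 3) (nat_lit 1) (nat_lit 1) (nat_lit 18) (nat_lit 262144) MASK QM = true := by decide +kernel
theorem id : idOK (nat_lit 6) (nat_lit 2) (nat_lit 3) I = true := by decide +kernel
def gens0 : List ℕ := [nat_lit 0x201201048008000040000200001, nat_lit 0x9040249209009040040000201]
theorem md0 {F : Type*} [Field F] [Fintype F] (hF : Fintype.card F = 2) : Mod (Matrix.symplecticGroup (Fin 3) F) (nat_lit 6) (nat_lit 2) (nat_lit 3) gens0 :=
  mod_Sp (t := H56.F2) (f := 1) (rg := (rgT 1 (nat_lit 4)))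
    (As := List.zip [nat_lit 0x810234c81, nat_lit 0x306e7c431] gens0) hF (m := 3) (by decide +kernel)
def gens : List ℕ := [nat_lit 0x249040241008000040000201240, nat_lit 0x208000041000241009200209009]
theorem md {G : Type*} [Group G] (h : Mod G (nat_lit 6) (nat_lit 2) (nat_lit 3) gens0) : Mod G (nat_lit 6) (nat_lit 2) (nat_lit 3) gens :=
  h.conj par id (P := nat_lit 0x9041240209048209241208041)
    (Q := nat_lit 0x208008048008049249240241048) (by decide +kernel)

def p2Tab : ℕ := nat_lit 0x3200ba01b0018004e000180060002024c08981d00002071c0250002002000580cd8065003e04e409b800d00020008040005000500040004000600040004000000200820090008000b000a000800080000000000c01a801000140014001000100000000000000a002200240038003000200000000000000000000040004000400040000000000000000000001000a00080008000000000000000000000000000010001000000000000000000000000000000000200000000000000000000000000000000000000000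
def p2QT : ℕ := nat_lit 0x4800400040002000200020002000204000400040002000200020002000204800500060002000200020002000200000000000000000000000000000000000000000000000000000000000000000000000000000000000000000000000000000000000000000000000000000000000000000000000000000000000000000000000000000000000000000000000000000000000000000000000000000000000000000000000000000000000000000000000000000000000000000000000000000000000000000000000
def p2GT : ℕ := nat_lit 0x2c005800b0016002c005800b00160028005000a00140028005000a001400240048009001200240048009001200000000000000000000000000000000000000000000000000000000000000000000000000000000000000000000000000000000000000000000000000000000000000000000000000000000000000000000000000000000000000000000000000000000000000000000000000000000000000000000000000000000000000000000000000000000000000000000000000000000000000000000000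
def p2As : List ℕ := [nat_lit 0x1004020, nat_lit 0x2008020, nat_lit 0x1008020, nat_lit 0x2004020, nat_lit 0x4010020, nat_lit 0x804004, nat_lit 0x4008040, nat_lit 0x4020020, nat_lit 0x2004010, nat_lit 0x4010040, nat_lit 0x2010020, nat_lit 0x2010008, nat_lit 0x1008004, nat_lit 0x1001008, nat_lit 0x804010, nat_lit 0x800804, nat_lit 0x2004001, nat_lit 0x804002, nat_lit 0x4020040, nat_lit 0x804020, nat_lit 0x801008, nat_lit 0x2010040, nat_lit 0x2010004, nat_lit 0x4000804, nat_lit 0x2000804, nat_lit 0x1008040, nat_lit 0x1000804, nat_lit 0x802010, nat_lit 0x800402, nat_lit 0x200804, nat_lit 0x4001008, nat_lit 0x401008, nat_lit 0x4020008, nat_lit 0x2010010, nat_lit 0x201002, nat_lit 0x4020100, nat_lit 0x4002010, nat_lit 0x2010080, nat_lit 0x2002010, nat_lit 0x2000201, nat_lit 0x1002010, nat_lit 0x201008, nat_lit 0x402008, nat_lit 0x100802, nat_lit 0x100801, nat_lit 525313]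
def p2Fs : List (ℕ × List ℕ × List ℕ) := [(nat_lit 11, [nat_lit 102, nat_lit 104], [nat_lit 104, nat_lit 102, nat_lit 100]), (nat_lit 11, [nat_lit 104, nat_lit 106], [nat_lit 106, nat_lit 104, nat_lit 101]), (nat_lit 11, [nat_lit 104, nat_lit 104], [nat_lit 100, nat_lit 99]), (nat_lit 11, [nat_lit 105, nat_lit 105], [nat_lit 100]), (nat_lit 11, [nat_lit 102, nat_lit 102], [nat_lit 99]), (nat_lit 11, [nat_lit 101, nat_lit 104], [nat_lit 104, nat_lit 101, nat_lit 99]), (nat_lit 11, [nat_lit 101, nat_lit 102], [nat_lit 102, nat_lit 101, nat_lit 99]), (nat_lit 11, [nat_lit 103, nat_lit 103], []), (nat_lit 11, [nat_lit 101, nat_lit 101], []), (nat_lit 11, [nat_lit 100, nat_lit 100], []), (nat_lit 11, [nat_lit 99, nat_lit 99], []), (nat_lit 10, [nat_lit 93, nat_lit 96], [nat_lit 96, nat_lit 93, nat_lit 91]), (nat_lit 10, [nat_lit 94, nat_lit 94], [nat_lit 91]), (nat_lit 10, [nat_lit 96, nat_lit 98], [nat_lit 98, nat_lit 96, nat_lit 95]), (nat_lit 10, [nat_lit 96, nat_lit 97], [nat_lit 97, nat_lit 96,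 nat_lit 91]), (nat_lit 10, [nat_lit 93, nat_lit 98], [nat_lit 98, nat_lit 93, nat_lit 92]), (nat_lit 10, [nat_lit 93, nat_lit 97], [nat_lit 97, nat_lit 93, nat_lit 91]), (nat_lit 10, [nat_lit 96, nat_lit 96], [nat_lit 92, nat_lit 91]), (nat_lit 10, [nat_lit 93, nat_lit 93], []), (nat_lit 10, [nat_lit 98, nat_lit 98], [nat_lit 92]), (nat_lit 10, [nat_lit 97, nat_lit 97], [nat_lit 92]), (nat_lit 10, [nat_lit 91, nat_lit 93], [nat_lit 93, nat_lit 91]), (nat_lit 10, [nat_lit 95, nat_lit 95], []), (nat_lit 10, [nat_lit 92, nat_lit 92], []), (nat_lit 10, [nat_lit 91, nat_lit 91], []), (nat_lit 9, [nat_lit 88, nat_lit 90], [nat_lit 90, nat_lit 88, nat_lit 86, nat_lit 85, nat_lit 84, nat_lit 83]), (nat_lit 9, [nat_lit 88, nat_lit 89], [nat_lit 89, nat_lit 88, nat_lit 87, nat_lit 83]), (nat_lit 9, [nat_lit 89, nat_lit 89], [nat_lit 86, nat_lit 85, nat_lit 84, nat_lit 83]), (nat_lit 9, [nat_lit 86, nat_lit 89], [nat_lit 89, nat_lit 86, nat_lit 84, nat_lit 83]), (nat_lit 9, [nat_lit 85, nat_lit 88], [nat_lit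 88, nat_lit 85, nat_lit 84]), (nat_lit 9, [nat_lit 85, nat_lit 85], []), (nat_lit 9, [nat_lit 86, nat_lit 86], [nat_lit 83]), (nat_lit 9, [nat_lit 87, nat_lit 90], [nat_lit 90, nat_lit 87, nat_lit 83]), (nat_lit 9, [nat_lit 84, nat_lit 86], [nat_lit 86, nat_lit 84]), (nat_lit 9, [nat_lit 84, nat_lit 90], [nat_lit 90, nat_lit 84, nat_lit 83]), (nat_lit 9, [nat_lit 90, nat_lit 90], []), (nat_lit 9, [nat_lit 84, nat_lit 84], []), (nat_lit 9, [nat_lit 83, nat_lit 83], [])]
def p2Mc : List ℕ := [nat_lit 0x2aed0050005400000000000000000000000000000000000000000, nat_lit 0x2ac820c4004000000000000000000000000000000000000000000, nat_lit 0x852084005400000000000000000000000000000000000000000, nat_lit 0x8cd0090004400000000000000000000000000000000000000000, nat_lit 0xa2d00c0001400000000000000000000000000000000000000000, nat_lit 0xa0c0000004000000000000000000000000000000000000000000, nat_lit 0x10000000000000000000000000000000000000000000000000, nat_lit 0x2800080001400000000000000000000000000000000000000000, nat_lit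 0xa2d0000001400000000000000000000000000000000000000000]
def p2Uc : List (ℕ × ℕ × ℕ) := [(nat_lit 0x40400000000000000000000000000000000000000000000, nat_lit 2, nat_lit 0xcc000000)]
def p2Cs : List (List ℕ) := [[nat_lit 0x28a02200a28a8a382b0888b488a8200000000880a88], [nat_lit 0x2100000c0000000000000000000, nat_lit 0x3268725a81e6ac75bd204288080f00048088020b], [nat_lit 0x8000088002034030000040000000000000000000, nat_lit 0x28a30405850234d26f53f2b4a029e07082ca0000881, nat_lit 0x28a3048787229452cf535ab4a029a0f000480000883], [nat_lit 0xc000000000000000000000, nat_lit 0x8800088002000120008080002000000000000020, nat_lit 0x16df36608acf6993272b8477ffd37c090a84cb95638, nat_lit 0x36571ce0a2c56981a7a188c7ffd27c090a84eb15400], [nat_lit 0x20020a2804a002a080002800000000000000, nat_lit 0x800000000028c0200000000000000000000000, nat_lit 0x28ab36870f211772cd7b5adca08bc0f000480000883, nat_lit 0xa08a0a38a38f148efa09d24a20bc0000a820000820, nat_lit 0x28a02200a28a8a382b0888b488a8200000030880a8a], [nat_lit 0xb000b8a3000e340000000000000000000,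 nat_lit 0x16d3b4e244effbb3142b2653ffd37c898806cb9561a, nat_lit 0x302796a1e3ed8552c8f370f0cf3f90082ac70b41aba, nat_lit 0x14db3c40ee2ff9597f298757fd517c090006cb956b8, nat_lit 0x3b2f65094a293fc96573b6efd7537c7382cbc382c81, nat_lit 0x2890552b91dad0e31a5bd0ab44f35dbb2a76d84761a], [nat_lit 0x8b26070d2ddac2e7d3dac4028202f8aaea0002a8b, nat_lit 0x8b26850f07fe6247d372640280827828680002a89, nat_lit 0x367c904707ec04b9986c5733ff834cf900c6cb9561b, nat_lit 0x39a8c10809d09163a980c92f3a6e2c79a285c0c1413, nat_lit 0xa00a823003a72f2e28a1e98a2abe08088c00000822, nat_lit 0x12b3b325b622259b7e08bf9ba8804281a0e603fc699, nat_lit 0x25777548a1327aa0ef8bc2a4c5b4127838292b7ca1b], [nat_lit 0x28a30687872194ea6e5358c8a02960f000480000883, nat_lit 0xc00000000000000000000000, nat_lit 0x3ef81947e9c76d8131f2df4f7fd2fcfb82c4cb95e3b, nat_lit 0x38cf1e23a9cd2efccbfdd8e44f9eb08a2a450b41298, nat_lit 0x88c0288208281680122000000800000000000020, nat_lit 0x24c3a32e64f7cbade24c247b8a2b6e38a0a908bcdac, nat_lit 0x2f4cd9ac278e0c6c313244bfd5d3720a22e2cb16ba4,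 nat_lit 0x8bb2ec40c139a6ef7b90477b043c0f2b2c8e0c093f], [nat_lit 0x8800088002003220008080002000000000000020, nat_lit 0xc000000000000000000000000, nat_lit 0xe802ac391a2d71f24fedd8398c54c8320c3c8d46a8, nat_lit 0xa8cea22c60a988013a2ae84a88182882222008223a, nat_lit 0xa830ea786851648ccd992e0a02962faa069000228b, nat_lit 0x1d23e9e535b2df6bd7a2f68456e2ec8988463081032, nat_lit 0x3e745346afd78171bd18695f75f89ef228a6cb17402, nat_lit 0x1930aa4b0365f9460be651f402808c38008500015ac, nat_lit 0x11ec3f2285a90a833c35e3c33ac143422ad3e841033]]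
def p2Lv : List (ℕ × List ℕ) := [(nat_lit 33353, [nat_lit 32]), (nat_lit 577, [nat_lit 8, nat_lit 299]), (nat_lit 32833, [nat_lit 1, nat_lit 4, nat_lit 73]), (nat_lit 4160, [nat_lit 2, nat_lit 17]), (nat_lit 4161, [nat_lit 156])]
theorem p2chk : check (nat_lit 2) (nat_lit 1) (nat_lit 9) (nat_lit 15) (nat_lit 107) (nat_lit 4) (nat_lit 2) p2Tab p2QT p2GT
    (Nat.mul (nat_lit 8191) (Nat.div (Nat.shiftLeft (nat_lit 1) (nat_lit 1605)) (nat_lit 32767)))
    p2As p2Fs p2Mc p2Uc (cfOf p2Cs) = true := by decide +kernel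
def p2Ws : List (ℕ × List ℕ) := [(nat_lit 0, [nat_lit 0, nat_lit 0, nat_lit 0, nat_lit 0, nat_lit 1, nat_lit 0, nat_lit 1, nat_lit 0, nat_lit 0]), (nat_lit 1, [nat_lit 2, nat_lit 2, nat_lit 2, nat_lit 1, nat_lit 2, nat_lit 2, nat_lit 1, nat_lit 2, nat_lit 1]), (nat_lit 3, [nat_lit 3, nat_lit 2, nat_lit 3, nat_lit 3, nat_lit 2, nat_lit 3, nat_lit 3, nat_lit 2, nat_lit 2]), (nat_lit 4, [nat_lit 4, nat_lit 4, nat_lit 3, nat_lit 3, nat_lit 3, nat_lit 3, nat_lit 4, nat_lit 4, nat_lit 3]), (nat_lit 4, [nat_lit 4, nat_lit 4, nat_lit 5, nat_lit 5, nat_lit 4, nat_lit 5, nat_lit 5, nat_lit 4, nat_lit 4]), (nat_lit 6, [nat_lit 5, nat_lit 5, nat_lit 6, nat_lit 5, nat_lit 6, nat_lit 6, nat_lit 6, nat_lit 5, nat_lit 6]), (nat_lit 4, [nat_lit 0, nat_lit 3, nat_lit 6, nat_lit 0, nat_lit 2, nat_lit 3, nat_lit 1]), (nat_lit 3, [nat_lit 1, nat_lit 6, nat_lit 6, nat_lit 7, nat_lit 4, nat_lit 2, nat_lit 5]), (nat_lit 3, [nat_lit 6, nat_lit 2, nat_lit 2, nat_lit 9, nat_lit 4, nat_lit 6, nat_lit 7]), (nat_lit 7, [nat_lit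 10, nat_lit 8, nat_lit 10, nat_lit 5, nat_lit 10, nat_lit 8, nat_lit 4, nat_lit 10]), (nat_lit 5, [nat_lit 7, nat_lit 7, nat_lit 9, nat_lit 8, nat_lit 7, nat_lit 5, nat_lit 8, nat_lit 7]), (nat_lit 9, [nat_lit 9, nat_lit 10, nat_lit 6, nat_lit 5, nat_lit 11, nat_lit 8, nat_lit 12]), (nat_lit 3, [nat_lit 3, nat_lit 3, nat_lit 0, nat_lit 3, nat_lit 0, nat_lit 0, nat_lit 4]), (nat_lit 4, [nat_lit 6, nat_lit 1, nat_lit 4, nat_lit 2, nat_lit 4, nat_lit 3, nat_lit 5]), (nat_lit 2, [nat_lit 7, nat_lit 6, nat_lit 4, nat_lit 4, nat_lit 6, nat_lit 6, nat_lit 2]), (nat_lit 6, [nat_lit 5, nat_lit 3, nat_lit 3, nat_lit 4, nat_lit 5, nat_lit 3]), (nat_lit 4, [nat_lit 6, nat_lit 8, nat_lit 4, nat_lit 7, nat_lit 6, nat_lit 4, nat_lit 5]), (nat_lit 6, [nat_lit 7, nat_lit 8, nat_lit 7, nat_lit 5, nat_lit 9, nat_lit 6, nat_lit 5]), (nat_lit 2, [nat_lit 3, nat_lit 1, nat_lit 2, nat_lit 5, nat_lit 0]), (nat_lit 1, [nat_lit 4, nat_lit 2, nat_lit 3, nat_lit 3, nat_lit 6, nat_lit 4, nat_lit 2]), (nat_lit 2, [nat_lit 2,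 nat_lit 6, nat_lit 3, nat_lit 3, nat_lit 4, nat_lit 5, nat_lit 7]), (nat_lit 5, [nat_lit 8, nat_lit 4, nat_lit 8, nat_lit 4, nat_lit 3, nat_lit 8]), (nat_lit 5, [nat_lit 8, nat_lit 5, nat_lit 5, nat_lit 4, nat_lit 7]), (nat_lit 6, [nat_lit 6, nat_lit 7, nat_lit 10, nat_lit 9, nat_lit 9]), (nat_lit 1, [nat_lit 1, nat_lit 2, nat_lit 5, nat_lit 1, nat_lit 5]), (nat_lit 4, [nat_lit 5, nat_lit 2, nat_lit 2, nat_lit 5, nat_lit 2, nat_lit 6]), (nat_lit 2, [nat_lit 7, nat_lit 7, nat_lit 4, nat_lit 4, nat_lit 3]), (nat_lit 1, [nat_lit 1, nat_lit 1, nat_lit 1, nat_lit 1, nat_lit 0, nat_lit 0]), (nat_lit 23, [nat_lit 25, nat_lit 16, nat_lit 11, nat_lit 15, nat_lit 7, nat_lit 3, nat_lit 1, nat_lit 0]), (nat_lit 30, [nat_lit 30, nat_lit 17, nat_lit 17, nat_lit 16, nat_lit 8, nat_lit 2]), (nat_lit 24, [nat_lit 28, nat_lit 29, nat_lit 18, nat_lit 18, nat_lit 15, nat_lit 17, nat_lit 10, nat_lit 2]), (nat_lit 19, [nat_lit 23, nat_lit 14, nat_lit 4, nat_lit 3]), (nat_lit 28, [nat_lit 30, nat_lit 21, nat_lit 15, nat_lit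 15, nat_lit 12, nat_lit 5, nat_lit 4]), (nat_lit 34, [nat_lit 34, nat_lit 25, nat_lit 21, nat_lit 16, nat_lit 16, nat_lit 13, nat_lit 8, nat_lit 6]), (nat_lit 33, [nat_lit 31, nat_lit 23, nat_lit 17, nat_lit 13, nat_lit 6]), (nat_lit 31, [nat_lit 33, nat_lit 27, nat_lit 28, nat_lit 17, nat_lit 16]), (nat_lit 30, [nat_lit 34, nat_lit 37, nat_lit 29, nat_lit 22, nat_lit 22, nat_lit 13, nat_lit 9, nat_lit 8]), (nat_lit 33, [nat_lit 36, nat_lit 38, nat_lit 25, nat_lit 25, nat_lit 18, nat_lit 18, nat_lit 10, nat_lit 9]), (nat_lit 27, [nat_lit 30, nat_lit 30, nat_lit 20, nat_lit 23, nat_lit 25, nat_lit 18, nat_lit 13, nat_lit 11]), (nat_lit 35, [nat_lit 37, nat_lit 28, nat_lit 32, nat_lit 24, nat_lit 22, nat_lit 20, nat_lit 20, nat_lit 12])]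
theorem p2slp : slpOK mu (fun _ => true) I gens p2Ws I (nat_lit 2) (nat_lit 1) (nat_lit 9) (nat_lit 15) (nat_lit 107) (nat_lit 12) p2Tab p2QT p2GT (nat_lit 22) p2Lv = true := by
  decide +kernel
theorem p2pb {G : Type*} [Group G] [Finite G] (hM : Mod G (nat_lit 6) (nat_lit 2) (nat_lit 3) gens) (ho : Nat.card G = 1451520) :
    PB 2 G [2] :=
  hM.pb par id (e := 1) Nat.prime_two ho p2slp p2chk (by decide +kernel)

def p3Tab : ℕ := nat_lit 0x10824020080014020040001028040000000040000000000000
def p3QT : ℕ := nat_lit 0x8010020040000000000000000000000000000000000000000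
def p3GT : ℕ := nat_lit 0x804020100000000000000000000000000000000000000000
def p3As : List ℕ := [nat_lit 0x401004, nat_lit 0x401001, nat_lit 0x100408, nat_lit 0x408010, nat_lit 0x102010]
def p3Fs : List (ℕ × List ℕ × List ℕ) := [(nat_lit 4, [nat_lit 20, nat_lit 20, nat_lit 20], [nat_lit 18]), (nat_lit 4, [nat_lit 19, nat_lit 20], [nat_lit 20, nat_lit 19, nat_lit 18]), (nat_lit 4, [nat_lit 21, nat_lit 21, nat_lit 21], []), (nat_lit 4, [nat_lit 19, nat_lit 21], [nat_lit 21, nat_lit 19])]
def p3Mc : List ℕ := [nat_lit 0, nat_lit 0, nat_lit 0x10000000, nat_lit 0x100000000]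
def p3Uc : List (ℕ × ℕ × ℕ) := []
def p3Cs : List (List ℕ) := [[nat_lit 4096], [nat_lit 16384, nat_lit 2048], [nat_lit 512, nat_lit 16672, nat_lit 38272], [nat_lit 147456, nat_lit 2, nat_lit 0, nat_lit 1032]]
def p3Lv : List (ℕ × List ℕ) := [(nat_lit 4169, [nat_lit 1, nat_lit 16]), (nat_lit 32833, [nat_lit 4]), (nat_lit 4160, [nat_lit 64])]
theorem p3chk : check (nat_lit 3) (nat_lit 2) (nat_lit 4) (nat_lit 9) (nat_lit 22) (nat_lit 3) (nat_lit 2) p3Tab p3QT p3GT
    (Nat.mul (nat_lit 127) (Nat.div (Nat.shiftLeft (nat_lit 1) (nat_lit 198)) (nat_lit 511)))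
    p3As p3Fs p3Mc p3Uc (cfOf p3Cs) = true := by decide +kernel
def p3Ws : List (ℕ × List ℕ) := [(nat_lit 0, [nat_lit 0, nat_lit 0, nat_lit 0, nat_lit 0, nat_lit 1, nat_lit 0, nat_lit 1, nat_lit 0, nat_lit 0]), (nat_lit 1, [nat_lit 2, nat_lit 2, nat_lit 2, nat_lit 1, nat_lit 2, nat_lit 2, nat_lit 1, nat_lit 2, nat_lit 1]), (nat_lit 3, [nat_lit 3, nat_lit 2, nat_lit 3, nat_lit 3, nat_lit 2, nat_lit 3, nat_lit 3, nat_lit 2, nat_lit 2]), (nat_lit 4, [nat_lit 4, nat_lit 4, nat_lit 3, nat_lit 3, nat_lit 3, nat_lit 3, nat_lit 4, nat_lit 4, nat_lit 3]), (nat_lit 4, [nat_lit 4, nat_lit 4, nat_lit 5, nat_lit 5, nat_lit 4, nat_lit 5, nat_lit 5, nat_lit 4, nat_lit 4]), (nat_lit 6, [nat_lit 5, nat_lit 5, nat_lit 6, nat_lit 5, nat_lit 6, nat_lit 6, nat_lit 6, nat_lit 5, nat_lit 6]), (nat_lit 4, [nat_lit 0, nat_lit 3, nat_lit 6, nat_lit 0, nat_lit 2, nat_lit 3, nat_lit 1]), (nat_lit 3, [nat_lit 1, nat_lit 6, nat_lit 6, nat_lit 7, nat_lit 4, nat_lit 2, nat_lit 5]), (nat_lit 3, [nat_lit 6, nat_lit 2, nat_lit 2,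 nat_lit 9, nat_lit 4, nat_lit 6, nat_lit 7]), (nat_lit 7, [nat_lit 10, nat_lit 8, nat_lit 10, nat_lit 5, nat_lit 10, nat_lit 8, nat_lit 4, nat_lit 10]), (nat_lit 5, [nat_lit 7, nat_lit 7, nat_lit 9, nat_lit 8, nat_lit 7, nat_lit 5, nat_lit 8, nat_lit 7]), (nat_lit 9, [nat_lit 9, nat_lit 10, nat_lit 6, nat_lit 5, nat_lit 11, nat_lit 8, nat_lit 12]), (nat_lit 3, [nat_lit 3, nat_lit 3, nat_lit 0, nat_lit 3, nat_lit 0, nat_lit 0, nat_lit 4]), (nat_lit 4, [nat_lit 6, nat_lit 1, nat_lit 4, nat_lit 2, nat_lit 4, nat_lit 3, nat_lit 5]), (nat_lit 2, [nat_lit 7, nat_lit 6, nat_lit 4, nat_lit 4, nat_lit 6, nat_lit 6, nat_lit 2]), (nat_lit 6, [nat_lit 5, nat_lit 3, nat_lit 3, nat_lit 4, nat_lit 5, nat_lit 3]), (nat_lit 4, [nat_lit 6, nat_lit 8, nat_lit 4, nat_lit 7, nat_lit 6, nat_lit 4, nat_lit 5]), (nat_lit 6, [nat_lit 7, nat_lit 8, nat_lit 7, nat_lit 5, nat_lit 9, nat_lit 6, nat_lit 5]), (nat_lit 2, [nat_lit 3, nat_lit 1, nat_lit 2, nat_lit 5, nat_lit 0]), (nat_lit 1, [nat_lit 4, nat_lit 2, nat_lit 3, nat_lit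 3, nat_lit 6, nat_lit 4, nat_lit 2]), (nat_lit 2, [nat_lit 2, nat_lit 6, nat_lit 3, nat_lit 3, nat_lit 4, nat_lit 5, nat_lit 7]), (nat_lit 5, [nat_lit 8, nat_lit 4, nat_lit 8, nat_lit 4, nat_lit 3, nat_lit 8]), (nat_lit 5, [nat_lit 8, nat_lit 5, nat_lit 5, nat_lit 4, nat_lit 7]), (nat_lit 6, [nat_lit 6, nat_lit 7, nat_lit 10, nat_lit 9, nat_lit 9]), (nat_lit 1, [nat_lit 1, nat_lit 2, nat_lit 5, nat_lit 1, nat_lit 5]), (nat_lit 4, [nat_lit 5, nat_lit 2, nat_lit 2, nat_lit 5, nat_lit 2, nat_lit 6]), (nat_lit 2, [nat_lit 7, nat_lit 7, nat_lit 4, nat_lit 4, nat_lit 3]), (nat_lit 1, [nat_lit 1, nat_lit 1, nat_lit 1, nat_lit 1, nat_lit 0, nat_lit 0]), (nat_lit 26, [nat_lit 25, nat_lit 21, nat_lit 20, nat_lit 11, nat_lit 6, nat_lit 1]), (nat_lit 19, [nat_lit 16, nat_lit 16, nat_lit 6]), (nat_lit 28, [nat_lit 26, nat_lit 18, nat_lit 22, nat_lit 17, nat_lit 17, nat_lit 10]), (nat_lit 25, [nat_lit 29, nat_lit 28, nat_lit 24, nat_lit 14, nat_lit 17, nat_lit 11, nat_lit 4, nat_lit 3]), (nat_lit 27, [nat_lit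 30, nat_lit 22, nat_lit 22, nat_lit 15, nat_lit 18, nat_lit 9, nat_lit 7, nat_lit 5])]
theorem p3slp : slpOK mu (fun _ => true) I gens p3Ws I (nat_lit 3) (nat_lit 2) (nat_lit 4) (nat_lit 9) (nat_lit 22) (nat_lit 5) p3Tab p3QT p3GT (nat_lit 26) p3Lv = true := by
  decide +kernel
theorem p3pb {G : Type*} [Group G] [Finite G] (hM : Mod G (nat_lit 6) (nat_lit 2) (nat_lit 3) gens) (ho : Nat.card G = 1451520) :
    PB 3 G [] :=
  hM.pb par id (e := 0) Nat.prime_three ho p3slp p3chk (by decide +kernel)
def cMASK : ℕ := nat_lit 0x7ff00000000000000000007ff00000000000000000007ff00000000000000000007ff00000000000000000007ff00000000000000000007ff00000000000000000007ff00000000000000000007ff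
def cQM : ℕ := nat_lit 0x1e03c0780f01e03c0780f01e03c0780f01e03c0780f01e03c0780f01e03c0780f01e03c0780f01e03c0780f01e03c0780f01e03c0780f01e03c0780f01e03c0780f01e03c0780f01e03c0780f01e03c0780f01e03c0780f
def cI : ℕ := nat_lit 0x200000000000000000000000040000000000000000000000008000000000000000000000001000000000000000000000000200000000000000000000000040000000000000000000000008000000000000000000000001
noncomputable abbrev cmu : ℕ → ℕ → ℕ := mulM (nat_lit 8) (nat_lit 3) (nat_lit 11) (nat_lit 43) (nat_lit 7) (nat_lit 88) (nat_lit 0x10000000000000000000000) cMASK cQM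
theorem cpar : parOK (nat_lit 8) (nat_lit 3) (nat_lit 11) (nat_lit 43) (nat_lit 7) (nat_lit 88) (nat_lit 0x10000000000000000000000) cMASK cQM = true := by decide +kernel
theorem cid : idOK (nat_lit 8) (nat_lit 3) (nat_lit 11) cI = true := by decide +kernel
def cB : ℕ := Nat.shiftLeft (nat_lit 1) (nat_lit 108)
def cgs : List ℕ := [nat_lit 0x801001004000008020020080080000000000000002008010020020000100100400800800000004008010020040000100000801001000000010010040000100200000401000000008000000000040000000400400002249040241008000040000201240, nat_lit 0x4004008010040080000200000401000004004008020020000000200400400002004008010020020000100000200400802002004010020000000080200400000001002004000000040040100000200401001208000041000241009200209009]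
def cZs : List ℕ := [nat_lit 0x200000000000000000000000040000000000000000000000008000000000000000000000001000000000000000000000000200000000000000000000000040000000000000000000000008000000000000000000000001200001000008000040000200001, nat_lit 0x400000000000000000000000080000000000000000000000010000000000000000000000002000000000000000000000000400000000000000000000000080000000000000000000000010000000000000000000000002200001000008000040000200001]
def cJ : ℕ := nat_lit 0x200000000000000000000000040000000000000000000000008000000000000000000000001000000000000000000000000200000000000000000000000040000000000000000000000008000000000000000000000001200001000008000040000200001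
def cl0 : Lv := ⟨[(nat_lit 1, [nat_lit 1, nat_lit 0, nat_lit 1, nat_lit 0, nat_lit 1, nat_lit 0, nat_lit 0, nat_lit 1, nat_lit 1, nat_lit 0, nat_lit 1, nat_lit 1, nat_lit 0, nat_lit 1, nat_lit 0, nat_lit 1, nat_lit 1]), (nat_lit 2, [nat_lit 2, nat_lit 1, nat_lit 1, nat_lit 2, nat_lit 1, nat_lit 1, nat_lit 1, nat_lit 2, nat_lit 2, nat_lit 2, nat_lit 2]), (nat_lit 3, [nat_lit 2, nat_lit 2, nat_lit 2, nat_lit 2, nat_lit 3, nat_lit 3, nat_lit 2, nat_lit 2, nat_lit 3, nat_lit 2, nat_lit 3, nat_lit 3, nat_lit 3])], nat_lit 3, nat_lit 32833, nat_lit 249,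
  [(nat_lit 1, nat_lit 65536), (nat_lit 1, nat_lit 65536), (nat_lit 2, nat_lit 0x1000000000000), (nat_lit 2, nat_lit 0x1000000010001), (nat_lit 3, nat_lit 0x100000001000100000001), (nat_lit 4, nat_lit 0x10000000000000001000100010002), (nat_lit 4, nat_lit 0x10001000100020001000300000003), (nat_lit 6, nat_lit 0x100000000000000010001000000010001000200010003), (nat_lit 6, nat_lit 0x100000001000100010002000100030001000500000005), (nat_lit 7, nat_lit 0x10000000100010000000100000002000100030001000400010005), (nat_lit 10, nat_lit 0x10000000100010000000100010002000100030001000400000004000100050001000600000006), (nat_lit 7, nat_lit 0x10001000000010001000200010003000100050001000600010007), (nat_lit 6, nat_lit 0x100010001000300010004000100050000000500010006), (nat_lit 1, nat_lit 65537), (nat_lit 1, nat_lit 65536), (nat_lit 1, nat_lit 65536)],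
  [nat_lit 0x18200000481028200c100000003, nat_lit 0x4400340024200400003, nat_lit 0x40000004410381028300800003, nat_lit 0x2430000050101c000c5000205010441038202c1014102030005050101050001050104820382024001800142000504810380024400c3000304820280018200c40003050101c000c20002008000000501048003820240008200c10005050104800341010101460004050102c1014200c00003, nat_lit 0xc5000004800106000100c3000000c4000000c2000005010481038002440104000400c100000400034002420140010000040480034100c201010003040003410102000200c000000501014100010480034101010183000305010480034100c201030004, nat_lit 0x501048003420283018102810005050101860001048003410280000002c2000405010482034001480003010600000481038002c00147000301050000050101840001010400000440034002420145000304810380024401c1020100040441038202c1018101440004010300000501048201430002010200000501018100010100000001010000050104400342024200c1014900050501048001400002, nat_lit 0x148000001490000014700000482034001850002014500000146000001440000050101c2000101430000050101c10001014100000142000001400000048002c1010301800003,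 nat_lit 0x18600000501020500010185000004810380024401c4000301840000040003410240010401c00004034100000183000001810000018200000180000005010482034100c201c30004, nat_lit 0x1c4000001c50000048003420281014001c5000405010481038002440204000401c3000005010241000101c2000005010481028200c10202000401c1000005010240000101c0000005010481028200c102000004, nat_lit 0x2050000050102830001020400000501048002c101030242000402020000020300000200000002010000, nat_lit 0x24200000243000002410000048002c101030282000302400000050102c000010400000004400340024202800003, nat_lit 0x28300000501030100010282000001c002c100010280000002810000, nat_lit 0x2c1000002c2000002c00000050101c003000002, nat_lit 0x301000005010380000103000000048003400001, nat_lit 0x340000003410000, nat_lit 0x380000005010441038202c1018103c00005, nat_lit 0x3c000000481028200c104000003]⟩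
def cl1 : Lv := ⟨[(nat_lit 1, [nat_lit 1, nat_lit 2, nat_lit 1, nat_lit 2, nat_lit 2, nat_lit 0, nat_lit 0, nat_lit 0, nat_lit 1, nat_lit 2, nat_lit 0]), (nat_lit 3, [nat_lit 1, nat_lit 3, nat_lit 3, nat_lit 2, nat_lit 3, nat_lit 2, nat_lit 2, nat_lit 2, nat_lit 1, nat_lit 1, nat_lit 3, nat_lit 1]), (nat_lit 3, [nat_lit 2, nat_lit 2, nat_lit 4, nat_lit 2, nat_lit 2, nat_lit 4, nat_lit 4, nat_lit 4, nat_lit 4, nat_lit 2, nat_lit 4])], nat_lit 3, nat_lit 585, nat_lit 62,
  [(nat_lit 2, nat_lit 0x2000000000000), (nat_lit 3, nat_lit 0x100000000000000000001), (nat_lit 3, nat_lit 0x100020002), (nat_lit 5, nat_lit 0x2000000000000000100010001000200000002), (nat_lit 6, nat_lit 0x100000000000000020002000000030002000400000004), (nat_lit 4, nat_lit 0x100040000000400020005), (nat_lit 4, nat_lit 0x20000000000010002000200000002), (nat_lit 2, nat_lit 0x100000002)],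
  [nat_lit 0x242010200000001000302c10241014000800001000401400001004000020242010200000000000302c10241014000800000000402c102410140004001000004, nat_lit 0x2c1024201020000004300040241014000800043000302c102410140004000c0000402c10082000102c1024101400004004200040001000001420041000102c1020001410081008000040000000002c10080000102c101420040000202000100000400420003, nat_lit 0x2c100c500010241014000040083000302010141008100c400030042000002000141008100c100030043000002400081000102c100c400010041000000400000020000810041000202c102000100000400830004, nat_lit 0x83000002c10200014100810101000402c102010142008101c0000402c101040001008100000082000002410140008000c3000302c1024000c300020200014100810102000302c10102000102c102400102000100c2000402c102000081000202c102400102000100c1000402c102000081008200030202000000c20002024200c0000102c10100000100800000, nat_lit 0xc4000002400104000100c5000002c102410103000202c10142000100c3000000c2000002c10141000102c10200010101800003024001020001010100030200008100c5000202c1010100810103000302c10140000100c0000000c10000,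 nat_lit 0x2c101820001010300000104000002c1024001020001014100040102000001010081014200020100000002420140000101010000, nat_lit 0x142000002c10241018200020101020000010200010000020181000302c10242018100020141000002400180000102c101c0000101400000, nat_lit 0x2c102000100000201c10004024201c100010182000002c1020000010180000001810000, nat_lit 0x1c0000002400200000101c10000]⟩
def cl2 : Lv := ⟨[(nat_lit 1, [nat_lit 2, nat_lit 0, nat_lit 2, nat_lit 2, nat_lit 0, nat_lit 2, nat_lit 0, nat_lit 0, nat_lit 2, nat_lit 0, nat_lit 1, nat_lit 1, nat_lit 1, nat_lit 2, nat_lit 2, nat_lit 1, nat_lit 2, nat_lit 1]), (nat_lit 3, [nat_lit 2, nat_lit 3, nat_lit 1, nat_lit 3, nat_lit 3, nat_lit 3, nat_lit 2, nat_lit 3, nat_lit 2, nat_lit 3, nat_lit 2, nat_lit 3, nat_lit 3, nat_lit 3, nat_lit 2, nat_lit 3, nat_lit 1, nat_lit 1, nat_lit 1]), (nat_lit 3, [nat_lit 3, nat_lit 4, nat_lit 4, nat_lit 2, nat_lit 2, nat_lit 2, nat_lit 2, nat_lit 4, nat_lit 2, nat_lit 2, nat_lit 4, nat_lit 2, nat_lit 4, nat_lit 2, nat_lit 4, nat_lit 4, nat_lit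 4, nat_lit 3, nat_lit 3]), (nat_lit 3, [nat_lit 3, nat_lit 5, nat_lit 4, nat_lit 5, nat_lit 5, nat_lit 5, nat_lit 4, nat_lit 5, nat_lit 3, nat_lit 5, nat_lit 4, nat_lit 4, nat_lit 5, nat_lit 4, nat_lit 5, nat_lit 5, nat_lit 4, nat_lit 4, nat_lit 3]), (nat_lit 4, [nat_lit 6, nat_lit 5, nat_lit 5, nat_lit 5, nat_lit 6, nat_lit 4, nat_lit 4, nat_lit 5, nat_lit 5, nat_lit 4, nat_lit 6, nat_lit 4, nat_lit 6, nat_lit 6, nat_lit 6, nat_lit 4, nat_lit 4, nat_lit 6, nat_lit 5]), (nat_lit 6, [nat_lit 5, nat_lit 6, nat_lit 5, nat_lit 5, nat_lit 7, nat_lit 6, nat_lit 6, nat_lit 5, nat_lit 6, nat_lit 6, nat_lit 7, nat_lit 7, nat_lit 7, nat_lit 6, nat_lit 6, nat_lit 7, nat_lit 6, nat_lit 6, nat_lit 5])], nat_lit 6, nat_lit 577, nat_lit 17,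
  [(nat_lit 2, nat_lit 0x1000000000000), (nat_lit 4, nat_lit 0x20000000100000000000000010001), (nat_lit 5, nat_lit 0x20002000200030001000300000003)],
  [nat_lit 0x10100430000000200c00000010100410043000201c10140004000410003010100410042000201c1010100410041000300c000400080000201c1014000430001000301c1010100430001000301c100c0004000040003010000420002000200c00040000200020101004100420002014000000040000201c10101004100400003, nat_lit 0x2000000030000000400000001000001c10101004100810003010100410080000201c1014200400003000301c1000400010003000001c100c000400043000301400000000100000000, nat_lit 0x142000100c000020043000001c10101004100c00003004000000041000000420000, nat_lit 0x1420042008100020080000000810000]⟩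
def cl3 : Lv := ⟨[(nat_lit 1, [nat_lit 3, nat_lit 0, nat_lit 5, nat_lit 4, nat_lit 1, nat_lit 0, nat_lit 0, nat_lit 5, nat_lit 0, nat_lit 2]), (nat_lit 2, [nat_lit 4, nat_lit 1, nat_lit 4, nat_lit 1, nat_lit 3, nat_lit 5, nat_lit 1, nat_lit 6, nat_lit 2, nat_lit 4, nat_lit 3]), (nat_lit 3, [nat_lit 4, nat_lit 6, nat_lit 7, nat_lit 6, nat_lit 5, nat_lit 4, nat_lit 2, nat_lit 2, nat_lit 5, nat_lit 5, nat_lit 3])], nat_lit 3, nat_lit 4160, nat_lit 15,
  [(nat_lit 4, nat_lit 0x30000000200000001000000000000), (nat_lit 3, nat_lit 0x300020002000200010003)],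
  [nat_lit 0x420001000101010040004200020000000100010000000000010101004300010101004200010101004200020002010100820000000200000002000101010042000101010041000100000000000101010080004200020101008200010002004200000101000000020002010100400001000000010001, nat_lit 0x101004200410002004000800001000000410001000000400001000200000080000000800000000101010040000200020000000000010000010100800001010100020001004200430001008200400001000000430001010100800001000100000101000000400002008000800001008200410001008000000101000000430002000000000101000000410002, nat_lit 0x10100800040000200400043000100400000004100000042000000430000]⟩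
def cl4 : Lv := ⟨[], nat_lit 0, nat_lit 0x41048241, nat_lit 23,
  [(nat_lit 3, nat_lit 0x200000001000000000000), (nat_lit 3, nat_lit 0x200010002000200010002), (nat_lit 1, nat_lit 131074)],
  [nat_lit 0x10042000100410000000100400001, nat_lit 0x10082000100810000000100820001000100000001008000000001008100010080000000000000, nat_lit 0x41000000420000000100c0000100400000000100c00001000100420001000100c00001000100400001000100410001, nat_lit 0x8000000081000000820000]⟩
noncomputable abbrev cpm : ℕ → ℕ → ℕ := pm mu cmu (nat_lit 108) cB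
theorem ccen : cenOK cpm (fun a => Nat.beq (Nat.mod a cB) I) cJ cgs [(nat_lit 1, [nat_lit 0]), (nat_lit 2, [nat_lit 1, nat_lit 2, nat_lit 2]), (nat_lit 0, [nat_lit 1, nat_lit 0, nat_lit 1, nat_lit 0, nat_lit 1, nat_lit 0, nat_lit 1, nat_lit 0, nat_lit 1, nat_lit 0, nat_lit 1, nat_lit 0, nat_lit 1, nat_lit 1, nat_lit 0])] (nat_lit 1)
    [(nat_lit 0, [nat_lit 0])] (nat_lit 3) (nat_lit 7) cZs = true := by decide +kernel
theorem cgo : go cpm (fun c a => mu c (Nat.mod a cB)) cJ cZs [cl0, cl1, cl2, cl3, cl4] cgs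
    (fun _ n => Nat.beq n 1451520) = true := by decide +kernel
theorem clb {G : Type*} [Group G] [Finite G] (hM : Mod G (nat_lit 6) (nat_lit 2) (nat_lit 3) gens) (ho : Nat.card G = 1451520) :
    LB G 2 :=
  hM.lb par id cpar cid (k := 26) ho (by decide +kernel) ccen cgo

end Cfsg.Agent.H63.S62
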