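/-
The multiplier of A6 (generated certificates).
-/
import Cfsg.Agent.H63.PMod
import Cfsg.Agent.H63.Mod2
import Cfsg.Agent.H56.Mod.Alt

set_option autoImplicit false
set_option maxRecDepth 100000

namespace Cfsg.Agent.H63.A6

open H14

def MASK : ℕ := nat_lit 0x1c00070001c00070001c0007
def QM : ℕ := nat_lit 0x6db6db6db6db6db6db6db6db6db
def I : ℕ := nat_lit 0x200001000008000040000200001
noncomputable abbrev mu : ℕ → ℕ → ℕ := mulM (nat_lit 6) (nat_lit 2) (nat_lit 3) (nat_lit 1) (nat_lit 1) (nat_lit 18) (nat_lit 262144) MASK QM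
theorem par : parOK (nat_lit 6) (nat_lit 2) (nat_lit 3) (nat_lit 1) (nat_lit 1) (nat_lit 18) (nat_lit 262144) MASK QM = true := by decide +kernel
theorem id : idOK (nat_lit 6) (nat_lit 2) (nat_lit 3) I = true := by decide +kernel
def gens0 : List ℕ := [nat_lit 0x8001000200000001000200040, nat_lit 0x8008000001001000000040008]
theorem md0 : Mod (alternatingGroup (Fin 6)) (nat_lit 6) (nat_lit 2) (nat_lit 3) gens0 :=
  mod_chain H56.Alt.a6E (As := List.zip [nat_lit 117258, nat_lit 120065] gens0) H56.Alt.a6_chain (by decide +kernel)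
def gens : List ℕ := [nat_lit 0x200009248201200040209000249, nat_lit 0x1201040049040040240249040]
theorem md {G : Type*} [Group G] (h : Mod G (nat_lit 6) (nat_lit 2) (nat_lit 3) gens0) : Mod G (nat_lit 6) (nat_lit 2) (nat_lit 3) gens :=
  h.conj par id (P := nat_lit 0x9041240209048209241208041)
    (Q := nat_lit 0x208008048008049249240241048) (by decide +kernel)

def p2Tab : ℕ := nat_lit 0x10100200c0000c0100000004000000000000
def p2QT : ℕ := nat_lit 0x400402004000000000000000000000000000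
def p2GT : ℕ := nat_lit 0x40100300c000000000000000000000000000
def p2As : List ℕ := [nat_lit 274, nat_lit 290, nat_lit 289]
def p2Fs : List (ℕ × List ℕ × List ℕ) := [(nat_lit 4, [nat_lit 14, nat_lit 14], []), (nat_lit 4, [nat_lit 13, nat_lit 13], []), (nat_lit 3, [nat_lit 11, nat_lit 11], [])]
def p2Mc : List ℕ := [nat_lit 0x414000, nat_lit 0x20d0000, nat_lit 16384]
def p2Uc : List (ℕ × ℕ × ℕ) := [(nat_lit 0x2018000, nat_lit 2, nat_lit 712)]
def p2Cs : List (List ℕ) := [[nat_lit 195], [nat_lit 7107, nat_lit 15343], [nat_lit 1987, nat_lit 0, nat_lit 3027]]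
def p2Lv : List (ℕ × List ℕ) := [(nat_lit 4672, [nat_lit 4]), (nat_lit 32833, [nat_lit 1, nat_lit 2])]
theorem p2chk : check (nat_lit 2) (nat_lit 1) (nat_lit 3) (nat_lit 10) (nat_lit 15) (nat_lit 4) (nat_lit 2) p2Tab p2QT p2GT
    (Nat.mul (nat_lit 255) (Nat.div (Nat.shiftLeft (nat_lit 1) (nat_lit 150)) (nat_lit 1023)))
    p2As p2Fs p2Mc p2Uc (cfOf p2Cs) = true := by decide +kernel
def p2Ws : List (ℕ × List ℕ) := [(nat_lit 0, [nat_lit 0, nat_lit 0, nat_lit 0, nat_lit 0, nat_lit 1, nat_lit 0, nat_lit 1, nat_lit 0, nat_lit 0]), (nat_lit 1, [nat_lit 2, nat_lit 2, nat_lit 2, nat_lit 1, nat_lit 2, nat_lit 2, nat_lit 1, nat_lit 2, nat_lit 1]), (nat_lit 3, [nat_lit 3, nat_lit 2, nat_lit 3, nat_lit 3, nat_lit 2, nat_lit 3, nat_lit 3, nat_lit 2, nat_lit 2]), (nat_lit 4, [nat_lit 4, nat_lit 4, nat_lit 3, nat_lit 3, nat_lit 3, nat_lit 3, nat_lit 4, nat_lit 4, nat_lit 3]), (nat_lit 4, [nat_lit 4, nat_lit 4, nat_lit 5, nat_lit 5, nat_lit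 4, nat_lit 5, nat_lit 5, nat_lit 4, nat_lit 4]), (nat_lit 6, [nat_lit 5, nat_lit 5, nat_lit 6, nat_lit 5, nat_lit 6, nat_lit 6, nat_lit 6, nat_lit 5, nat_lit 6]), (nat_lit 4, [nat_lit 0, nat_lit 3, nat_lit 6, nat_lit 0, nat_lit 2, nat_lit 3]), (nat_lit 3, [nat_lit 1, nat_lit 6, nat_lit 6, nat_lit 7, nat_lit 4, nat_lit 3]), (nat_lit 3, [nat_lit 6, nat_lit 2, nat_lit 2, nat_lit 9, nat_lit 4, nat_lit 8]), (nat_lit 7, [nat_lit 10, nat_lit 8, nat_lit 10, nat_lit 5, nat_lit 10, nat_lit 10]), (nat_lit 5, [nat_lit 7, nat_lit 7, nat_lit 9, nat_lit 8, nat_lit 7, nat_lit 6]), (nat_lit 4, [nat_lit 1, nat_lit 1, nat_lit 4, nat_lit 4, nat_lit 3, nat_lit 2, nat_lit 4]), (nat_lit 4, [nat_lit 3, nat_lit 3, nat_lit 3, nat_lit 1, nat_lit 2, nat_lit 5, nat_lit 5]), (nat_lit 2, [nat_lit 3, nat_lit 4, nat_lit 4, nat_lit 2, nat_lit 4, nat_lit 6]), (nat_lit 4, [nat_lit 6, nat_lit 5, nat_lit 3, nat_lit 6, nat_lit 3, nat_lit 7]), (nat_lit 5, [nat_lit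 5, nat_lit 6, nat_lit 4, nat_lit 6, nat_lit 5]), (nat_lit 9, [nat_lit 9, nat_lit 8, nat_lit 7, nat_lit 8, nat_lit 7, nat_lit 9]), (nat_lit 2, [nat_lit 3, nat_lit 1, nat_lit 2, nat_lit 5, nat_lit 0, nat_lit 5, nat_lit 5]), (nat_lit 11, [nat_lit 11, nat_lit 5]), (nat_lit 7, [nat_lit 1, nat_lit 1]), (nat_lit 20, [nat_lit 2, nat_lit 2]), (nat_lit 22, [nat_lit 3]), (nat_lit 22, [nat_lit 15, nat_lit 15, nat_lit 9, nat_lit 4, nat_lit 4])]
theorem p2slp : slpOK mu (fun _ => true) I gens p2Ws I (nat_lit 2) (nat_lit 1) (nat_lit 3) (nat_lit 10) (nat_lit 15) (nat_lit 5) p2Tab p2QT p2GT (nat_lit 10) p2Lv = true := by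
  decide +kernel
theorem p2pb {G : Type*} [Group G] [Finite G] (hM : Mod G (nat_lit 6) (nat_lit 2) (nat_lit 3) gens) (ho : Nat.card G = 360) :
    PB 2 G [2] :=
  hM.pb par id (e := 1) Nat.prime_two ho p2slp p2chk (by decide +kernel)

def p3Tab : ℕ := nat_lit 0x40080001000000000
def p3QT : ℕ := nat_lit 0x20040000000000000
def p3GT : ℕ := nat_lit 0x10080000000000000
def p3As : List ℕ := [nat_lit 1153]
def p3Fs : List (ℕ × List ℕ × List ℕ) := [(nat_lit 2, [nat_lit 7, nat_lit 7, nat_lit 7], []), (nat_lit 2, [nat_lit 6, nat_lit 6, nat_lit 6], [])]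
def p3Mc : List ℕ := [nat_lit 0x700000, nat_lit 458752]
def p3Uc : List (ℕ × ℕ × ℕ) := [(nat_lit 256, nat_lit 3, nat_lit 2048)]
def p3Cs : List (List ℕ) := [[nat_lit 128], [nat_lit 8, nat_lit 2048]]
def p3Lv : List (ℕ × List ℕ) := [(nat_lit 32833, [nat_lit 1]), (nat_lit 36936, [nat_lit 6])]
theorem p3chk : check (nat_lit 3) (nat_lit 2) (nat_lit 2) (nat_lit 9) (nat_lit 8) (nat_lit 9) (nat_lit 4) p3Tab p3QT p3GT
    (Nat.mul (nat_lit 31) (Nat.div (Nat.shiftLeft (nat_lit 1) (nat_lit 72)) (nat_lit 511)))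
    p3As p3Fs p3Mc p3Uc (cfOf p3Cs) = true := by decide +kernel
def p3Ws : List (ℕ × List ℕ) := [(nat_lit 0, [nat_lit 0, nat_lit 0, nat_lit 0, nat_lit 0, nat_lit 1, nat_lit 0, nat_lit 1, nat_lit 0, nat_lit 0]), (nat_lit 1, [nat_lit 2, nat_lit 2, nat_lit 2, nat_lit 1, nat_lit 2, nat_lit 2, nat_lit 1, nat_lit 2, nat_lit 1]), (nat_lit 3, [nat_lit 3, nat_lit 2, nat_lit 3, nat_lit 3, nat_lit 2, nat_lit 3, nat_lit 3, nat_lit 2, nat_lit 2]), (nat_lit 4, [nat_lit 4, nat_lit 4, nat_lit 3, nat_lit 3, nat_lit 3, nat_lit 3, nat_lit 4, nat_lit 4, nat_lit 3]), (nat_lit 4, [nat_lit 4, nat_lit 4, nat_lit 5, nat_lit 5, nat_lit 4, nat_lit 5, nat_lit 5, nat_lit 4, nat_lit 4]), (nat_lit 6, [nat_lit 5, nat_lit 5, nat_lit 6, nat_lit 5, nat_lit 6, nat_lit 6, nat_lit 6, nat_lit 5, nat_lit 6]), (nat_lit 4, [nat_lit 0, nat_lit 3, nat_lit 6, nat_lit 0, nat_lit 2, nat_lit 3]), (nat_lit 3, [nat_lit 1, nat_lit 6, nat_lit 6, nat_lit 7, nat_lit 4, nat_lit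 3]), (nat_lit 3, [nat_lit 6, nat_lit 2, nat_lit 2, nat_lit 9, nat_lit 4, nat_lit 8]), (nat_lit 7, [nat_lit 10, nat_lit 8, nat_lit 10, nat_lit 5, nat_lit 10, nat_lit 10]), (nat_lit 5, [nat_lit 7, nat_lit 7, nat_lit 9, nat_lit 8, nat_lit 7, nat_lit 6]), (nat_lit 4, [nat_lit 1, nat_lit 1, nat_lit 4, nat_lit 4, nat_lit 3, nat_lit 2, nat_lit 4]), (nat_lit 4, [nat_lit 3, nat_lit 3, nat_lit 3, nat_lit 1, nat_lit 2, nat_lit 5, nat_lit 5]), (nat_lit 2, [nat_lit 3, nat_lit 4, nat_lit 4, nat_lit 2, nat_lit 4, nat_lit 6]), (nat_lit 4, [nat_lit 6, nat_lit 5, nat_lit 3, nat_lit 6, nat_lit 3, nat_lit 7]), (nat_lit 5, [nat_lit 5, nat_lit 6, nat_lit 4, nat_lit 6, nat_lit 5]), (nat_lit 9, [nat_lit 9, nat_lit 8, nat_lit 7, nat_lit 8, nat_lit 7, nat_lit 9]), (nat_lit 2, [nat_lit 3, nat_lit 1, nat_lit 2, nat_lit 5, nat_lit 0, nat_lit 5, nat_lit 5]), (nat_lit 14, [nat_lit 11, nat_lit 11, nat_lit 6, nat_lit 6, nat_lit 0, nat_lit 0]), (nat_lit 15,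 [nat_lit 12, nat_lit 7]), (nat_lit 16, [nat_lit 13, nat_lit 13, nat_lit 7, nat_lit 2])]
theorem p3slp : slpOK mu (fun _ => true) I gens p3Ws I (nat_lit 3) (nat_lit 2) (nat_lit 2) (nat_lit 9) (nat_lit 8) (nat_lit 3) p3Tab p3QT p3GT (nat_lit 5) p3Lv = true := by
  decide +kernel
theorem p3pb {G : Type*} [Group G] [Finite G] (hM : Mod G (nat_lit 6) (nat_lit 2) (nat_lit 3) gens) (ho : Nat.card G = 360) :
    PB 3 G [3] :=
  hM.pb par id (e := 1) Nat.prime_three ho p3slp p3chk (by decide +kernel)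
def cMASK : ℕ := nat_lit 0xff000000ff000000ff000000ff
def cQM : ℕ := nat_lit 0x7070707070707070707070707070707
def cI : ℕ := nat_lit 0x1000000000100000000010000000001
noncomputable abbrev cmu : ℕ → ℕ → ℕ := mulM (nat_lit 4) (nat_lit 3) (nat_lit 8) (nat_lit 11) (nat_lit 5) (nat_lit 32) (nat_lit 0x100000000) cMASK cQM
theorem cpar : parOK (nat_lit 4) (nat_lit 3) (nat_lit 8) (nat_lit 11) (nat_lit 5) (nat_lit 32) (nat_lit 0x100000000) cMASK cQM = true := by decide +kernel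
theorem cid : idOK (nat_lit 4) (nat_lit 3) (nat_lit 8) cI = true := by decide +kernel
def cB : ℕ := Nat.shiftLeft (nat_lit 1) (nat_lit 108)
def cgs : List ℕ := [nat_lit 0x2000201020000010102000002020201200009248201200040209000249, nat_lit 0x20102020001000001020000020001001201040049040040240249040]
def cZs : List ℕ := [nat_lit 0x1000000000100000000010000000001200001000008000040000200001, nat_lit 0x2000000000200000000020000000002200001000008000040000200001]
def cJ : ℕ := nat_lit 0x1000000000100000000010000000001200001000008000040000200001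
def cl0 : Lv := ⟨[(nat_lit 1, [nat_lit 1, nat_lit 0, nat_lit 1, nat_lit 1, nat_lit 0, nat_lit 0, nat_lit 0, nat_lit 1, nat_lit 0]), (nat_lit 2, [nat_lit 2, nat_lit 2, nat_lit 1, nat_lit 2, nat_lit 1, nat_lit 1, nat_lit 1, nat_lit 1])], nat_lit 2, nat_lit 32833, nat_lit 10,
  [(nat_lit 2, nat_lit 0x1000000000000), (nat_lit 1, nat_lit 65537), (nat_lit 1, nat_lit 65536), (nat_lit 1, nat_lit 0)],
  [nat_lit 0x2410141008100c10003024100400001, nat_lit 0x1c000400000000200000000, nat_lit 0x40000001c0000000800002, nat_lit 0x80000002410100000101410100000102410140004000c00003, nat_lit 0xc0000000c10000]⟩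
def cl1 : Lv := ⟨[(nat_lit 1, [nat_lit 1, nat_lit 1, nat_lit 0, nat_lit 1, nat_lit 0]), (nat_lit 2, [nat_lit 1, nat_lit 1, nat_lit 2, nat_lit 1, nat_lit 1, nat_lit 1])], nat_lit 2, nat_lit 36936, nat_lit 10,
  [(nat_lit 2, nat_lit 0x1000000000000), (nat_lit 1, nat_lit 1), (nat_lit 1, nat_lit 0)],
  [nat_lit 0x14100420000000200c100800001, nat_lit 0x10081000100000000, nat_lit 0x820040000100400000014100c000010141008300c00002, nat_lit 0x80000000810000]⟩
def cl2 : Lv := ⟨[], nat_lit 0, nat_lit 0x209048209, nat_lit 37,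
  [(nat_lit 2, nat_lit 0x1000000000000), (nat_lit 4, nat_lit 0x10000000000000001000100000001), (nat_lit 3, nat_lit 0x100020000000200010003), (nat_lit 2, nat_lit 0x1000200000002)],
  [nat_lit 0x81000000010080000100830000000100820001, nat_lit 0x100000001000100010000000000c10000000100c00001, nat_lit 0x4200000001010000010040000000410000000100410001004000000100000000420000, nat_lit 0x820000008300000080000000810000, nat_lit 0xc0000000c10000]⟩
noncomputable abbrev cpm : ℕ → ℕ → ℕ := pm mu cmu (nat_lit 108) cB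
theorem ccen : cenOK cpm (fun a => Nat.beq (Nat.mod a cB) I) cJ cgs [(nat_lit 1, [nat_lit 0, nat_lit 0, nat_lit 0, nat_lit 1]), (nat_lit 1, [nat_lit 1, nat_lit 1, nat_lit 1, nat_lit 2]), (nat_lit 0, [nat_lit 1, nat_lit 0, nat_lit 1, nat_lit 0, nat_lit 1, nat_lit 0, nat_lit 1, nat_lit 0, nat_lit 1, nat_lit 0, nat_lit 1, nat_lit 0, nat_lit 1, nat_lit 0, nat_lit 1, nat_lit 0, nat_lit 1, nat_lit 1, nat_lit 0])] (nat_lit 1)
    [(nat_lit 0, [nat_lit 0, nat_lit 0, nat_lit 0])] (nat_lit 3) (nat_lit 3) cZs = true := by decide +kernel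
theorem cgo : go cpm (fun c a => mu c (Nat.mod a cB)) cJ cZs [cl0, cl1, cl2] cgs
    (fun _ n => Nat.beq n 360) = true := by decide +kernel
theorem clb {G : Type*} [Group G] [Finite G] (hM : Mod G (nat_lit 6) (nat_lit 2) (nat_lit 3) gens) (ho : Nat.card G = 360) :
    LB G 2 :=
  hM.lb par id cpar cid (k := 6) ho (by decide +kernel) ccen cgo
def dMASK : ℕ := nat_lit 0x1c00070001c00070001c0007
def dQM : ℕ := nat_lit 0x6db6db6db6db6db6db6db6db6db
def dI : ℕ := nat_lit 0x200001000008000040000200001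
noncomputable abbrev dmu : ℕ → ℕ → ℕ := mulM (nat_lit 6) (nat_lit 2) (nat_lit 3) (nat_lit 1) (nat_lit 1) (nat_lit 18) (nat_lit 262144) dMASK dQM
theorem dpar : parOK (nat_lit 6) (nat_lit 2) (nat_lit 3) (nat_lit 1) (nat_lit 1) (nat_lit 18) (nat_lit 262144) dMASK dQM = true := by decide +kernel
theorem did : idOK (nat_lit 6) (nat_lit 2) (nat_lit 3) dI = true := by decide +kernel
def dB : ℕ := Nat.shiftLeft (nat_lit 1) (nat_lit 108)
def dgs : List ℕ := [nat_lit 0x240249240241248200209200001200009248201200040209000249, nat_lit 0x48208000240201048248001249001201040049040040240249040]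
def dZs : List ℕ := [nat_lit 0x200001000008000040000200001200001000008000040000200001, nat_lit 0x240249200041241008048208200001000008000040000200001, nat_lit 0x200241249208041201008248209200001000008000040000200001]
def dJ : ℕ := nat_lit 0x200001000008000040000200001200001000008000040000200001
def dl0 : Lv := ⟨[(nat_lit 0, [nat_lit 1, nat_lit 1, nat_lit 0, nat_lit 1, nat_lit 0, nat_lit 0, nat_lit 1, nat_lit 1, nat_lit 0, nat_lit 1, nat_lit 0]), (nat_lit 1, [nat_lit 1, nat_lit 2, nat_lit 1, nat_lit 2, nat_lit 2, nat_lit 2])], nat_lit 2, nat_lit 32833, nat_lit 10,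
  [(nat_lit 2, nat_lit 0x1000000000000), (nat_lit 1, nat_lit 65537), (nat_lit 1, nat_lit 65536), (nat_lit 1, nat_lit 0)],
  [nat_lit 0x2010101000000c1000300400000, nat_lit 0x201010100400000000300000000, nat_lit 0x40000000c0000100800002, nat_lit 0x800000010000000202014201000002004000c00001, nat_lit 0xc0000000c10000]⟩
def dl1 : Lv := ⟨[(nat_lit 0, [nat_lit 1, nat_lit 0, nat_lit 1, nat_lit 1, nat_lit 1, nat_lit 0, nat_lit 0, nat_lit 0]), (nat_lit 1, [nat_lit 1, nat_lit 1, nat_lit 1, nat_lit 2, nat_lit 1, nat_lit 2])], nat_lit 2, nat_lit 36936, nat_lit 10,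
  [(nat_lit 2, nat_lit 0x1000000000000), (nat_lit 2, nat_lit 65537)],
  [nat_lit 0x41000001420040008000020141000000000002008100010001, nat_lit 0x1000001420041004000020080000000000000, nat_lit 0x40000000410000]⟩
def dl2 : Lv := ⟨[], nat_lit 0, nat_lit 0x209048209, nat_lit 37,
  [(nat_lit 2, nat_lit 0x1000000000000), (nat_lit 4, nat_lit 0x10000000000000001000100000001), (nat_lit 4, nat_lit 0x10001000200010003), (nat_lit 1, nat_lit 2)],
  [nat_lit 0x100400001000100430001, nat_lit 0x10081000100020042000100c10000000000000000000000c00000000200410001000100820001, nat_lit 0x4300000100000000420000000200800001000200830001004100000100000000400000, nat_lit 0x820000008300000080000000810000, nat_lit 0xc0000000c10000]⟩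
noncomputable abbrev dpm : ℕ → ℕ → ℕ := pm mu dmu (nat_lit 108) dB
theorem dcen : cenOK dpm (fun a => Nat.beq (Nat.mod a dB) I) dJ dgs [(nat_lit 0, [nat_lit 0, nat_lit 0, nat_lit 1, nat_lit 1, nat_lit 1, nat_lit 0, nat_lit 1]), (nat_lit 2, [nat_lit 2, nat_lit 1, nat_lit 2, nat_lit 1, nat_lit 1, nat_lit 1, nat_lit 2]), (nat_lit 0, [nat_lit 1, nat_lit 0, nat_lit 1, nat_lit 0, nat_lit 1, nat_lit 0, nat_lit 1, nat_lit 1, nat_lit 0])] (nat_lit 1)
    [(nat_lit 0, [nat_lit 0]), (nat_lit 0, [nat_lit 0])] (nat_lit 4) (nat_lit 7) dZs = true := by decide +kernel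
theorem dgo : go dpm (fun c a => mu c (Nat.mod a dB)) dJ dZs [dl0, dl1, dl2] dgs
    (fun _ n => Nat.beq n 360) = true := by decide +kernel
theorem dlb {G : Type*} [Group G] [Finite G] (hM : Mod G (nat_lit 6) (nat_lit 2) (nat_lit 3) gens) (ho : Nat.card G = 360) :
    LB G 3 :=
  hM.lb par id dpar did (k := 2) ho (by decide +kernel) dcen dgo
theorem mult : HasCyclicSchurMultiplier (alternatingGroup (Fin 6)) 6 := by
  have h := H56.Alt.a6_card
  refine mult_cyclic2 (a := 2) (b := 3) (UB.of_PB_fac [(2, [2]), (3, [3])] ?_ [(2, 3), (3, 2), (5, 1)] 360 h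
    (by norm_num) (by simp only [List.forall_mem_cons]; norm_num)) (by norm_num) (clb (md md0) h) (dlb (md md0) h)
  simp only [List.forall_mem_cons]
  exact ⟨p2pb (md md0) h, p3pb (md md0) h, by simp⟩

end Cfsg.Agent.H63.A6
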