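/-
The multiplier of A7 (generated certificates).
-/
import Cfsg.Agent.H63.PMod
import Cfsg.Agent.H63.Mod2
import Cfsg.Agent.H56.Mod.Alt

set_option autoImplicit false
set_option maxRecDepth 100000

namespace Cfsg.Agent.H63.A7

open H14

def MASK : ℕ := nat_lit 0x1c0000e000070000380001c0000e00007
def QM : ℕ := nat_lit 0x36db6db6db6db6db6db6db6db6db6db6db6db
def I : ℕ := nat_lit 0x1000001000001000001000001000001000001
noncomputable abbrev mu : ℕ → ℕ → ℕ := mulM (nat_lit 7) (nat_lit 2) (nat_lit 3) (nat_lit 1) (nat_lit 1) (nat_lit 21) (nat_lit 0x200000) MASK QM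
theorem par : parOK (nat_lit 7) (nat_lit 2) (nat_lit 3) (nat_lit 1) (nat_lit 1) (nat_lit 21) (nat_lit 0x200000) MASK QM = true := by decide +kernel
theorem id : idOK (nat_lit 7) (nat_lit 2) (nat_lit 3) I = true := by decide +kernel
def gens0 : List ℕ := [nat_lit 0x200000001001000001000001008000000001, nat_lit 0x8001000000001000200040000001040000]
theorem md0 : Mod (alternatingGroup (Fin 7)) (nat_lit 7) (nat_lit 2) (nat_lit 3) gens0 :=
  mod_chain H56.Alt.a7E (As := List.zip [nat_lit 0x14c6b0, nat_lit 951566] gens0) H56.Alt.a7_chain (by decide +kernel)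
def gens : List ℕ := [nat_lit 0x1249041000001000001000248041249208009, nat_lit 0x200009248001248209040241008249048249]
theorem md {G : Type*} [Group G] (h : Mod G (nat_lit 7) (nat_lit 2) (nat_lit 3) gens0) : Mod G (nat_lit 7) (nat_lit 2) (nat_lit 3) gens :=
  h.conj par id (P := nat_lit 0x1241208041201048041000201209040249040)
    (Q := nat_lit 0x240249001249049241048201208000209201) (by decide +kernel)

def p2Tab : ℕ := nat_lit 0x101c050100000c0100001004000000000000
def p2QT : ℕ := nat_lit 0x600404004000000000000000000000000000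
def p2GT : ℕ := nat_lit 0x40100300c000000000000000000000000000
def p2As : List ℕ := [nat_lit 290, nat_lit 146, nat_lit 289]
def p2Fs : List (ℕ × List ℕ × List ℕ) := [(nat_lit 4, [nat_lit 13, nat_lit 13], []), (nat_lit 4, [nat_lit 14, nat_lit 14], []), (nat_lit 3, [nat_lit 12, nat_lit 12], []), (nat_lit 3, [nat_lit 11, nat_lit 11], [])]
def p2Mc : List ℕ := [nat_lit 0x844000, nat_lit 0x2c44000, nat_lit 16384]
def p2Uc : List (ℕ × ℕ × ℕ) := [(nat_lit 0x2890000, nat_lit 2, nat_lit 778)]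
def p2Cs : List (List ℕ) := [[nat_lit 62439], [nat_lit 12288, nat_lit 4161], [nat_lit 13261, nat_lit 0, nat_lit 62435]]
def p2Lv : List (ℕ × List ℕ) := [(nat_lit 4168, [nat_lit 2]), (nat_lit 295425, [nat_lit 1, nat_lit 4])]
theorem p2chk : check (nat_lit 2) (nat_lit 1) (nat_lit 3) (nat_lit 10) (nat_lit 15) (nat_lit 4) (nat_lit 2) p2Tab p2QT p2GT
    (Nat.mul (nat_lit 255) (Nat.div (Nat.shiftLeft (nat_lit 1) (nat_lit 150)) (nat_lit 1023)))
    p2As p2Fs p2Mc p2Uc (cfOf p2Cs) = true := by decide +kernel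
def p2Ws : List (ℕ × List ℕ) := [(nat_lit 0, [nat_lit 0, nat_lit 0, nat_lit 0, nat_lit 0, nat_lit 1, nat_lit 0, nat_lit 1, nat_lit 0, nat_lit 0]), (nat_lit 1, [nat_lit 2, nat_lit 2, nat_lit 2, nat_lit 1, nat_lit 2, nat_lit 2, nat_lit 1, nat_lit 2, nat_lit 1]), (nat_lit 3, [nat_lit 3, nat_lit 2, nat_lit 3, nat_lit 3, nat_lit 2, nat_lit 3, nat_lit 3, nat_lit 2, nat_lit 2]), (nat_lit 4, [nat_lit 4, nat_lit 4, nat_lit 3, nat_lit 3, nat_lit 3, nat_lit 3, nat_lit 4, nat_lit 4, nat_lit 3]), (nat_lit 4, [nat_lit 4, nat_lit 4, nat_lit 5, nat_lit 5, nat_lit 4, nat_lit 5, nat_lit 5, nat_lit 4, nat_lit 4]), (nat_lit 6, [nat_lit 5, nat_lit 5, nat_lit 6, nat_lit 5, nat_lit 6, nat_lit 6, nat_lit 6, nat_lit 5, nat_lit 6]), (nat_lit 4, [nat_lit 0, nat_lit 3, nat_lit 6, nat_lit 0, nat_lit 2, nat_lit 3]), (nat_lit 3, [nat_lit 1, nat_lit 6, nat_lit 6, nat_lit 7, nat_lit 4, nat_lit 2]), (nat_lit 3, [nat_lit 6, nat_lit 2, nat_lit 2, nat_lit 9, nat_lit 4, nat_lit 6, nat_lit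 9]), (nat_lit 7, [nat_lit 10, nat_lit 8, nat_lit 10, nat_lit 5, nat_lit 10]), (nat_lit 5, [nat_lit 7, nat_lit 7, nat_lit 9, nat_lit 8, nat_lit 7, nat_lit 9]), (nat_lit 9, [nat_lit 9, nat_lit 10, nat_lit 6, nat_lit 5, nat_lit 11, nat_lit 12]), (nat_lit 3, [nat_lit 3, nat_lit 3, nat_lit 0, nat_lit 3, nat_lit 0, nat_lit 5]), (nat_lit 4, [nat_lit 6, nat_lit 1, nat_lit 4, nat_lit 2, nat_lit 4, nat_lit 2, nat_lit 5]), (nat_lit 2, [nat_lit 7, nat_lit 6, nat_lit 4, nat_lit 4, nat_lit 6, nat_lit 3, nat_lit 6]), (nat_lit 6, [nat_lit 5, nat_lit 3, nat_lit 3, nat_lit 4, nat_lit 5, nat_lit 5]), (nat_lit 4, [nat_lit 6, nat_lit 8, nat_lit 4, nat_lit 7, nat_lit 6, nat_lit 5, nat_lit 8]), (nat_lit 6, [nat_lit 7, nat_lit 8, nat_lit 7, nat_lit 5, nat_lit 9, nat_lit 9]), (nat_lit 2, [nat_lit 3, nat_lit 1, nat_lit 2, nat_lit 5, nat_lit 0]), (nat_lit 1, [nat_lit 4, nat_lit 2, nat_lit 3, nat_lit 3, nat_lit 6]), (nat_lit 2, [nat_lit 2, nat_lit 6, nat_lit 3, nat_lit 3, nat_lit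 4, nat_lit 6]), (nat_lit 5, [nat_lit 8, nat_lit 4, nat_lit 8, nat_lit 4, nat_lit 3, nat_lit 7]), (nat_lit 5, [nat_lit 8, nat_lit 5, nat_lit 5, nat_lit 4, nat_lit 7, nat_lit 6]), (nat_lit 6, [nat_lit 6, nat_lit 7, nat_lit 10, nat_lit 9, nat_lit 9, nat_lit 7]), (nat_lit 4, [nat_lit 1, nat_lit 0, nat_lit 2, nat_lit 0, nat_lit 5, nat_lit 3]), (nat_lit 4, [nat_lit 5, nat_lit 1, nat_lit 5, nat_lit 2, nat_lit 2, nat_lit 3]), (nat_lit 16, [nat_lit 12, nat_lit 5, nat_lit 0]), (nat_lit 28, [nat_lit 19, nat_lit 11, nat_lit 5, nat_lit 2]), (nat_lit 20, [nat_lit 12, nat_lit 7, nat_lit 2]), (nat_lit 22, [nat_lit 10, nat_lit 4]), (nat_lit 19, [nat_lit 22, nat_lit 17, nat_lit 8, nat_lit 4])]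
theorem p2slp : slpOK mu (fun _ => true) I gens p2Ws I (nat_lit 2) (nat_lit 1) (nat_lit 3) (nat_lit 10) (nat_lit 15) (nat_lit 5) p2Tab p2QT p2GT (nat_lit 17) p2Lv = true := by
  decide +kernel
theorem p2pb {G : Type*} [Group G] [Finite G] (hM : Mod G (nat_lit 7) (nat_lit 2) (nat_lit 3) gens) (ho : Nat.card G = 2520) :
    PB 2 G [2] :=
  hM.pb par id (e := 1) Nat.prime_two ho p2slp p2chk (by decide +kernel)

def p3Tab : ℕ := nat_lit 0x180a000010000000000
def p3QT : ℕ := nat_lit 0x1001000000000000000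
def p3GT : ℕ := nat_lit 0x802000000000000000
def p3As : List ℕ := [nat_lit 1153]
def p3Fs : List (ℕ × List ℕ × List ℕ) := [(nat_lit 2, [nat_lit 6, nat_lit 6, nat_lit 6], []), (nat_lit 2, [nat_lit 7, nat_lit 7, nat_lit 7], [])]
def p3Mc : List ℕ := [nat_lit 0x880000, nat_lit 0x800000]
def p3Uc : List (ℕ × ℕ × ℕ) := [(nat_lit 256, nat_lit 3, nat_lit 2048)]
def p3Cs : List (List ℕ) := [[nat_lit 70], [nat_lit 8, nat_lit 1136]]
def p3Lv : List (ℕ × List ℕ) := [(nat_lit 299072, [nat_lit 1]), (nat_lit 295425, [nat_lit 6])]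
theorem p3chk : check (nat_lit 3) (nat_lit 2) (nat_lit 2) (nat_lit 10) (nat_lit 8) (nat_lit 9) (nat_lit 4) p3Tab p3QT p3GT
    (Nat.mul (nat_lit 63) (Nat.div (Nat.shiftLeft (nat_lit 1) (nat_lit 80)) (nat_lit 1023)))
    p3As p3Fs p3Mc p3Uc (cfOf p3Cs) = true := by decide +kernel
def p3Ws : List (ℕ × List ℕ) := [(nat_lit 0, [nat_lit 0, nat_lit 0, nat_lit 0, nat_lit 0, nat_lit 1, nat_lit 0, nat_lit 1, nat_lit 0, nat_lit 0]), (nat_lit 1, [nat_lit 2, nat_lit 2, nat_lit 2, nat_lit 1, nat_lit 2, nat_lit 2, nat_lit 1, nat_lit 2, nat_lit 1]), (nat_lit 3, [nat_lit 3, nat_lit 2, nat_lit 3, nat_lit 3, nat_lit 2, nat_lit 3, nat_lit 3, nat_lit 2, nat_lit 2]), (nat_lit 4, [nat_lit 4, nat_lit 4, nat_lit 3, nat_lit 3, nat_lit 3, nat_lit 3, nat_lit 4, nat_lit 4, nat_lit 3]), (nat_lit 4, [nat_lit 4, nat_lit 4, nat_lit 5, nat_lit 5, nat_lit 4, nat_lit 5, nat_lit 5, nat_lit 4, nat_lit 4]), (nat_lit 6, [nat_lit 5, nat_lit 5, nat_lit 6, nat_lit 5, nat_lit 6, nat_lit 6, nat_lit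 6, nat_lit 5, nat_lit 6]), (nat_lit 4, [nat_lit 0, nat_lit 3, nat_lit 6, nat_lit 0, nat_lit 2, nat_lit 3]), (nat_lit 3, [nat_lit 1, nat_lit 6, nat_lit 6, nat_lit 7, nat_lit 4, nat_lit 2]), (nat_lit 3, [nat_lit 6, nat_lit 2, nat_lit 2, nat_lit 9, nat_lit 4, nat_lit 6, nat_lit 9]), (nat_lit 7, [nat_lit 10, nat_lit 8, nat_lit 10, nat_lit 5, nat_lit 10]), (nat_lit 5, [nat_lit 7, nat_lit 7, nat_lit 9, nat_lit 8, nat_lit 7, nat_lit 9]), (nat_lit 9, [nat_lit 9, nat_lit 10, nat_lit 6, nat_lit 5, nat_lit 11, nat_lit 12]), (nat_lit 3, [nat_lit 3, nat_lit 3, nat_lit 0, nat_lit 3, nat_lit 0, nat_lit 5]), (nat_lit 4, [nat_lit 6, nat_lit 1, nat_lit 4, nat_lit 2, nat_lit 4, nat_lit 2, nat_lit 5]), (nat_lit 2, [nat_lit 7, nat_lit 6, nat_lit 4, nat_lit 4, nat_lit 6, nat_lit 3, nat_lit 6]), (nat_lit 6, [nat_lit 5, nat_lit 3, nat_lit 3, nat_lit 4, nat_lit 5, nat_lit 5]), (nat_lit 4, [nat_lit 6, nat_lit 8, nat_lit 4, nat_lit 7, nat_lit 6, nat_lit 5, nat_lit 8]), (nat_lit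 6, [nat_lit 7, nat_lit 8, nat_lit 7, nat_lit 5, nat_lit 9, nat_lit 9]), (nat_lit 2, [nat_lit 3, nat_lit 1, nat_lit 2, nat_lit 5, nat_lit 0]), (nat_lit 1, [nat_lit 4, nat_lit 2, nat_lit 3, nat_lit 3, nat_lit 6]), (nat_lit 2, [nat_lit 2, nat_lit 6, nat_lit 3, nat_lit 3, nat_lit 4, nat_lit 6]), (nat_lit 5, [nat_lit 8, nat_lit 4, nat_lit 8, nat_lit 4, nat_lit 3, nat_lit 7]), (nat_lit 5, [nat_lit 8, nat_lit 5, nat_lit 5, nat_lit 4, nat_lit 7, nat_lit 6]), (nat_lit 6, [nat_lit 6, nat_lit 7, nat_lit 10, nat_lit 9, nat_lit 9, nat_lit 7]), (nat_lit 4, [nat_lit 1, nat_lit 0, nat_lit 2, nat_lit 0, nat_lit 5, nat_lit 3]), (nat_lit 4, [nat_lit 5, nat_lit 1, nat_lit 5, nat_lit 2, nat_lit 2, nat_lit 3]), (nat_lit 25, [nat_lit 18, nat_lit 19, nat_lit 10, nat_lit 1]), (nat_lit 26, [nat_lit 28, nat_lit 20, nat_lit 11, nat_lit 8, nat_lit 2]), (nat_lit 27, [nat_lit 29, nat_lit 20, nat_lit 6, nat_lit 2])]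
theorem p3slp : slpOK mu (fun _ => true) I gens p3Ws I (nat_lit 3) (nat_lit 2) (nat_lit 2) (nat_lit 10) (nat_lit 8) (nat_lit 3) p3Tab p3QT p3GT (nat_lit 3) p3Lv = true := by
  decide +kernel
theorem p3pb {G : Type*} [Group G] [Finite G] (hM : Mod G (nat_lit 7) (nat_lit 2) (nat_lit 3) gens) (ho : Nat.card G = 2520) :
    PB 3 G [3] :=
  hM.pb par id (e := 1) Nat.prime_three ho p3slp p3chk (by decide +kernel)
def cMASK : ℕ := nat_lit 0x7fff000000000007fff000000000007fff000000000007fff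
def cQM : ℕ := nat_lit 0x3e007c00f801f003e007c00f801f003e007c00f801f003e007c00f801f
def cI : ℕ := nat_lit 0x200000000000000000040000000000000000008000000000000000001
noncomputable abbrev cmu : ℕ → ℕ → ℕ := mulM (nat_lit 4) (nat_lit 7) (nat_lit 15) (nat_lit 147) (nat_lit 10) (nat_lit 60) (nat_lit 0x1000000000000000) cMASK cQM
theorem cpar : parOK (nat_lit 4) (nat_lit 7) (nat_lit 15) (nat_lit 147) (nat_lit 10) (nat_lit 60) (nat_lit 0x1000000000000000) cMASK cQM = true := by decide +kernel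
theorem cid : idOK (nat_lit 4) (nat_lit 7) (nat_lit 15) cI = true := by decide +kernel
def cB : ℕ := Nat.shiftLeft (nat_lit 1) (nat_lit 147)
def cgs : List ℕ := [nat_lit 0x5000c00080000002000000140028003000600000030003000000040001249041000001000001000248041249208009, nat_lit 0x3000600100010000000c000c0000006000c00080030006000400100010200009248001248209040241008249048249]
def cZs : List ℕ := [nat_lit 0x1000000000000000000200000000000000000040000000000000000009000001000001000001000001000001000001, nat_lit 0x6000000000000000000c00000000000000000180000000000000000031000001000001000001000001000001000001]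
def cJ : ℕ := nat_lit 0x1000000000000000000200000000000000000040000000000000000009000001000001000001000001000001000001
def cl0 : Lv := ⟨[(nat_lit 1, [nat_lit 1, nat_lit 1, nat_lit 1, nat_lit 0, nat_lit 0, nat_lit 1]), (nat_lit 2, [nat_lit 1, nat_lit 2, nat_lit 1, nat_lit 1, nat_lit 2, nat_lit 2, nat_lit 2, nat_lit 2])], nat_lit 2, nat_lit 299072, nat_lit 19,
  [(nat_lit 1, nat_lit 65536), (nat_lit 2, nat_lit 0x1000000000000), (nat_lit 2, nat_lit 0x1000000000001), (nat_lit 1, nat_lit 65536)],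
  [nat_lit 0x1000000008000000001, nat_lit 0x341028201810041000300c0000000000000034102410141004000400004, nat_lit 0xc000810001004100000040000002820180000000800003, nat_lit 0x80000000810000, nat_lit 0xc000000241014100c001000003]⟩
def cl1 : Lv := ⟨[(nat_lit 0, [nat_lit 0, nat_lit 0, nat_lit 0, nat_lit 1, nat_lit 0, nat_lit 0]), (nat_lit 1, [nat_lit 1, nat_lit 2, nat_lit 2, nat_lit 2, nat_lit 2, nat_lit 1, nat_lit 2, nat_lit 1])], nat_lit 2, nat_lit 295425, nat_lit 19,
  [(nat_lit 2, nat_lit 0x1000000000000), (nat_lit 1, nat_lit 1), (nat_lit 1, nat_lit 65536), (nat_lit 1, nat_lit 65536)],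
  [nat_lit 0x201014200400100000302010181000100000003, nat_lit 0x201010200400002, nat_lit 0x40000001000000, nat_lit 0x4100c100010080000002010143000000800003018100c00001, nat_lit 0xc0000000c10000]⟩
def cl2 : Lv := ⟨[(nat_lit 0, [nat_lit 0, nat_lit 0, nat_lit 1, nat_lit 1, nat_lit 0, nat_lit 1, nat_lit 0, nat_lit 1]), (nat_lit 2, [nat_lit 1, nat_lit 1, nat_lit 2, nat_lit 2, nat_lit 1, nat_lit 2, nat_lit 2])], nat_lit 2, nat_lit 32840, nat_lit 17,
  [(nat_lit 2, nat_lit 0x1000000000000), (nat_lit 2, nat_lit 1)],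
  [nat_lit 0x141004300800002014100c10040000200c1000000010141008300800002, nat_lit 0x1410040004100020001000000400001000100000000, nat_lit 0x40000000410000]⟩
def cl3 : Lv := ⟨[], nat_lit 0, nat_lit 0x209008200, nat_lit 22,
  [(nat_lit 2, nat_lit 0x1000000000000), (nat_lit 4, nat_lit 0x10000000000000001000100000001), (nat_lit 4, nat_lit 0x10001000200010003), (nat_lit 1, nat_lit 2)],
  [nat_lit 0x10040000100430000, nat_lit 0x81000000420000000100c100010000000000010000000100c0000000010041000100820000, nat_lit 0x4300000100000000420000008000000001008300010041000000010100000100400000, nat_lit 0x820000008300000080000000810000, nat_lit 0xc0000000c10000]⟩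
noncomputable abbrev cpm : ℕ → ℕ → ℕ := pm mu cmu (nat_lit 147) cB
theorem ccen : cenOK cpm (fun a => Nat.beq (Nat.mod a cB) I) cJ cgs [(nat_lit 1, [nat_lit 0, nat_lit 0, nat_lit 0, nat_lit 1]), (nat_lit 1, [nat_lit 1, nat_lit 1, nat_lit 1, nat_lit 2]), (nat_lit 0, [nat_lit 1, nat_lit 0, nat_lit 1, nat_lit 0, nat_lit 1, nat_lit 0, nat_lit 1, nat_lit 0, nat_lit 1, nat_lit 0, nat_lit 1, nat_lit 1, nat_lit 0])] (nat_lit 1)
    [(nat_lit 0, [nat_lit 0, nat_lit 0])] (nat_lit 3) (nat_lit 7) cZs = true := by decide +kernel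
theorem cgo : go cpm (fun c a => mu c (Nat.mod a cB)) cJ cZs [cl0, cl1, cl2, cl3] cgs
    (fun _ n => Nat.beq n 2520) = true := by decide +kernel
theorem clb {G : Type*} [Group G] [Finite G] (hM : Mod G (nat_lit 7) (nat_lit 2) (nat_lit 3) gens) (ho : Nat.card G = 2520) :
    LB G 2 :=
  hM.lb par id cpar cid (k := 13) ho (by decide +kernel) ccen cgo
def dMASK : ℕ := nat_lit 0xf00000000000f00000000000f00000000000f00000000000f00000000000f00000000000f00000000000f00000000000f00000000000f00000000000f00000000000f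
def dQM : ℕ := nat_lit 0x777777777777777777777777777777777777777777777777777777777777777777777777777777777777777777777777777777777777777777777777777777777777777777777777
def dI : ℕ := nat_lit 0x100000000000010000000000001000000000000100000000000010000000000001000000000000100000000000010000000000001000000000000100000000000010000000000001
noncomputable abbrev dmu : ℕ → ℕ → ℕ := mulM (nat_lit 12) (nat_lit 2) (nat_lit 4) (nat_lit 1) (nat_lit 1) (nat_lit 48) (nat_lit 0x1000000000000) dMASK dQM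
theorem dpar : parOK (nat_lit 12) (nat_lit 2) (nat_lit 4) (nat_lit 1) (nat_lit 1) (nat_lit 48) (nat_lit 0x1000000000000) dMASK dQM = true := by decide +kernel
theorem did : idOK (nat_lit 12) (nat_lit 2) (nat_lit 4) dI = true := by decide +kernel
def dB : ℕ := Nat.shiftLeft (nat_lit 1) (nat_lit 147)
def dgs : List ℕ := [nat_lit 0x800888008088800800800080000880088080088080888808808888080800800888808088800008800000880008880888080800880000000888808888088888080000880800880881249041000001000001000248041249208009, nat_lit 0x80000888088080000888800088080800888008800880800888888888880880880808080808008800888008008880800088888880808888088888088888888800000800088080080200009248001248209040241008249048249]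
def dZs : List ℕ := [nat_lit 0x800000000000080000000000008000000000000800000000000080000000000008000000000000800000000000080000000000008000000000000800000000000080000000000009000001000001000001000001000001000001, nat_lit 0x808888088008000008808008800000000880880880800080080808000880800888080080888008008800008088000888080008808808000008800808000880888080088880088081000001000001000001000001000001000001, nat_lit 0x8888088008080008808008808000000880880080800080080888000880800880080080888008808800008088080888080008800808000008800008000880888000088880088089000001000001000001000001000001000001]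
def dJ : ℕ := nat_lit 0x800000000000080000000000008000000000000800000000000080000000000008000000000000800000000000080000000000008000000000000800000000000080000000000009000001000001000001000001000001000001
def dl0 : Lv := ⟨[(nat_lit 0, [nat_lit 1, nat_lit 0, nat_lit 1, nat_lit 1, nat_lit 1, nat_lit 1, nat_lit 1, nat_lit 0, nat_lit 0, nat_lit 1, nat_lit 1, nat_lit 1, nat_lit 1]), (nat_lit 1, [nat_lit 2, nat_lit 1, nat_lit 2, nat_lit 2, nat_lit 2, nat_lit 1, nat_lit 1, nat_lit 2, nat_lit 2, nat_lit 2, nat_lit 2])], nat_lit 2, nat_lit 299072, nat_lit 19,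
  [(nat_lit 1, nat_lit 65536), (nat_lit 2, nat_lit 0x1000000000000), (nat_lit 2, nat_lit 0x1000000000001), (nat_lit 1, nat_lit 65536)],
  [nat_lit 0x1000000030202010101004000000004, nat_lit 0x20201000041000200c0000000000000030202030140000000400004, nat_lit 0x2020100008100810003004100000040000002030140008000800003, nat_lit 0x80000000810000, nat_lit 0xc00000008101000001]⟩
def dl1 : Lv := ⟨[(nat_lit 1, [nat_lit 0, nat_lit 0, nat_lit 1, nat_lit 0, nat_lit 1]), (nat_lit 2, [nat_lit 2, nat_lit 2, nat_lit 1, nat_lit 2, nat_lit 1])], nat_lit 2, nat_lit 295425, nat_lit 19,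
  [(nat_lit 2, nat_lit 0x1000000000000), (nat_lit 2, nat_lit 0x1000000000001), (nat_lit 1, nat_lit 65537)],
  [nat_lit 0x202010200010081000300c1004000000002, nat_lit 0xc0000000c00000020100c0000000400003, nat_lit 0x4000410001004100000040000002010181000100800003, nat_lit 0x80000000810000]⟩
def dl2 : Lv := ⟨[(nat_lit 0, [nat_lit 1, nat_lit 1, nat_lit 1, nat_lit 0, nat_lit 0, nat_lit 1, nat_lit 1]), (nat_lit 1, [nat_lit 2, nat_lit 2, nat_lit 2, nat_lit 2, nat_lit 1, nat_lit 1])], nat_lit 2, nat_lit 32840, nat_lit 17,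
  [(nat_lit 2, nat_lit 0x1000000000000), (nat_lit 2, nat_lit 0x1000000000001)],
  [nat_lit 0x14100810080000200010000000101410041004100020142004100400002, nat_lit 0x14100c1000100020001000000000000014200c000800002, nat_lit 0x40000000410000]⟩
def dl3 : Lv := ⟨[], nat_lit 0, nat_lit 0x209008200, nat_lit 22,
  [(nat_lit 2, nat_lit 0x1000000000000), (nat_lit 3, nat_lit 0x100000000000000010001), (nat_lit 4, nat_lit 0x100010001000200000002), (nat_lit 2, nat_lit 0x1000000010001)],
  [nat_lit 0x810000000000000043000000010000, nat_lit 0x4000000082000000c100000041000000010000004200000000000000800000, nat_lit 0x420000004300000041000000c000000100000000400000, nat_lit 0x820000010000000080000000810000, nat_lit 0xc0000000c10000]⟩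
noncomputable abbrev dpm : ℕ → ℕ → ℕ := pm mu dmu (nat_lit 147) dB
theorem dcen : cenOK dpm (fun a => Nat.beq (Nat.mod a dB) I) dJ dgs [(nat_lit 1, [nat_lit 0, nat_lit 0, nat_lit 1, nat_lit 1, nat_lit 1]), (nat_lit 2, [nat_lit 1, nat_lit 2, nat_lit 2, nat_lit 1]), (nat_lit 0, [nat_lit 1, nat_lit 0, nat_lit 1, nat_lit 0, nat_lit 1, nat_lit 0, nat_lit 1, nat_lit 0, nat_lit 1, nat_lit 1, nat_lit 0])] (nat_lit 1)
    [(nat_lit 0, [nat_lit 0, nat_lit 0, nat_lit 0, nat_lit 0, nat_lit 0, nat_lit 0]), (nat_lit 0, [nat_lit 0])] (nat_lit 4) (nat_lit 7) dZs = true := by decide +kernel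
theorem dgo : go dpm (fun c a => mu c (Nat.mod a dB)) dJ dZs [dl0, dl1, dl2, dl3] dgs
    (fun _ n => Nat.beq n 2520) = true := by decide +kernel
theorem dlb {G : Type*} [Group G] [Finite G] (hM : Mod G (nat_lit 7) (nat_lit 2) (nat_lit 3) gens) (ho : Nat.card G = 2520) :
    LB G 3 :=
  hM.lb par id dpar did (k := 13) ho (by decide +kernel) dcen dgo
theorem mult : HasCyclicSchurMultiplier (alternatingGroup (Fin 7)) 6 := by
  have h := H56.Alt.a7_card
  refine mult_cyclic2 (a := 2) (b := 3) (UB.of_PB_fac [(2, [2]), (3, [3])] ?_ [(2, 3), (3, 2), (5, 1), (7, 1)] 2520 h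
    (by norm_num) (by simp only [List.forall_mem_cons]; norm_num)) (by norm_num) (clb (md md0) h) (dlb (md md0) h)
  simp only [List.forall_mem_cons]
  exact ⟨p2pb (md md0) h, p3pb (md md0) h, by simp⟩

end Cfsg.Agent.H63.A7
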