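/-
Bounds for the Schur multiplier of HS (generated certificates).
-/
import Cfsg.Agent.H63.Leech3

set_option autoImplicit false
set_option maxRecDepth 100000

namespace Cfsg.Agent.H63.Le

open H14

def hsp2Tab : ℕ := nat_lit 0xbb81a102b800b80b8003c000201c002a80d4003e00180050002000600d002c8124000a0154003001600020004050005000400044006000500060004000001f00900090008800b000c000800080000000005c0130010001000100010001000000000000000002000280028002000200000000000000000040040004000400040000000000000000000003000800080008000000000000000000000000040010001000000000000000000000000000000000200000000000000000000000000000000000000000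
def hsp2QT : ℕ := nat_lit 0xa400c8005000400020002000202000200020002000200020002000204000200020002000200020002000200000000000000000000000000000000000000000000000000000000000000000000000000000000000000000000000000000000000000000000000000000000000000000000000000000000000000000000000000000000000000000000000000000000000000000000000000000000000000000000000000000000000000000000000000000000000000000000000000000000000000000000000
def hsp2GT : ℕ := nat_lit 0x5800b0016002c005800b00160028005000a00140028005000a001400240048009001200240048009001200000000000000000000000000000000000000000000000000000000000000000000000000000000000000000000000000000000000000000000000000000000000000000000000000000000000000000000000000000000000000000000000000000000000000000000000000000000000000000000000000000000000000000000000000000000000000000000000000000000000000000000000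
def hsp2As : List ℕ := [nat_lit 0x4010080, nat_lit 0x2008040, nat_lit 0x4010040, nat_lit 0x4010008, nat_lit 0x2010080, nat_lit 0x2004008, nat_lit 0x2001008, nat_lit 0x4010010, nat_lit 0x4010020, nat_lit 0x4004008, nat_lit 0x4010002, nat_lit 0x4008008, nat_lit 0x4008002, nat_lit 0x2008010, nat_lit 0x2008004, nat_lit 0x1008040, nat_lit 0x1004010, nat_lit 0x4020040, nat_lit 0x4020008, nat_lit 0x2000804, nat_lit 0x4020080, nat_lit 0x2004020, nat_lit 0x2002010, nat_lit 0x802008, nat_lit 0x1001008, nat_lit 0x401008, nat_lit 0x201004, nat_lit 0x4020010, nat_lit 0x4020004, nat_lit 0x4000402, nat_lit 0x201008, nat_lit 0x1002010, nat_lit 0x1000804, nat_lit 0x200804, nat_lit 0x4020020, nat_lit 0x402008, nat_lit 0x100802, nat_lit 0x804008, nat_lit 0x804004, nat_lit 0x4020100, nat_lit 0x4004020, nat_lit 0x402010, nat_lit 0x100804, nat_lit 0x100402]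
def hsp2Fs : List (ℕ × List ℕ × List ℕ) := [(nat_lit 11, [nat_lit 104, nat_lit 105], [nat_lit 105, nat_lit 104, nat_lit 103, nat_lit 102, nat_lit 101, nat_lit 100, nat_lit 99]), (nat_lit 11, [nat_lit 105, nat_lit 105], [nat_lit 99]), (nat_lit 11, [nat_lit 104, nat_lit 104], [nat_lit 100, nat_lit 99]), (nat_lit 11, [nat_lit 101, nat_lit 104], [nat_lit 104, nat_lit 101, nat_lit 100]), (nat_lit 11, [nat_lit 103, nat_lit 103], [nat_lit 99]), (nat_lit 11, [nat_lit 102, nat_lit 104], [nat_lit 104, nat_lit 102, nat_lit 99]), (nat_lit 11, [nat_lit 101, nat_lit 102], [nat_lit 102, nat_lit 101]), (nat_lit 11, [nat_lit 101, nat_lit 101], [nat_lit 99]), (nat_lit 11, [nat_lit 100, nat_lit 100], []), (nat_lit 11, [nat_lit 102, nat_lit 102], [nat_lit 99]), (nat_lit 10, [nat_lit 96, nat_lit 97], [nat_lit 97, nat_lit 96, nat_lit 93, nat_lit 92]), (nat_lit 10, [nat_lit 97, nat_lit 98], [nat_lit 98, nat_lit 97, nat_lit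 94]), (nat_lit 10, [nat_lit 98, nat_lit 98], [nat_lit 95, nat_lit 94, nat_lit 93, nat_lit 92, nat_lit 91]), (nat_lit 10, [nat_lit 97, nat_lit 97], [nat_lit 95, nat_lit 93, nat_lit 92, nat_lit 91]), (nat_lit 10, [nat_lit 96, nat_lit 96], []), (nat_lit 10, [nat_lit 95, nat_lit 95], [nat_lit 91]), (nat_lit 10, [nat_lit 94, nat_lit 98], [nat_lit 98, nat_lit 94, nat_lit 92, nat_lit 91]), (nat_lit 10, [nat_lit 93, nat_lit 97], [nat_lit 97, nat_lit 93]), (nat_lit 10, [nat_lit 93, nat_lit 98], [nat_lit 98, nat_lit 93, nat_lit 92]), (nat_lit 10, [nat_lit 94, nat_lit 94], [nat_lit 92, nat_lit 91]), (nat_lit 10, [nat_lit 93, nat_lit 93], [nat_lit 91]), (nat_lit 10, [nat_lit 91, nat_lit 91], []), (nat_lit 10, [nat_lit 92, nat_lit 92], []), (nat_lit 9, [nat_lit 89, nat_lit 89], [nat_lit 87, nat_lit 85, nat_lit 84, nat_lit 83]), (nat_lit 9, [nat_lit 86, nat_lit 88], [nat_lit 88, nat_lit 86, nat_lit 84]), (nat_lit 9,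 [nat_lit 89, nat_lit 90], [nat_lit 90, nat_lit 89, nat_lit 87]), (nat_lit 9, [nat_lit 86, nat_lit 90], [nat_lit 90, nat_lit 86, nat_lit 85]), (nat_lit 9, [nat_lit 86, nat_lit 86], [nat_lit 84, nat_lit 83]), (nat_lit 9, [nat_lit 85, nat_lit 90], [nat_lit 90, nat_lit 85, nat_lit 83]), (nat_lit 9, [nat_lit 87, nat_lit 90], [nat_lit 90, nat_lit 87, nat_lit 83]), (nat_lit 9, [nat_lit 90, nat_lit 90], [nat_lit 83]), (nat_lit 9, [nat_lit 88, nat_lit 88], []), (nat_lit 9, [nat_lit 84, nat_lit 84], []), (nat_lit 9, [nat_lit 85, nat_lit 85], [nat_lit 83]), (nat_lit 9, [nat_lit 87, nat_lit 87], [nat_lit 83]), (nat_lit 9, [nat_lit 83, nat_lit 83], [])]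
def hsp2Mc : List ℕ := [nat_lit 0xa542240214004000000000000000000000000000000000000000, nat_lit 0xa012980605000000000000000000000000000000000000000000, nat_lit 0xa740850401004000000000000000000000000000000000000000, nat_lit 0x4000000000000000000000000000000000000000, nat_lit 0x2540090000004000000000000000000000000000000000000000, nat_lit 0xd40850404004000000000000000000000000000000000000000, nat_lit 0x8f408c0004004000000000000000000000000000000000000000, nat_lit 0x400000000000000000000000000000000000000000000, nat_lit 0xaa008d0000000000000000000000000000000000000000000000]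
def hsp2Uc : List (ℕ × ℕ × ℕ) := [(nat_lit 0xd52a00080000000000000000000000000000000000000000000, nat_lit 2, nat_lit 0x4975e79da4da7a9e7b796b00f5d000829808b032)]
def hsp2Cs : List (List ℕ) := [[nat_lit 0x18ddf3474194360d1f55d8e2bdfe22a0a622ae060], [nat_lit 0x30004000000000000000000, nat_lit 0x1000c0000000000c0000000], [nat_lit 0x30000000000000000000, nat_lit 0xcd000c60078000000000080000084, nat_lit 0x116a8d2c9bc27393a575266ff08dcc9982222097c], [nat_lit 0x8000088002040080000000000000000008, nat_lit 0x80000880320c0080000000000000000008, nat_lit 0x20900023a0936a8028000000008080000000, nat_lit 0x3be8adae3bcafb928d8f2e2d700fe6bb3c2228bf4], [nat_lit 0xc0000000000000000000, nat_lit 0x80000840020800c0000000000000000008, nat_lit 0x2288028aa2206888ab22d400088002a0c0aa2150, nat_lit 0x28400024e081ac80c000000000008000022c, nat_lit 0x2b1f744b72de02361c70d84d4ffbee132002a6940], [nat_lit 0x325ff16fe936948f95f4d8603df4000286022c068,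 nat_lit 0x325f7165c91eb68d966070a03dd40002aa022c0c8, nat_lit 0x1377ce9d8f86d9698227fadcff3c4918e280639c, nat_lit 0x3c2816d5eca511f57b9821f03080d5539af538903, nat_lit 0x219caefe97fdb058e91f1cc2033a00b31422ac8e8, nat_lit 0x1ca8def0762aa85af342713230bad5f3aadf92b7b], [nat_lit 0x2880002800812a80a80000000000000002a8, nat_lit 0x20a00023a0a32a8028000000008080000000, nat_lit 0x305f5a03419df423272277a03d7c00028e088e394, nat_lit 0x2288063aa22cd8ba2a22480008800260c0aa2374, nat_lit 0x305f5809019fce29058a75203d7c000a86088e394, nat_lit 0x152900d8fc735dc87fb5da6cc0b773e414d9bc19f, nat_lit 0x325fbaa86a962ea28a63dea03d5c004a863440a90], [nat_lit 0x32775965cb9516a1b4ecf4a03dd40028ae022c260, nat_lit 0x2baa8222a32027299b26c00020000a860000200, nat_lit 0x14aa1d32c42e8351fe702c72b0aaff764bff92adb, nat_lit 0x2b9df7275a531ebbbd48562f4f51eea177280e130, nat_lit 0x7f619517d2b91ec493b237dc08f335fbef53a98b, nat_lit 0x2176bf8cf070581f13be0b5ccccb04b920248c8bc,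 nat_lit 0x141d94110e6f84f67d84422040833b5d8efb9287b, nat_lit 0x1a5e73447034c9000e39cf70cf676dfa6712e2064], [nat_lit 0xc00000000000000000000, nat_lit 0x213760c9d1d6ee06378bb62dcff3c491862806334, nat_lit 0x21377cc9d1d6ab1231d978edcff3c4918e28063b8, nat_lit 0x5dc554e20569b3f3c623a8efc517368a6f93633b, nat_lit 0x33e807b6b7c81a75d137e44df0afc493242002180, nat_lit 0x1c8076fa54992a7cd37a5d72309ad5d982df92973, nat_lit 0x3b5dbdd97e4b94dd7cc4423383a0623dbe0a28878, nat_lit 0, nat_lit 0x27c061dccd5173cf552d519dc03f3bc008dd30c0f]]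
def hsp2Lv : List (ℕ × List ℕ) := [(nat_lit 0x1000800000000000000000000000008000000000000000000000100080000020010000000002, [nat_lit 16, nat_lit 64]), (nat_lit 0x1000000000000100000000020000000000002000000800000000000000040000000000004002, [nat_lit 327]), (nat_lit 0x800400200100080040020010008000002001000800400200100080040020010008004002001, [nat_lit 4, nat_lit 8]), (nat_lit 0x800000000000000000000000000000000000000000000000000000000000000000000000001, [nat_lit 1, nat_lit 63]), (nat_lit 0x800400200100080040000010008004002001000800400200100080040020010008004002001, [nat_lit 242]), (nat_lit 0x800400200100080040020010008004002001000800400200100080040020010000004002001, [nat_lit 2])]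
theorem hsp2chk : check (nat_lit 2) (nat_lit 1) (nat_lit 9) (nat_lit 15) (nat_lit 106) (nat_lit 4) (nat_lit 2) hsp2Tab hsp2QT hsp2GT
    (Nat.mul (nat_lit 8191) (Nat.div (Nat.shiftLeft (nat_lit 1) (nat_lit 1590)) (nat_lit 32767)))
    hsp2As hsp2Fs hsp2Mc hsp2Uc (cfOf hsp2Cs) = true := by decide +kernel
def hsp2Ws : List (ℕ × List ℕ) := [(nat_lit 0, [nat_lit 2, nat_lit 2, nat_lit 2, nat_lit 0, nat_lit 1, nat_lit 0, nat_lit 1, nat_lit 0, nat_lit 0]), (nat_lit 1, [nat_lit 4, nat_lit 2, nat_lit 4, nat_lit 1, nat_lit 2, nat_lit 2, nat_lit 3, nat_lit 4, nat_lit 1]), (nat_lit 5, [nat_lit 5, nat_lit 2, nat_lit 5, nat_lit 5, nat_lit 4, nat_lit 5, nat_lit 3, nat_lit 2, nat_lit 4]), (nat_lit 6, [nat_lit 4, nat_lit 4, nat_lit 3, nat_lit 5, nat_lit 3, nat_lit 5, nat_lit 6, nat_lit 4, nat_lit 3]), (nat_lit 4, [nat_lit 4, nat_lit 4, nat_lit 5, nat_lit 7, nat_lit 6, nat_lit 7, nat_lit 7, nat_lit 6, nat_lit 6]), (nat_lit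 8, [nat_lit 5, nat_lit 5, nat_lit 6, nat_lit 7, nat_lit 8, nat_lit 8, nat_lit 8, nat_lit 7, nat_lit 6]), (nat_lit 2, [nat_lit 7, nat_lit 1, nat_lit 1, nat_lit 0, nat_lit 9, nat_lit 7, nat_lit 3, nat_lit 0, nat_lit 9, nat_lit 1, nat_lit 5]), (nat_lit 1, [nat_lit 1, nat_lit 7, nat_lit 9, nat_lit 9, nat_lit 9, nat_lit 10, nat_lit 4, nat_lit 8, nat_lit 10, nat_lit 9, nat_lit 3, nat_lit 7]), (nat_lit 7, [nat_lit 6, nat_lit 2, nat_lit 2, nat_lit 11, nat_lit 4, nat_lit 4, nat_lit 10, nat_lit 10, nat_lit 5, nat_lit 4]), (nat_lit 12, [nat_lit 7, nat_lit 9, nat_lit 5, nat_lit 5, nat_lit 7, nat_lit 9, nat_lit 8, nat_lit 6, nat_lit 4, nat_lit 7]), (nat_lit 12, [nat_lit 10, nat_lit 10, nat_lit 12, nat_lit 8, nat_lit 5, nat_lit 13, nat_lit 10, nat_lit 7, nat_lit 4, nat_lit 5, nat_lit 7]), (nat_lit 12, [nat_lit 5, nat_lit 13, nat_lit 11, nat_lit 14, nat_lit 10, nat_lit 7, nat_lit 11, nat_lit 11, nat_lit 10, nat_lit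 8]), (nat_lit 3, [nat_lit 3, nat_lit 3, nat_lit 0, nat_lit 3, nat_lit 0, nat_lit 2, nat_lit 4, nat_lit 2, nat_lit 1, nat_lit 1, nat_lit 3]), (nat_lit 4, [nat_lit 6, nat_lit 1, nat_lit 4, nat_lit 2, nat_lit 4, nat_lit 1, nat_lit 1, nat_lit 1, nat_lit 2, nat_lit 5]), (nat_lit 2, [nat_lit 7, nat_lit 6, nat_lit 4, nat_lit 4, nat_lit 6, nat_lit 5, nat_lit 2, nat_lit 7, nat_lit 4, nat_lit 2, nat_lit 6, nat_lit 5]), (nat_lit 6, [nat_lit 5, nat_lit 3, nat_lit 3, nat_lit 4, nat_lit 5, nat_lit 4, nat_lit 4, nat_lit 5, nat_lit 4, nat_lit 7, nat_lit 8]), (nat_lit 4, [nat_lit 6, nat_lit 8, nat_lit 4, nat_lit 7, nat_lit 6, nat_lit 8, nat_lit 9, nat_lit 4, nat_lit 6, nat_lit 5, nat_lit 9, nat_lit 8]), (nat_lit 6, [nat_lit 7, nat_lit 8, nat_lit 7, nat_lit 5, nat_lit 9, nat_lit 8, nat_lit 8, nat_lit 7, nat_lit 7, nat_lit 8, nat_lit 10, nat_lit 10]), (nat_lit 2, [nat_lit 3, nat_lit 1, nat_lit 2, nat_lit 5, nat_lit 0, nat_lit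 3, nat_lit 5, nat_lit 5, nat_lit 4, nat_lit 1]), (nat_lit 1, [nat_lit 4, nat_lit 2, nat_lit 3, nat_lit 3, nat_lit 6, nat_lit 2, nat_lit 6, nat_lit 3, nat_lit 3, nat_lit 2, nat_lit 6]), (nat_lit 2, [nat_lit 2, nat_lit 6, nat_lit 3, nat_lit 3, nat_lit 4, nat_lit 6, nat_lit 7, nat_lit 3, nat_lit 6, nat_lit 3, nat_lit 7]), (nat_lit 5, [nat_lit 8, nat_lit 4, nat_lit 8, nat_lit 4, nat_lit 3, nat_lit 8, nat_lit 5, nat_lit 8, nat_lit 3, nat_lit 3, nat_lit 6]), (nat_lit 5, [nat_lit 8, nat_lit 5, nat_lit 5, nat_lit 4, nat_lit 7, nat_lit 9, nat_lit 9, nat_lit 6, nat_lit 9, nat_lit 6, nat_lit 6, nat_lit 8]), (nat_lit 6, [nat_lit 6, nat_lit 7, nat_lit 10, nat_lit 9, nat_lit 9, nat_lit 9, nat_lit 10, nat_lit 6, nat_lit 6, nat_lit 6, nat_lit 8]), (nat_lit 1, [nat_lit 1, nat_lit 2, nat_lit 5, nat_lit 1, nat_lit 5, nat_lit 2, nat_lit 2, nat_lit 1, nat_lit 2, nat_lit 3]), (nat_lit 20, [nat_lit 20, nat_lit 21, nat_lit 21,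 nat_lit 22, nat_lit 13, nat_lit 18, nat_lit 14, nat_lit 13, nat_lit 14, nat_lit 14, nat_lit 18, nat_lit 11, nat_lit 7, nat_lit 7, nat_lit 11, nat_lit 8, nat_lit 12, nat_lit 2, nat_lit 1, nat_lit 4, nat_lit 3, nat_lit 4]), (nat_lit 20, [nat_lit 27, nat_lit 26, nat_lit 21, nat_lit 24, nat_lit 23, nat_lit 15, nat_lit 17, nat_lit 14, nat_lit 18, nat_lit 15, nat_lit 15, nat_lit 19, nat_lit 11, nat_lit 9, nat_lit 11, nat_lit 10, nat_lit 13, nat_lit 3, nat_lit 4, nat_lit 7, nat_lit 3, nat_lit 5, nat_lit 1]), (nat_lit 25, [nat_lit 30, nat_lit 24, nat_lit 27, nat_lit 29, nat_lit 27, nat_lit 27, nat_lit 19, nat_lit 18, nat_lit 16, nat_lit 15, nat_lit 15, nat_lit 18, nat_lit 9, nat_lit 13, nat_lit 12, nat_lit 12, nat_lit 13, nat_lit 9, nat_lit 3, nat_lit 4, nat_lit 8, nat_lit 4, nat_lit 6, nat_lit 2]), (nat_lit 27, [nat_lit 22, nat_lit 25, nat_lit 26, nat_lit 27, nat_lit 28, nat_lit 18, nat_lit 16, nat_lit 17, nat_lit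 17, nat_lit 21, nat_lit 21, nat_lit 21, nat_lit 10, nat_lit 15, nat_lit 12, nat_lit 12, nat_lit 8, nat_lit 6, nat_lit 9, nat_lit 6, nat_lit 4]), (nat_lit 23, [nat_lit 30, nat_lit 26, nat_lit 27, nat_lit 26, nat_lit 29, nat_lit 17, nat_lit 18, nat_lit 22, nat_lit 22, nat_lit 14, nat_lit 14, nat_lit 11, nat_lit 16, nat_lit 16, nat_lit 12, nat_lit 5, nat_lit 8, nat_lit 9, nat_lit 10, nat_lit 8, nat_lit 4]), (nat_lit 19, [nat_lit 18, nat_lit 19, nat_lit 20, nat_lit 18, nat_lit 23, nat_lit 21, nat_lit 17, nat_lit 16, nat_lit 17, nat_lit 15, nat_lit 17, nat_lit 16, nat_lit 17, nat_lit 7, nat_lit 6, nat_lit 7, nat_lit 8, nat_lit 11, nat_lit 5]), (nat_lit 30, [nat_lit 30, nat_lit 29, nat_lit 31, nat_lit 32, nat_lit 30, nat_lit 19, nat_lit 22, nat_lit 21, nat_lit 22, nat_lit 20, nat_lit 22, nat_lit 24, nat_lit 16, nat_lit 15, nat_lit 14, nat_lit 18, nat_lit 17, nat_lit 17, nat_lit 10, nat_lit 8, nat_lit 9, nat_lit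 10, nat_lit 9]), (nat_lit 26, [nat_lit 33, nat_lit 32, nat_lit 27, nat_lit 30, nat_lit 29, nat_lit 23, nat_lit 25, nat_lit 20, nat_lit 22, nat_lit 22, nat_lit 23, nat_lit 25, nat_lit 17, nat_lit 16, nat_lit 14, nat_lit 14, nat_lit 17, nat_lit 18, nat_lit 12, nat_lit 12, nat_lit 12, nat_lit 9, nat_lit 13]), (nat_lit 27, [nat_lit 34, nat_lit 33, nat_lit 28, nat_lit 31, nat_lit 30, nat_lit 22, nat_lit 22, nat_lit 25, nat_lit 26, nat_lit 22, nat_lit 26, nat_lit 26, nat_lit 17, nat_lit 17, nat_lit 20, nat_lit 17, nat_lit 20, nat_lit 11, nat_lit 14, nat_lit 13]), (nat_lit 28, [nat_lit 35, nat_lit 34, nat_lit 29, nat_lit 32, nat_lit 31, nat_lit 27, nat_lit 27, nat_lit 24, nat_lit 26, nat_lit 22, nat_lit 23, nat_lit 27, nat_lit 27, nat_lit 16, nat_lit 21, nat_lit 20, nat_lit 20, nat_lit 17, nat_lit 13, nat_lit 10, nat_lit 12, nat_lit 15, nat_lit 9]), (nat_lit 25, [nat_lit 23, nat_lit 26, nat_lit 28, nat_lit 26,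 nat_lit 25, nat_lit 27, nat_lit 17, nat_lit 20, nat_lit 21, nat_lit 21, nat_lit 17, nat_lit 19, nat_lit 14, nat_lit 16, nat_lit 15, nat_lit 13, nat_lit 16, nat_lit 10]), (nat_lit 33, [nat_lit 32, nat_lit 34, nat_lit 37, nat_lit 30, nat_lit 24, nat_lit 29, nat_lit 25, nat_lit 24, nat_lit 29, nat_lit 25, nat_lit 29, nat_lit 22, nat_lit 22, nat_lit 21, nat_lit 20, nat_lit 18, nat_lit 22, nat_lit 13, nat_lit 14, nat_lit 16, nat_lit 15])]
theorem hsp2slp : slpOK mu (fun A => Nat.beq (mu cV A) cV && Nat.beq (mu cU' A) cU') g0 [g0, g1, g2, g3] hsp2Ws I (nat_lit 2) (nat_lit 1) (nat_lit 9) (nat_lit 15) (nat_lit 106) (nat_lit 12) hsp2Tab hsp2QT hsp2GT (nat_lit 13) hsp2Lv = true := by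
  decide +kernel
theorem hsp2pb : PB 2 CH [2] :=
  haveI := H15.finite_Co0
  pb_slp rho par CH ⊤ (fun g _ => rho_inj g) (hasT_I _) (fun _ h1 h2 => fixU' (fixV h1 (Bool.and_eq_true_iff.1 h2).1) (Bool.and_eq_true_iff.1 h2).2) (List.forall_mem_cons.2 ⟨hasT_gens _ List.mem_cons_self, hasT_gens⟩) (e := 1) Nat.prime_two card_CH hsp2slp hsp2chk
    (by decide +kernel)

def hsp3Tab : ℕ := nat_lit 0x90a000100000000
def hsp3QT : ℕ := nat_lit 0x401000000000000
def hsp3GT : ℕ := nat_lit 0x202000000000000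
def hsp3As : List ℕ := []
def hsp3Fs : List (ℕ × List ℕ × List ℕ) := [(nat_lit 2, [nat_lit 6, nat_lit 7], [nat_lit 7, nat_lit 6]), (nat_lit 2, [nat_lit 6, nat_lit 6, nat_lit 6], []), (nat_lit 2, [nat_lit 7, nat_lit 7, nat_lit 7], [])]
def hsp3Mc : List ℕ := [nat_lit 0, nat_lit 0]
def hsp3Uc : List (ℕ × ℕ × ℕ) := []
def hsp3Cs : List (List ℕ) := [[nat_lit 5], [nat_lit 32, nat_lit 9]]
def hsp3Lv : List (ℕ × List ℕ) := [(nat_lit 0x800400200100080040020010008004002001000800400200100080040020010000004002001, [nat_lit 1]), (nat_lit 0x800400200100080040020010008000002001000800400200100080040020010008004002001, [nat_lit 5])]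
theorem hsp3chk : check (nat_lit 3) (nat_lit 2) (nat_lit 2) (nat_lit 8) (nat_lit 8) (nat_lit 3) (nat_lit 2) hsp3Tab hsp3QT hsp3GT
    (Nat.mul (nat_lit 63) (Nat.div (Nat.shiftLeft (nat_lit 1) (nat_lit 64)) (nat_lit 255)))
    hsp3As hsp3Fs hsp3Mc hsp3Uc (cfOf hsp3Cs) = true := by decide +kernel
def hsp3Ws : List (ℕ × List ℕ) := [(nat_lit 0, [nat_lit 2, nat_lit 2, nat_lit 2, nat_lit 0, nat_lit 1, nat_lit 0, nat_lit 1, nat_lit 0, nat_lit 0]), (nat_lit 1, [nat_lit 4, nat_lit 2, nat_lit 4, nat_lit 1, nat_lit 2, nat_lit 2, nat_lit 3, nat_lit 4, nat_lit 1]), (nat_lit 5, [nat_lit 5, nat_lit 2, nat_lit 5, nat_lit 5, nat_lit 4, nat_lit 5, nat_lit 3, nat_lit 2, nat_lit 4]), (nat_lit 6, [nat_lit 4, nat_lit 4, nat_lit 3, nat_lit 5, nat_lit 3, nat_lit 5, nat_lit 6, nat_lit 4, nat_lit 3]), (nat_lit 4, [nat_lit 4, nat_lit 4, nat_lit 5, nat_lit 7, nat_lit 6, nat_lit 7, nat_lit 7, nat_lit 6, nat_lit 6]), (nat_lit 8, [nat_lit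 5, nat_lit 5, nat_lit 6, nat_lit 7, nat_lit 8, nat_lit 8, nat_lit 8, nat_lit 7, nat_lit 6]), (nat_lit 2, [nat_lit 7, nat_lit 1, nat_lit 1, nat_lit 0, nat_lit 9, nat_lit 7, nat_lit 3, nat_lit 0, nat_lit 9, nat_lit 1, nat_lit 5]), (nat_lit 1, [nat_lit 1, nat_lit 7, nat_lit 9, nat_lit 9, nat_lit 9, nat_lit 10, nat_lit 4, nat_lit 8, nat_lit 10, nat_lit 9, nat_lit 3, nat_lit 7]), (nat_lit 7, [nat_lit 6, nat_lit 2, nat_lit 2, nat_lit 11, nat_lit 4, nat_lit 4, nat_lit 10, nat_lit 10, nat_lit 5, nat_lit 4]), (nat_lit 12, [nat_lit 7, nat_lit 9, nat_lit 5, nat_lit 5, nat_lit 7, nat_lit 9, nat_lit 8, nat_lit 6, nat_lit 4, nat_lit 7]), (nat_lit 12, [nat_lit 10, nat_lit 10, nat_lit 12, nat_lit 8, nat_lit 5, nat_lit 13, nat_lit 10, nat_lit 7, nat_lit 4, nat_lit 5, nat_lit 7]), (nat_lit 12, [nat_lit 5, nat_lit 13, nat_lit 11, nat_lit 14, nat_lit 10, nat_lit 7, nat_lit 11, nat_lit 11, nat_lit 10, nat_lit 8]), (nat_lit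 3, [nat_lit 3, nat_lit 3, nat_lit 0, nat_lit 3, nat_lit 0, nat_lit 2, nat_lit 4, nat_lit 2, nat_lit 1, nat_lit 1, nat_lit 3]), (nat_lit 4, [nat_lit 6, nat_lit 1, nat_lit 4, nat_lit 2, nat_lit 4, nat_lit 1, nat_lit 1, nat_lit 1, nat_lit 2, nat_lit 5]), (nat_lit 2, [nat_lit 7, nat_lit 6, nat_lit 4, nat_lit 4, nat_lit 6, nat_lit 5, nat_lit 2, nat_lit 7, nat_lit 4, nat_lit 2, nat_lit 6, nat_lit 5]), (nat_lit 6, [nat_lit 5, nat_lit 3, nat_lit 3, nat_lit 4, nat_lit 5, nat_lit 4, nat_lit 4, nat_lit 5, nat_lit 4, nat_lit 7, nat_lit 8]), (nat_lit 4, [nat_lit 6, nat_lit 8, nat_lit 4, nat_lit 7, nat_lit 6, nat_lit 8, nat_lit 9, nat_lit 4, nat_lit 6, nat_lit 5, nat_lit 9, nat_lit 8]), (nat_lit 6, [nat_lit 7, nat_lit 8, nat_lit 7, nat_lit 5, nat_lit 9, nat_lit 8, nat_lit 8, nat_lit 7, nat_lit 7, nat_lit 8, nat_lit 10, nat_lit 10]), (nat_lit 2, [nat_lit 3, nat_lit 1, nat_lit 2, nat_lit 5, nat_lit 0, nat_lit 3, nat_lit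 5, nat_lit 5, nat_lit 4, nat_lit 1]), (nat_lit 1, [nat_lit 4, nat_lit 2, nat_lit 3, nat_lit 3, nat_lit 6, nat_lit 2, nat_lit 6, nat_lit 3, nat_lit 3, nat_lit 2, nat_lit 6]), (nat_lit 2, [nat_lit 2, nat_lit 6, nat_lit 3, nat_lit 3, nat_lit 4, nat_lit 6, nat_lit 7, nat_lit 3, nat_lit 6, nat_lit 3, nat_lit 7]), (nat_lit 5, [nat_lit 8, nat_lit 4, nat_lit 8, nat_lit 4, nat_lit 3, nat_lit 8, nat_lit 5, nat_lit 8, nat_lit 3, nat_lit 3, nat_lit 6]), (nat_lit 5, [nat_lit 8, nat_lit 5, nat_lit 5, nat_lit 4, nat_lit 7, nat_lit 9, nat_lit 9, nat_lit 6, nat_lit 9, nat_lit 6, nat_lit 6, nat_lit 8]), (nat_lit 6, [nat_lit 6, nat_lit 7, nat_lit 10, nat_lit 9, nat_lit 9, nat_lit 9, nat_lit 10, nat_lit 6, nat_lit 6, nat_lit 6, nat_lit 8]), (nat_lit 1, [nat_lit 1, nat_lit 2, nat_lit 5, nat_lit 1, nat_lit 5, nat_lit 2, nat_lit 2, nat_lit 1, nat_lit 2, nat_lit 3]), (nat_lit 28, [nat_lit 25, nat_lit 22, nat_lit 21, nat_lit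 27, nat_lit 25, nat_lit 16, nat_lit 14, nat_lit 15, nat_lit 13, nat_lit 16, nat_lit 16, nat_lit 18, nat_lit 9, nat_lit 12, nat_lit 9, nat_lit 10, nat_lit 12, nat_lit 11, nat_lit 12, nat_lit 6, nat_lit 1, nat_lit 2, nat_lit 4, nat_lit 3, nat_lit 0]), (nat_lit 18, [nat_lit 17, nat_lit 18, nat_lit 17, nat_lit 15, nat_lit 9, nat_lit 10, nat_lit 8, nat_lit 12, nat_lit 13, nat_lit 11, nat_lit 12, nat_lit 3, nat_lit 6, nat_lit 7, nat_lit 6, nat_lit 7]), (nat_lit 17, [nat_lit 20, nat_lit 18, nat_lit 16, nat_lit 19, nat_lit 18, nat_lit 12, nat_lit 9, nat_lit 12, nat_lit 11, nat_lit 11, nat_lit 14, nat_lit 14, nat_lit 7, nat_lit 5, nat_lit 8, nat_lit 6, nat_lit 8])]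
theorem hsp3slp : slpOK mu (fun A => Nat.beq (mu cV A) cV && Nat.beq (mu cU' A) cU') g0 [g0, g1, g2, g3] hsp3Ws I (nat_lit 3) (nat_lit 2) (nat_lit 2) (nat_lit 8) (nat_lit 8) (nat_lit 3) hsp3Tab hsp3QT hsp3GT (nat_lit 9) hsp3Lv = true := by
  decide +kernel
theorem hsp3pb : PB 3 CH [] :=
  haveI := H15.finite_Co0
  pb_slp rho par CH ⊤ (fun g _ => rho_inj g) (hasT_I _) (fun _ h1 h2 => fixU' (fixV h1 (Bool.and_eq_true_iff.1 h2).1) (Bool.and_eq_true_iff.1 h2).2) (List.forall_mem_cons.2 ⟨hasT_gens _ List.mem_cons_self, hasT_gens⟩) (e := 0) Nat.prime_three card_CH hsp3slp hsp3chk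
    (by decide +kernel)

def hsp5Tab : ℕ := nat_lit 0x4001c002000048010000000080000000000000
def hsp5QT : ℕ := nat_lit 0x20008002000000000000000000000000000000
def hsp5GT : ℕ := nat_lit 0x1803006000000000000000000000000000000
def hsp5As : List ℕ := [nat_lit 0x1001020]
def hsp5Fs : List (ℕ × List ℕ × List ℕ) := [(nat_lit 3, [nat_lit 12, nat_lit 12, nat_lit 12, nat_lit 12, nat_lit 12], []), (nat_lit 3, [nat_lit 11, nat_lit 12], [nat_lit 12, nat_lit 11]), (nat_lit 3, [nat_lit 13, nat_lit 13, nat_lit 13, nat_lit 13, nat_lit 13], []), (nat_lit 3, [nat_lit 11, nat_lit 13], [nat_lit 13, nat_lit 11])]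
def hsp5Mc : List ℕ := [nat_lit 0, nat_lit 0, nat_lit 0x200000]
def hsp5Uc : List (ℕ × ℕ × ℕ) := []
def hsp5Cs : List (List ℕ) := [[nat_lit 4096], [nat_lit 128, nat_lit 13312], [nat_lit 4, nat_lit 0, nat_lit 32]]
def hsp5Lv : List (ℕ × List ℕ) := [(nat_lit 0x800000000000000000000000000000000000000000000000000000000000000000000000001, [nat_lit 1, nat_lit 8]), (nat_lit 0x800400200100080040020010008000002001000800400200100080040020010008004002001, [nat_lit 83])]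
theorem hsp5chk : check (nat_lit 5) (nat_lit 3) (nat_lit 3) (nat_lit 11) (nat_lit 14) (nat_lit 5) (nat_lit 3) hsp5Tab hsp5QT hsp5GT
    (Nat.mul (nat_lit 255) (Nat.div (Nat.shiftLeft (nat_lit 1) (nat_lit 154)) (nat_lit 2047)))
    hsp5As hsp5Fs hsp5Mc hsp5Uc (cfOf hsp5Cs) = true := by decide +kernel
def hsp5Ws : List (ℕ × List ℕ) := [(nat_lit 0, [nat_lit 2, nat_lit 2, nat_lit 2, nat_lit 0, nat_lit 1, nat_lit 0, nat_lit 1, nat_lit 0, nat_lit 0]), (nat_lit 1, [nat_lit 4, nat_lit 2, nat_lit 4, nat_lit 1, nat_lit 2, nat_lit 2, nat_lit 3, nat_lit 4, nat_lit 1]), (nat_lit 5, [nat_lit 5, nat_lit 2, nat_lit 5, nat_lit 5, nat_lit 4, nat_lit 5, nat_lit 3, nat_lit 2, nat_lit 4]), (nat_lit 6, [nat_lit 4, nat_lit 4, nat_lit 3, nat_lit 5, nat_lit 3, nat_lit 5, nat_lit 6, nat_lit 4, nat_lit 3]), (nat_lit 4, [nat_lit 4, nat_lit 4, nat_lit 5, nat_lit 7, nat_lit 6, nat_lit 7, nat_lit 7, nat_lit 6, nat_lit 6]), (nat_lit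 8, [nat_lit 5, nat_lit 5, nat_lit 6, nat_lit 7, nat_lit 8, nat_lit 8, nat_lit 8, nat_lit 7, nat_lit 6]), (nat_lit 2, [nat_lit 7, nat_lit 1, nat_lit 1, nat_lit 0, nat_lit 9, nat_lit 7, nat_lit 3, nat_lit 0, nat_lit 9, nat_lit 1, nat_lit 5]), (nat_lit 1, [nat_lit 1, nat_lit 7, nat_lit 9, nat_lit 9, nat_lit 9, nat_lit 10, nat_lit 4, nat_lit 8, nat_lit 10, nat_lit 9, nat_lit 3, nat_lit 7]), (nat_lit 7, [nat_lit 6, nat_lit 2, nat_lit 2, nat_lit 11, nat_lit 4, nat_lit 4, nat_lit 10, nat_lit 10, nat_lit 5, nat_lit 4]), (nat_lit 12, [nat_lit 7, nat_lit 9, nat_lit 5, nat_lit 5, nat_lit 7, nat_lit 9, nat_lit 8, nat_lit 6, nat_lit 4, nat_lit 7]), (nat_lit 12, [nat_lit 10, nat_lit 10, nat_lit 12, nat_lit 8, nat_lit 5, nat_lit 13, nat_lit 10, nat_lit 7, nat_lit 4, nat_lit 5, nat_lit 7]), (nat_lit 12, [nat_lit 5, nat_lit 13, nat_lit 11, nat_lit 14, nat_lit 10, nat_lit 7, nat_lit 11, nat_lit 11, nat_lit 10, nat_lit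 8]), (nat_lit 3, [nat_lit 3, nat_lit 3, nat_lit 0, nat_lit 3, nat_lit 0, nat_lit 2, nat_lit 4, nat_lit 2, nat_lit 1, nat_lit 1, nat_lit 3]), (nat_lit 4, [nat_lit 6, nat_lit 1, nat_lit 4, nat_lit 2, nat_lit 4, nat_lit 1, nat_lit 1, nat_lit 1, nat_lit 2, nat_lit 5]), (nat_lit 2, [nat_lit 7, nat_lit 6, nat_lit 4, nat_lit 4, nat_lit 6, nat_lit 5, nat_lit 2, nat_lit 7, nat_lit 4, nat_lit 2, nat_lit 6, nat_lit 5]), (nat_lit 6, [nat_lit 5, nat_lit 3, nat_lit 3, nat_lit 4, nat_lit 5, nat_lit 4, nat_lit 4, nat_lit 5, nat_lit 4, nat_lit 7, nat_lit 8]), (nat_lit 4, [nat_lit 6, nat_lit 8, nat_lit 4, nat_lit 7, nat_lit 6, nat_lit 8, nat_lit 9, nat_lit 4, nat_lit 6, nat_lit 5, nat_lit 9, nat_lit 8]), (nat_lit 6, [nat_lit 7, nat_lit 8, nat_lit 7, nat_lit 5, nat_lit 9, nat_lit 8, nat_lit 8, nat_lit 7, nat_lit 7, nat_lit 8, nat_lit 10, nat_lit 10]), (nat_lit 2, [nat_lit 3, nat_lit 1, nat_lit 2, nat_lit 5, nat_lit 0, nat_lit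 3, nat_lit 5, nat_lit 5, nat_lit 4, nat_lit 1]), (nat_lit 1, [nat_lit 4, nat_lit 2, nat_lit 3, nat_lit 3, nat_lit 6, nat_lit 2, nat_lit 6, nat_lit 3, nat_lit 3, nat_lit 2, nat_lit 6]), (nat_lit 2, [nat_lit 2, nat_lit 6, nat_lit 3, nat_lit 3, nat_lit 4, nat_lit 6, nat_lit 7, nat_lit 3, nat_lit 6, nat_lit 3, nat_lit 7]), (nat_lit 5, [nat_lit 8, nat_lit 4, nat_lit 8, nat_lit 4, nat_lit 3, nat_lit 8, nat_lit 5, nat_lit 8, nat_lit 3, nat_lit 3, nat_lit 6]), (nat_lit 5, [nat_lit 8, nat_lit 5, nat_lit 5, nat_lit 4, nat_lit 7, nat_lit 9, nat_lit 9, nat_lit 6, nat_lit 9, nat_lit 6, nat_lit 6, nat_lit 8]), (nat_lit 6, [nat_lit 6, nat_lit 7, nat_lit 10, nat_lit 9, nat_lit 9, nat_lit 9, nat_lit 10, nat_lit 6, nat_lit 6, nat_lit 6, nat_lit 8]), (nat_lit 1, [nat_lit 1, nat_lit 2, nat_lit 5, nat_lit 1, nat_lit 5, nat_lit 2, nat_lit 2, nat_lit 1, nat_lit 2, nat_lit 3]), (nat_lit 23, [nat_lit 28, nat_lit 27, nat_lit 20,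 nat_lit 27, nat_lit 23, nat_lit 17, nat_lit 16, nat_lit 17, nat_lit 18, nat_lit 15, nat_lit 8, nat_lit 12, nat_lit 8, nat_lit 7, nat_lit 10, nat_lit 12, nat_lit 12, nat_lit 1, nat_lit 5, nat_lit 3, nat_lit 3, nat_lit 1, nat_lit 6, nat_lit 0]), (nat_lit 27, [nat_lit 22, nat_lit 29, nat_lit 23, nat_lit 26, nat_lit 26, nat_lit 14, nat_lit 15, nat_lit 17, nat_lit 18, nat_lit 15, nat_lit 18, nat_lit 18, nat_lit 9, nat_lit 9, nat_lit 12, nat_lit 8, nat_lit 8, nat_lit 3, nat_lit 4, nat_lit 4, nat_lit 3, nat_lit 4, nat_lit 7]), (nat_lit 22, [nat_lit 23, nat_lit 29, nat_lit 26, nat_lit 24, nat_lit 23, nat_lit 15, nat_lit 19, nat_lit 16, nat_lit 19, nat_lit 17, nat_lit 19, nat_lit 11, nat_lit 13, nat_lit 13, nat_lit 9, nat_lit 12, nat_lit 4, nat_lit 7, nat_lit 4, nat_lit 6, nat_lit 8]), (nat_lit 23, [nat_lit 24, nat_lit 22, nat_lit 31, nat_lit 26, nat_lit 20, nat_lit 17, nat_lit 18, nat_lit 18, nat_lit 17, nat_lit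 17, nat_lit 11, nat_lit 10, nat_lit 13, nat_lit 13, nat_lit 10, nat_lit 14, nat_lit 9, nat_lit 7, nat_lit 9, nat_lit 4, nat_lit 7, nat_lit 3])]
theorem hsp5slp : slpOK mu (fun A => Nat.beq (mu cV A) cV && Nat.beq (mu cU' A) cU') g0 [g0, g1, g2, g3] hsp5Ws I (nat_lit 5) (nat_lit 3) (nat_lit 3) (nat_lit 11) (nat_lit 14) (nat_lit 4) hsp5Tab hsp5QT hsp5GT (nat_lit 99) hsp5Lv = true := by
  decide +kernel
theorem hsp5pb : PB 5 CH [] :=
  haveI := H15.finite_Co0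
  pb_slp rho par CH ⊤ (fun g _ => rho_inj g) (hasT_I _) (fun _ h1 h2 => fixU' (fixV h1 (Bool.and_eq_true_iff.1 h2).1) (Bool.and_eq_true_iff.1 h2).2) (List.forall_mem_cons.2 ⟨hasT_gens _ List.mem_cons_self, hasT_gens⟩) (e := 0) Nat.prime_five card_CH hsp5slp hsp5chk
    (by decide +kernel)

end Cfsg.Agent.H63.Le
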