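/-
The multiplier of L3(2) (generated certificates).
-/
import Cfsg.Agent.H63.Cls
import Cfsg.Agent.H56.Fields

set_option autoImplicit false
set_option maxRecDepth 100000

namespace Cfsg.Agent.H63.L32

open H14

def MASK : ℕ := nat_lit 12483
def QM : ℕ := nat_lit 87381
def I : ℕ := nat_lit 65793
noncomputable abbrev mu : ℕ → ℕ → ℕ := mulM (nat_lit 3) (nat_lit 2) (nat_lit 2) (nat_lit 1) (nat_lit 1) (nat_lit 6) (nat_lit 64) MASK QM
theorem par : parOK (nat_lit 3) (nat_lit 2) (nat_lit 2) (nat_lit 1) (nat_lit 1) (nat_lit 6) (nat_lit 64) MASK QM = true := by decide +kernel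
theorem id : idOK (nat_lit 3) (nat_lit 2) (nat_lit 2) I = true := by decide +kernel
def gens0 : List ℕ := [nat_lit 82181, nat_lit 21572]
theorem md0 {F : Type*} [Field F] [Fintype F] (hF : Fintype.card F = 2) : Mod (Matrix.SpecialLinearGroup (Fin 3) F) (nat_lit 3) (nat_lit 2) (nat_lit 2) gens0 :=
  mod_SL (t := H56.F2) (f := 1) (rg := (rgT 1 (nat_lit 4)))
    (As := List.zip [nat_lit 313, nat_lit 174] gens0) hF (m := 5) (by decide +kernel)
def gens : List ℕ := [nat_lit 17409, nat_lit 81989]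
theorem md {G : Type*} [Group G] (h : Mod G (nat_lit 3) (nat_lit 2) (nat_lit 2) gens0) : Mod G (nat_lit 3) (nat_lit 2) (nat_lit 2) gens :=
  h.conj par id (P := nat_lit 21776)
    (Q := nat_lit 4437) (by decide +kernel)

def p2Tab : ℕ := nat_lit 0x10100200c0000c0100000004000000000000
def p2QT : ℕ := nat_lit 0x400402004000000000000000000000000000
def p2GT : ℕ := nat_lit 0x40100300c000000000000000000000000000
def p2As : List ℕ := [nat_lit 274, nat_lit 290, nat_lit 289]
def p2Fs : List (ℕ × List ℕ × List ℕ) := [(nat_lit 4, [nat_lit 14, nat_lit 14], []), (nat_lit 4, [nat_lit 13, nat_lit 13], []), (nat_lit 3, [nat_lit 11, nat_lit 11], [])]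
def p2Mc : List ℕ := [nat_lit 0x414000, nat_lit 0x20d0000, nat_lit 16384]
def p2Uc : List (ℕ × ℕ × ℕ) := [(nat_lit 0x2018000, nat_lit 2, nat_lit 712)]
def p2Cs : List (List ℕ) := [[nat_lit 195], [nat_lit 7107, nat_lit 15343], [nat_lit 1987, nat_lit 0, nat_lit 3027]]
def p2Lv : List (ℕ × List ℕ) := [(nat_lit 16, [nat_lit 4]), (nat_lit 4, [nat_lit 1, nat_lit 2])]
theorem p2chk : check (nat_lit 2) (nat_lit 1) (nat_lit 3) (nat_lit 10) (nat_lit 15) (nat_lit 4) (nat_lit 2) p2Tab p2QT p2GT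
    (Nat.mul (nat_lit 255) (Nat.div (Nat.shiftLeft (nat_lit 1) (nat_lit 150)) (nat_lit 1023)))
    p2As p2Fs p2Mc p2Uc (cfOf p2Cs) = true := by decide +kernel
def p2Ws : List (ℕ × List ℕ) := [(nat_lit 0, [nat_lit 0, nat_lit 0, nat_lit 0, nat_lit 0, nat_lit 1, nat_lit 0, nat_lit 1, nat_lit 0, nat_lit 0]), (nat_lit 1, [nat_lit 2, nat_lit 2, nat_lit 2, nat_lit 1, nat_lit 2, nat_lit 2, nat_lit 1, nat_lit 2, nat_lit 1]), (nat_lit 3, [nat_lit 3, nat_lit 2, nat_lit 3, nat_lit 3, nat_lit 2, nat_lit 3, nat_lit 3, nat_lit 2, nat_lit 2]), (nat_lit 4, [nat_lit 4, nat_lit 4, nat_lit 3, nat_lit 3, nat_lit 3, nat_lit 3, nat_lit 4, nat_lit 4, nat_lit 3]), (nat_lit 4, [nat_lit 4, nat_lit 4, nat_lit 5, nat_lit 5, nat_lit 4, nat_lit 5, nat_lit 5, nat_lit 4, nat_lit 4]), (nat_lit 1, [nat_lit 2, nat_lit 3, nat_lit 1, nat_lit 0, nat_lit 5, nat_lit 1]), (nat_lit 1, [nat_lit 1, nat_lit 4, nat_lit 1, nat_lit 2, nat_lit 2, nat_lit 7]), (nat_lit 5, [nat_lit 4, nat_lit 2, nat_lit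 2, nat_lit 6, nat_lit 5, nat_lit 5]), (nat_lit 3, [nat_lit 3, nat_lit 7, nat_lit 6, nat_lit 9, nat_lit 8, nat_lit 8]), (nat_lit 4, [nat_lit 9, nat_lit 9, nat_lit 9, nat_lit 8, nat_lit 7, nat_lit 10, nat_lit 9]), (nat_lit 10, [nat_lit 7, nat_lit 6, nat_lit 9, nat_lit 9, nat_lit 8, nat_lit 11, nat_lit 10]), (nat_lit 3, [nat_lit 3, nat_lit 3, nat_lit 0, nat_lit 3, nat_lit 0]), (nat_lit 2, [nat_lit 3, nat_lit 4, nat_lit 3, nat_lit 1, nat_lit 5, nat_lit 4, nat_lit 2]), (nat_lit 12, [nat_lit 3]), (nat_lit 12, [nat_lit 4, nat_lit 8, nat_lit 1]), (nat_lit 11, [nat_lit 9, nat_lit 3]), (nat_lit 6, [nat_lit 10, nat_lit 4]), (nat_lit 7, [nat_lit 4, nat_lit 5])]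
theorem p2slp : slpOK mu (fun _ => true) I gens p2Ws I (nat_lit 2) (nat_lit 1) (nat_lit 3) (nat_lit 10) (nat_lit 15) (nat_lit 5) p2Tab p2QT p2GT (nat_lit 6) p2Lv = true := by
  decide +kernel
theorem p2pb {G : Type*} [Group G] [Finite G] (hM : Mod G (nat_lit 3) (nat_lit 2) (nat_lit 2) gens) (ho : Nat.card G = 168) :
    PB 2 G [2] :=
  hM.pb par id (e := 1) Nat.prime_two ho p2slp p2chk (by decide +kernel)
def cMASK : ℕ := nat_lit 0x7fff000000000007fff000000000007fff000000000007fff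
def cQM : ℕ := nat_lit 0x3e007c00f801f003e007c00f801f003e007c00f801f003e007c00f801f
def cI : ℕ := nat_lit 0x200000000000000000040000000000000000008000000000000000001
noncomputable abbrev cmu : ℕ → ℕ → ℕ := mulM (nat_lit 4) (nat_lit 7) (nat_lit 15) (nat_lit 147) (nat_lit 10) (nat_lit 60) (nat_lit 0x1000000000000000) cMASK cQM
theorem cpar : parOK (nat_lit 4) (nat_lit 7) (nat_lit 15) (nat_lit 147) (nat_lit 10) (nat_lit 60) (nat_lit 0x1000000000000000) cMASK cQM = true := by decide +kernel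
theorem cid : idOK (nat_lit 4) (nat_lit 7) (nat_lit 15) cI = true := by decide +kernel
def cB : ℕ := Nat.shiftLeft (nat_lit 1) (nat_lit 18)
def cgs : List ℕ := [nat_lit 0x8001000000080030006000400100008003000600080018000000c00104401, nat_lit 0x5000600180010006000400080030004000600180028002000a00194045]
def cZs : List ℕ := [nat_lit 0x8000000000000000001000000000000000000200000000000000000050101, nat_lit 0x30000000000000000006000000000000000000c00000000000000000190101]
def cJ : ℕ := nat_lit 0x8000000000000000001000000000000000000200000000000000000050101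
def cl0 : Lv := ⟨[(nat_lit 0, [nat_lit 1, nat_lit 1, nat_lit 1, nat_lit 1, nat_lit 0, nat_lit 1, nat_lit 0, nat_lit 1, nat_lit 0, nat_lit 1, nat_lit 0]), (nat_lit 1, [nat_lit 2, nat_lit 1, nat_lit 1, nat_lit 2, nat_lit 1, nat_lit 2, nat_lit 2, nat_lit 1, nat_lit 2, nat_lit 1])], nat_lit 2, nat_lit 16, nat_lit 7,
  [(nat_lit 2, nat_lit 0x1000000000000), (nat_lit 2, nat_lit 0x1000000010001), (nat_lit 1, nat_lit 65537), (nat_lit 1, nat_lit 0)],
  [nat_lit 0x1000000000101c100400001, nat_lit 0xc1000000000000, nat_lit 0x40000001c10102008100020100000001c1004200800002, nat_lit 0x81000001c10100000100800000004100c00001, nat_lit 0xc0000000c10000]⟩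
def cl1 : Lv := ⟨[], nat_lit 0, nat_lit 1092, nat_lit 62,
  [(nat_lit 2, nat_lit 0x1000000000000), (nat_lit 4, nat_lit 0x10000000000000001000100000001), (nat_lit 5, nat_lit 0x1000100020001000300000003), (nat_lit 6, nat_lit 0x1000100000001000000020001000300010004), (nat_lit 5, nat_lit 0x1000000010001000100020000000300000004), (nat_lit 1, nat_lit 65539)],
  [nat_lit 0x10044000100400000, nat_lit 0x43000000010081000100000000000100c30001000100c0000100410000000100c1000100010000000100010083000100420000, nat_lit 0x1010100010084000000010103000100440000008000000043000000420000000101400001004100000085000000400000000101020001, nat_lit 0x8500000001018000010084000000c200000001014100010083000000810000008200000082000000800000, nat_lit 0xc3000000c4000000c200000100000000c4000000c1000000010180000100c00000, nat_lit 0x1020000010300000100000001010000, nat_lit 0x140000001410000]⟩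
noncomputable abbrev cpm : ℕ → ℕ → ℕ := pm mu cmu (nat_lit 18) cB
theorem ccen : cenOK cpm (fun a => Nat.beq (Nat.mod a cB) I) cJ cgs [(nat_lit 1, [nat_lit 0, nat_lit 0, nat_lit 0, nat_lit 1]), (nat_lit 1, [nat_lit 1, nat_lit 1, nat_lit 1, nat_lit 2]), (nat_lit 0, [nat_lit 1, nat_lit 0, nat_lit 1, nat_lit 0, nat_lit 1, nat_lit 1, nat_lit 0])] (nat_lit 1)
    [(nat_lit 0, [nat_lit 0, nat_lit 0, nat_lit 0])] (nat_lit 3) (nat_lit 7) cZs = true := by decide +kernel
theorem cgo : go cpm (fun c a => mu c (Nat.mod a cB)) cJ cZs [cl0, cl1] cgs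
    (fun _ n => Nat.beq n 168) = true := by decide +kernel
theorem clb {G : Type*} [Group G] [Finite G] (hM : Mod G (nat_lit 3) (nat_lit 2) (nat_lit 2) gens) (ho : Nat.card G = 168) :
    LB G 2 :=
  hM.lb par id cpar cid (k := 10) ho (by decide +kernel) ccen cgo

end Cfsg.Agent.H63.L32
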