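/-
The multiplier of G2(4) (generated certificates).
-/
import Cfsg.Agent.H63.Pres2
import Cfsg.Agent.H58.SuzG

set_option autoImplicit false
set_option maxRecDepth 100000
set_option Elab.async false

namespace Cfsg.Agent.H63.G24

open H14

def I : ℕ := idm (nat_lit 12) (nat_lit 4)
noncomputable abbrev mu : ℕ → ℕ → ℕ := muB (nat_lit 12) (nat_lit 72) (nat_lit 4) (nat_lit 3) (nat_lit 3) (nat_lit 4) (nat_lit 11) (nat_lit 5)
noncomputable abbrev ok : ℕ → Bool := okB (nat_lit 12) (nat_lit 72) (nat_lit 3) (nat_lit 4) (nat_lit 11) (nat_lit 5)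
theorem par : EngOK (nat_lit 12) (nat_lit 3) (nat_lit 4) mu ok I := eng_B (by decide +kernel)
def ac1 : ℕ := nat_lit 0x110002020121110001010212002102122121121000210002112222220101212001212122011000201020102100201022012201022201211002101020110001120211120100102002
def ac2 : ℕ := nat_lit 0x110022120200221010200102112212221021021210010120222002110110202110102222100102002100220102202121222012112110020220211012002210201012210000220011
def ac3 : ℕ := nat_lit 0x200000000000021002221021011112021220021001121210222022010010112002211011110122220202120110001210100221222121002211221012110002102022012202212122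
def ac4 : ℕ := nat_lit 0x100111122000001002010121002100001220000102111102111011021221201001120212122210120220000211212212001221222210001101202111002122100011220011111010
def ac5 : ℕ := nat_lit 0x21000202021200021111102020000001002212212100100212120010121002221022012211221000011212022211122012011110111202001201201110100112120110020002012
def ac6 : ℕ := nat_lit 0x200212120220111110221111002000000000111121220120111002100200001012001201011111022112201112010110001101210011020111002212122211102112210021020202
def acs : List ℕ := [I, ac1, ac2, ac3, ac4, ac5, ac6]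
def aZs : List ℕ := [I, nat_lit 0x200000000000020000000000002000000000000200000000000020000000000002000000000000200000000000020000000000002000000000000200000000000020000000000002]
def ars : List (ℕ × List ℕ × ℕ) := [(2, [1], 4), (3, [1], 1), (4, [1], 1), (5, [1], 1), (6, [1], 1), (3, [2], 2), (4, [2], 1), (5, [2], 1), (6, [2], 2), (4, [3], 7), (5, [3], 1), (6, [3], 1), (5, [4], 2), (6, [4], 1), (6, [5], 1), (3, [4, 3, 4, 3, 4, 3, 4, 1], 0), (6, [3, 2, 1], 4), (5, [4, 3, 4, 3, 2, 4, 3, 4, 3, 2, 4, 3, 4, 3, 2, 4, 3, 4, 3, 2, 4, 3, 4, 3, 2], 2)]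
noncomputable def arv (q : ℕ) : Bool := relV mu I acs aZs (nth (0, [], 0) ars q)
theorem ar0 : (allN (nat_lit 18) fun t => force (Nat.add (nat_lit 0) t) arv) = true := by decide +kernel
theorem alet : letOK mu ok I acs aZs (nat_lit 0x61440c2040) 2 3 = true := by decide +kernel
theorem acen : cenOK mu (fun _ => true) I acs [(nat_lit 3, [nat_lit 4]), (nat_lit 3, [nat_lit 2, nat_lit 6, nat_lit 2, nat_lit 4]), (nat_lit 0, [nat_lit 1, nat_lit 0, nat_lit 1, nat_lit 0, nat_lit 1, nat_lit 0, nat_lit 1, nat_lit 0, nat_lit 1, nat_lit 1, nat_lit 0])] (nat_lit 1)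
    [(nat_lit 0, [nat_lit 0, nat_lit 0, nat_lit 0, nat_lit 0])] (nat_lit 3) (nat_lit 2) aZs = true := by decide +kernel
theorem acov {G : Type*} [Group G] [Finite G] [IsSimpleGroup G] (h : Univ G (List.map relW ars) (nat_lit 0x61440c2040) 7) :
    Cov G (nat_lit 12) (nat_lit 3) (nat_lit 4) acs 2 :=
  cov_of_rules' par h (rs := ars) (by decide +kernel) alet (chunk (nat_lit 18) (chunk0 _) ar0) acen
def asn44 : ℕ := nat_lit 0x210221121122220001122120000112001011121100101010020102212211020111212211220110201001211001201220001112000011110220002202001112001001211021201011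
def asn43 : ℕ := nat_lit 0x21222212222122100022002001000122000000100111120000110112020001012211102100100112111210010021002122012112120110021111002112200211101122121102200
def asn42 : ℕ := nat_lit 0x201102022102112020011102110202100000210020112211001000222012011120210010112210221001111112201211202020102010121202220100010002002121110000211201
def asn41 : ℕ := nat_lit 0x121222202112201210021110020100010020022222022010201212201020212201102022111101201012202002212001021202012102010020211000222122102022112122100020
def asn40 : ℕ := nat_lit 0x21012020211200020121110221202000002020002210112112211012221211202102112020222110021102222020022212202001000012222100121000221121020100111011102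
def asn39 : ℕ := nat_lit 0x222000110021100210022020110100210222000111122202110100122001110222221012100020101120220212011120202210121021102010102110000011021200220222222010
def asn38 : ℕ := nat_lit 0x221210001112220021020212002022120121122000122021011111020000102220010001120200220100112121100202202121001221001210012210010200022222001102110111
def asn37 : ℕ := nat_lit 0x211112101010012122010011002221202021210110200121011202121220222001111010012202211200221110210022002110120012101010200220212000210121221020121001
def asn36 : ℕ := nat_lit 0x1212220112022011200101000022021200022021121122022100010112100200102022010201000020002111102102022100200202011111200210210120222022121120100120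
def asn35 : ℕ := nat_lit 0x111100200100202202122212002111122210202221020212202110200202222112002222112101121221221110220101102010200201202022102201100021221211202110001121
def asn34 : ℕ := nat_lit 0x21120022110012101221220200022010011011022122102002122022120102222210111000012000110012220102221122111101001201022102000012201001020220012020011
def asn33 : ℕ := nat_lit 0x121212111222000200110210100012200201010211212000200011202201012000221101000022112121020020112022020202000122101112110220200202201121022212012011
def asn32 : ℕ := nat_lit 0x102102221000020102221102012120112000101002221201121212002112111110001122222021120010101210210010010000001211121222002012020012112122101111002210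
def asn31 : ℕ := nat_lit 0x102100110020012022220210122102122002200001102100000212012112021020212020200020022101100110111010210212212022210021120220122020010122221010201012
def asn30 : ℕ := nat_lit 0x222122202111010212100101120101111100211200211212221202021010112001220212202202211100020122110101211200120211000001022120211010012120210220110120
def asn29 : ℕ := nat_lit 0x2101021200221020101100121010011011222212122111221110202020001001010001200212211101211101011102102122020202201222222111110102021212201111202211
def asn28 : ℕ := nat_lit 0x1222012110220202000122112101011001222211102212222002000011110221211022101022000010220120020022201211012101112110021021100010211122212211011000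
def asn27 : ℕ := nat_lit 0x120110211110220002110120000010212011011200212110100112001000100010022002021012011221011011012010202211201112202201220000101102200002010001002021
def asn26 : ℕ := nat_lit 0x20211102220001001212012100002001222021010110102111221222002022001121021211011112002022002111021021110112102010112201020221000120122120211102222
def asn25 : ℕ := nat_lit 0x201200120211211211111000221111201211200110210221120210112112120221020211100121112010021000102211011102011010120220112012122020022221202011212210
def asn24 : ℕ := nat_lit 0x122002211120210002110102111001021222122220022201202111021200201220201022211110020200210110211221201121121221010222222111010122110100011222121222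
def asn23 : ℕ := nat_lit 0x21120110122122122222000222002112211201100002211012200220201002102002020212112022010222110122010122211111211012220220001221120110102111102220110
def asn22 : ℕ := nat_lit 0x211001122210120001220201222002012111211110011102101222012100102110102011122220010100120220122112102212212112020111111222020211220200022111212111
def asL0 : List ℕ := [asn44, asn43, asn42, asn41, asn40, asn39, asn38, asn37, asn36, asn35, asn34, asn33, asn32, asn31, asn30, asn29, asn28, asn27, asn26, asn25, asn24, asn23, asn22]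
theorem ass0 : slp mu I [(nat_lit 1, [nat_lit 2, nat_lit 6, nat_lit 5, nat_lit 3, nat_lit 4]), (nat_lit 6, [nat_lit 2, nat_lit 3, nat_lit 4, nat_lit 7, nat_lit 5]), (nat_lit 0, [nat_lit 6, nat_lit 1]), (nat_lit 0, [nat_lit 7, nat_lit 1]), (nat_lit 0, [nat_lit 7, nat_lit 1]), (nat_lit 0, [nat_lit 6, nat_lit 1]), (nat_lit 0, [nat_lit 12, nat_lit 1]), (nat_lit 0, [nat_lit 10, nat_lit 1]), (nat_lit 3, [nat_lit 3, nat_lit 3, nat_lit 0, nat_lit 3, nat_lit 0, nat_lit 3, nat_lit 2, nat_lit 4, nat_lit 2, nat_lit 2, nat_lit 0, nat_lit 2, nat_lit 5]), (nat_lit 6, [nat_lit 1, nat_lit 4, nat_lit 2, nat_lit 4, nat_lit 1, nat_lit 6, nat_lit 1, nat_lit 6, nat_lit 2, nat_lit 4, nat_lit 1, nat_lit 2]), (nat_lit 6, [nat_lit 4, nat_lit 4, nat_lit 6, nat_lit 5, nat_lit 4, nat_lit 2, nat_lit 2, nat_lit 4, nat_lit 6, nat_lit 2, nat_lit 5, nat_lit 6, nat_lit 7]), (nat_lit 3, [nat_lit 4, nat_lit 5, nat_lit 3, nat_lit 5, nat_lit 7, nat_lit 3, nat_lit 7, nat_lit 3, nat_lit 4, nat_lit 6, nat_lit 6, nat_lit 5, nat_lit 6]), (nat_lit 7, [nat_lit 6, nat_lit 5, nat_lit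 6, nat_lit 7, nat_lit 6, nat_lit 4, nat_lit 8, nat_lit 9, nat_lit 7, nat_lit 7, nat_lit 5, nat_lit 5]), (nat_lit 9, [nat_lit 7, nat_lit 8, nat_lit 6, nat_lit 7, nat_lit 10, nat_lit 5, nat_lit 5, nat_lit 5, nat_lit 8, nat_lit 5, nat_lit 5, nat_lit 8]), (nat_lit 4, [nat_lit 4, nat_lit 4, nat_lit 1, nat_lit 0, nat_lit 2, nat_lit 0, nat_lit 4, nat_lit 5, nat_lit 5, nat_lit 0, nat_lit 0]), (nat_lit 7, [nat_lit 8, nat_lit 12, nat_lit 8, nat_lit 12, nat_lit 10, nat_lit 12, nat_lit 3, nat_lit 6, nat_lit 5, nat_lit 4, nat_lit 2, nat_lit 0]), (nat_lit 8, [nat_lit 9, nat_lit 12, nat_lit 12, nat_lit 9, nat_lit 12, nat_lit 6, nat_lit 2, nat_lit 7, nat_lit 3, nat_lit 1]), (nat_lit 9, [nat_lit 9, nat_lit 11, nat_lit 12, nat_lit 13, nat_lit 13, nat_lit 3, nat_lit 7, nat_lit 7, nat_lit 7, nat_lit 8]), (nat_lit 14, [nat_lit 10, nat_lit 14, nat_lit 13, nat_lit 12, nat_lit 15, nat_lit 14, nat_lit 4, nat_lit 8, nat_lit 7, nat_lit 9, nat_lit 7, nat_lit 3]), (nat_lit 12, [nat_lit 12, nat_lit 12, nat_lit 16, nat_lit 11, nat_lit 16, nat_lit 5, nat_lit 7, nat_lit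 9, nat_lit 8, nat_lit 9, nat_lit 10]), (nat_lit 15, [nat_lit 14, nat_lit 17, nat_lit 17, nat_lit 15, nat_lit 15, nat_lit 10, nat_lit 11, nat_lit 9, nat_lit 10, nat_lit 9, nat_lit 11, nat_lit 5]), (nat_lit 17, [nat_lit 16, nat_lit 13, nat_lit 15, nat_lit 13, nat_lit 13, nat_lit 18, nat_lit 12, nat_lit 7, nat_lit 11, nat_lit 8, nat_lit 10, nat_lit 6]), (nat_lit 14, [nat_lit 15, nat_lit 18, nat_lit 14, nat_lit 14, nat_lit 15, nat_lit 11, nat_lit 9, nat_lit 11, nat_lit 11, nat_lit 13]), (nat_lit 18, [nat_lit 18, nat_lit 17, nat_lit 20, nat_lit 17, nat_lit 19, nat_lit 20, nat_lit 14, nat_lit 10, nat_lit 10, nat_lit 8]), (nat_lit 21, [nat_lit 21, nat_lit 19, nat_lit 20, nat_lit 19, nat_lit 20, nat_lit 21, nat_lit 14, nat_lit 15, nat_lit 11]), (nat_lit 21, [nat_lit 17, nat_lit 20, nat_lit 17, nat_lit 18, nat_lit 21, nat_lit 12, nat_lit 12, nat_lit 14, nat_lit 16, nat_lit 15, nat_lit 10]), (nat_lit 19, [nat_lit 22, nat_lit 19, nat_lit 22, nat_lit 22, nat_lit 20, nat_lit 14, nat_lit 15, nat_lit 15, nat_lit 12, nat_lit 14, nat_lit 11]), (nat_lit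 22, [nat_lit 20, nat_lit 19, nat_lit 19, nat_lit 23, nat_lit 22, nat_lit 22, nat_lit 17, nat_lit 16, nat_lit 14, nat_lit 15]), (nat_lit 20, [nat_lit 23, nat_lit 21, nat_lit 20, nat_lit 20, nat_lit 21, nat_lit 15, nat_lit 14, nat_lit 15, nat_lit 19, nat_lit 19]), (nat_lit 23, [nat_lit 21, nat_lit 22, nat_lit 24, nat_lit 26, nat_lit 26, nat_lit 20, nat_lit 15, nat_lit 18, nat_lit 18]), (nat_lit 22, [nat_lit 23, nat_lit 23, nat_lit 23, nat_lit 26, nat_lit 27, nat_lit 20, nat_lit 19, nat_lit 17, nat_lit 19, nat_lit 20, nat_lit 15]), (nat_lit 24, [nat_lit 27, nat_lit 28, nat_lit 25, nat_lit 26, nat_lit 27, nat_lit 27, nat_lit 17, nat_lit 19, nat_lit 17, nat_lit 20, nat_lit 22, nat_lit 16]), (nat_lit 29, [nat_lit 26, nat_lit 27, nat_lit 25, nat_lit 29, nat_lit 27, nat_lit 23, nat_lit 22, nat_lit 19, nat_lit 23, nat_lit 22, nat_lit 17]), (nat_lit 27, [nat_lit 30, nat_lit 29, nat_lit 26, nat_lit 29, nat_lit 26, nat_lit 30, nat_lit 21, nat_lit 19, nat_lit 24, nat_lit 20]), (nat_lit 28, [nat_lit 26, nat_lit 31, nat_lit 26, nat_lit 29, nat_lit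 28, nat_lit 29, nat_lit 23, nat_lit 23, nat_lit 22, nat_lit 20, nat_lit 22, nat_lit 19]), (nat_lit 27, [nat_lit 27, nat_lit 27, nat_lit 27, nat_lit 32, nat_lit 31, nat_lit 31, nat_lit 26, nat_lit 22, nat_lit 22, nat_lit 22, nat_lit 25, nat_lit 26, nat_lit 20]), (nat_lit 28, [nat_lit 32, nat_lit 28, nat_lit 30, nat_lit 31, nat_lit 22, nat_lit 25, nat_lit 25, nat_lit 26, nat_lit 24]), (nat_lit 34, [nat_lit 31, nat_lit 31, nat_lit 34, nat_lit 33, nat_lit 32, nat_lit 34, nat_lit 27, nat_lit 23, nat_lit 25, nat_lit 24, nat_lit 27, nat_lit 27, nat_lit 22])]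
    (fun R => allL asL0 fun A => anyL (tk I R (nat_lit 45)) (Nat.beq A)) acs = true := by decide +kernel
theorem asmd {G : Type*} [Group G] (hM : Mod G (nat_lit 12) (nat_lit 3) (nat_lit 4) acs) : Mod G (nat_lit 12) (nat_lit 3) (nat_lit 4) asL0 :=
  Mod.slp2 par (hM) ass0
def ap2Tab : ℕ := nat_lit 0x1333abcd64a821357018001000e016006004f40c455d80111c9a459e2437ddc0080020008259200480120044010805301400500140040010004000123229888023a09302300f402c00900200080020000000000580102042010004c014005001000400100000000000cd084824c0a203100a002800800200080000000000000014108046013804001000400100040000000000000000004022008802000800200080020000000000000000000001004c010004001000400100000000000000000000000005008002000800200080000000000000000000000000000001000400100040000000000000000000000000000000000200080020000000000000000000000000000000000000040010000000000000000000000000000000000000000008000000000000000000000000000000000000000000000000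
def ap2QT : ℕ := nat_lit 0x1200300040010004001000400100040010007400400080020008002000800200080020008000000000000000000000000000000000000000000000000000000000000000000000000000000000000000000000000000000000000000000000000000000000000000000000000000000000000000000000000000000000000000000000000000000000000000000000000000000000000000000000000000000000000000000000000000000000000000000000000000000000000000000000000000000000000000000000000000000000000000000000000000000000000000000000000000000000000000000000000000000000000000000000000000000000000000000000000000000000000000000000000000000000000000000000000000000000000000000000000000000000000000000000000000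
def ap2GT : ℕ := nat_lit 0xe007003801c00e007003801c00e007003801a00d006803401a00d006803401a00d0068000000000000000000000000000000000000000000000000000000000000000000000000000000000000000000000000000000000000000000000000000000000000000000000000000000000000000000000000000000000000000000000000000000000000000000000000000000000000000000000000000000000000000000000000000000000000000000000000000000000000000000000000000000000000000000000000000000000000000000000000000000000000000000000000000000000000000000000000000000000000000000000000000000000000000000000000000000000000000000000000000000000000000000000000000000000000000000000000000000000000000000000000000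
def ap2As : List ℕ := [nat_lit 0x4001000400, nat_lit 0x2001000400, nat_lit 0x2000400200, nat_lit 0x2001000200, nat_lit 0x4002000800, nat_lit 0x4000400200, nat_lit 0x4001000020, nat_lit 0x4001000200, nat_lit 0x4002000200, nat_lit 0x4000400020, nat_lit 0x2001000080, nat_lit 0x800400040, nat_lit 0x2001000040, nat_lit 0x2000400040, nat_lit 0x2001000800, nat_lit 0x4002000400, nat_lit 0x800400200, nat_lit 0x4002000020, nat_lit 0x4000800020, nat_lit 0x2001000010, nat_lit 0x4000800040, nat_lit 0x4002000100, nat_lit 0x4000800100, nat_lit 0x4001000010, nat_lit 0x2000400010, nat_lit 0x4001000008, nat_lit 0x2001000008, nat_lit 0x2000400008, nat_lit 0x800200100, nat_lit 0x800040020, nat_lit 0x4002001000, nat_lit 0x4000800008, nat_lit 0x4000400010, nat_lit 0x4000400008, nat_lit 0x4000200100, nat_lit 0x4000200080, nat_lit 0x4000040020, nat_lit 0x800080040, nat_lit 0x4000040010, nat_lit 0x2000080040, nat_lit 0x1000200100, nat_lit 0x1000800200, nat_lit 0x4001000002, nat_lit 0x4000800001, nat_lit 0x4000400001, nat_lit 0x2000400002, nat_lit 0x2000400001,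 nat_lit 0x200040010, nat_lit 0x200040008, nat_lit 0x4000800400, nat_lit 0x4000100080, nat_lit 0x1000080008, nat_lit 0x400100080, nat_lit 0x80040010, nat_lit 0x80040008, nat_lit 0x80040002, nat_lit 0x200100020, nat_lit 0x2000010008, nat_lit 0x800010008, nat_lit 0x400200100, nat_lit 0x80040020, nat_lit 0x1000080040, nat_lit 0x100080010, nat_lit 0x100080008, nat_lit 0x100080002, nat_lit 0x100080001, nat_lit 0x1000800010, nat_lit 0x1000800008, nat_lit 0x200100080, nat_lit 0x100080040]
def ap2Fs : List (ℕ × List ℕ × List ℕ) := [(nat_lit 14, [nat_lit 188, nat_lit 189], [nat_lit 189, nat_lit 188, nat_lit 184]), (nat_lit 14, [nat_lit 188, nat_lit 188], [nat_lit 184]), (nat_lit 14, [nat_lit 187, nat_lit 191], [nat_lit 191, nat_lit 187, nat_lit 186, nat_lit 184, nat_lit 183, nat_lit 182]), (nat_lit 14, [nat_lit 187, nat_lit 192], [nat_lit 192, nat_lit 187, nat_lit 186, nat_lit 185, nat_lit 183, nat_lit 182]), (nat_lit 14, [nat_lit 190, nat_lit 190], [nat_lit 184, nat_lit 182]), (nat_lit 14, [nat_lit 187, nat_lit 189], [nat_lit 189, nat_lit 187,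 nat_lit 183]), (nat_lit 14, [nat_lit 189, nat_lit 189], [nat_lit 184]), (nat_lit 14, [nat_lit 187, nat_lit 187], [nat_lit 184, nat_lit 182]), (nat_lit 13, [nat_lit 174, nat_lit 176], [nat_lit 176, nat_lit 174]), (nat_lit 13, [nat_lit 179, nat_lit 179], [nat_lit 173, nat_lit 171]), (nat_lit 13, [nat_lit 176, nat_lit 179], [nat_lit 179, nat_lit 176, nat_lit 173, nat_lit 172, nat_lit 171]), (nat_lit 13, [nat_lit 177, nat_lit 179], [nat_lit 179, nat_lit 177, nat_lit 173, nat_lit 172]), (nat_lit 13, [nat_lit 176, nat_lit 178], [nat_lit 178, nat_lit 176, nat_lit 172]), (nat_lit 13, [nat_lit 176, nat_lit 176], [nat_lit 173, nat_lit 171]), (nat_lit 13, [nat_lit 175, nat_lit 179], [nat_lit 179, nat_lit 175]), (nat_lit 13, [nat_lit 175, nat_lit 176], [nat_lit 176, nat_lit 175]), (nat_lit 13, [nat_lit 175, nat_lit 180], [nat_lit 180, nat_lit 175, nat_lit 173]), (nat_lit 13, [nat_lit 177, nat_lit 177], [nat_lit 173]), (nat_lit 13, [nat_lit 178, nat_lit 178], [nat_lit 173]), (nat_lit 13, [nat_lit 175, nat_lit 175], [])]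
def ap2Mc : List ℕ := [nat_lit 0, nat_lit 0, nat_lit 0, nat_lit 0, nat_lit 0x800000000000000000000000000000000000000000, nat_lit 0x400000000000000000000000000000000000000000, nat_lit 0x200000000000000000000000000000000000000000, nat_lit 0x1a001c00400000000000000000000000000000000000000, nat_lit 0x14001400000000000000000000000000000000000000000, nat_lit 0x16000000000000000000000000000000000000000000000, nat_lit 0x4001400000000000000000000000000000000000000000, nat_lit 0x10001400000000000000000000000000000000000000000, nat_lit 0xa000000000000000000000000000000000000000000000]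
def ap2Uc : List (ℕ × ℕ × ℕ) := []
def ap2Cs : List (List ℕ) := [[nat_lit 0x904000000], [nat_lit 0x402000000, nat_lit 0x20080000000], [nat_lit 0x1000000, nat_lit 0x2000000, nat_lit 0x10800000], [nat_lit 0x804000000, nat_lit 0x20000000000, nat_lit 0x4000000, nat_lit 0x4130848ccc16b00000], [nat_lit 0x1008000000, nat_lit 0x40000000000, nat_lit 0x8000000, nat_lit 0x8080024000000, nat_lit 0x21020991ca00000], [nat_lit 0x80000000000, nat_lit 0x100000000000, nat_lit 0x80020000000, nat_lit 0x459386401ce3c500000, nat_lit 0x13d73130d2af8528000000, nat_lit 0x5bff05fba8d0f60e93d821], [nat_lit 0x200000000000, nat_lit 0x4000000000, nat_lit 0x100000, nat_lit 0x13d32e5ba20a1f1e400000, nat_lit 0x16220980100000000, nat_lit 0xabe71bc08b4caf9d02eb79, nat_lit 0x3d6224f3eebd802007], [nat_lit 0x400000000000, nat_lit 0xa02a0000000, nat_lit 0x200000, nat_lit 0x41c0e542d5b36300000, nat_lit 0x4000a000000000, nat_lit 0xb8a079923b78a40222cb75, nat_lit 0x3d6074bfdc8c70200c, nat_lit 0x1c02142c7b24f02001], [nat_lit 0x2050a00000, nat_lit 0x800000000000, nat_lit 0x2010a00000,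 nat_lit 0x13d77032460be87eb00000, nat_lit 0x4180a50ad9b36400000, nat_lit 0x13970a734cf9ed3e711000, nat_lit 0xb81472fa0972e1ab42eb79, nat_lit 0x4096a22548738c0200c, nat_lit 0x1581d2f68d121df4513d35e], [nat_lit 0x13d73042e21f8428000000, nat_lit 0x13d73250f62544a8300000, nat_lit 0x16020988110a00000, nat_lit 0xb9302d93a326da0f02cb75, nat_lit 0x44237b24aac7ae90200c, nat_lit 0x1a845d045dfe135c1f18add, nat_lit 0x3c35f3d22602c5d88918821, nat_lit 0x369ba20f33111432f934354, nat_lit 0x117377476fc1d078571501b, nat_lit 0x337b3c58c680df00a55500d], [nat_lit 0x2820090000000, nat_lit 0x20080400000, nat_lit 0x10000000, nat_lit 0xb8a0f9963b782414e2cb75, nat_lit 0x1d6036757e2490200c, nat_lit 0x1bb42cc5771ad9e2182ead1, nat_lit 0x2514d322150000b, nat_lit 0x1c02142d7b34502001, nat_lit 0xab77c0a2e953a13282cb65, nat_lit 0x2040e02d07babece8b00d, nat_lit 0x2102b9bbe400001], [nat_lit 0x13d3298a22082742e00000, nat_lit 0x13d3693a86064e16500000, nat_lit 0x4024092900000, nat_lit 0xb0e10281dbcb0d11e3fb79, nat_lit 0xb824304aad44ccfef2eb79, nat_lit 0xa489bbd06fb593c8e302e7,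 nat_lit 0xa811400d8747f13cb2eaca, nat_lit 0x16b4e8eeaf7a298be43434f, nat_lit 0xb752d25ae1b1f5939302e7, nat_lit 0x403df3a30b030c3665871f, nat_lit 0x36a6ca58949127ad7dbf369, nat_lit 0], [nat_lit 0x41808c08d823a400000, nat_lit 0x41c0a542f5bb6700000, nat_lit 0x8010a00000, nat_lit 0xab7609926d47ed1e92cb75, nat_lit 0x1626259a51800200c, nat_lit 0x1a8956161f72a40a152aad1, nat_lit 0x378290dd8f7d33f0433435f, nat_lit 0x41d6036767ea650200c, nat_lit 0xb8a4f8f019a12109427b68, nat_lit 0, nat_lit 0, nat_lit 0, nat_lit 0]]
def ap2Lv : List (ℕ × List ℕ) := [(nat_lit 0x12102222020, [nat_lit 2, nat_lit 8, nat_lit 32, nat_lit 128, nat_lit 512, nat_lit 2048]), (nat_lit 0x212002122, [nat_lit 1187]), (nat_lit 0x202221100201, [nat_lit 1, nat_lit 6, nat_lit 26, nat_lit 103, nat_lit 301, nat_lit 6999])]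
theorem ap2chk : check (nat_lit 2) (nat_lit 1) (nat_lit 13) (nat_lit 13) (nat_lit 193) (nat_lit 2) (nat_lit 1) ap2Tab ap2QT ap2GT
    (Nat.mul (nat_lit 4095) (Nat.div (Nat.shiftLeft (nat_lit 1) (nat_lit 2509)) (nat_lit 8191)))
    ap2As ap2Fs ap2Mc ap2Uc (cfOf ap2Cs) = true := by decide +kernel
def ap2tb : List ℕ := [asn22, asn23, asn24, asn25, asn26, asn27, asn28, asn29, asn30, asn31, asn32, asn33, asn34, asn35, asn36]
noncomputable def ap2rq : ℕ → Bool := relQ (nat_lit 2) (nat_lit 1) (nat_lit 13) (nat_lit 13) (nat_lit 15) ap2Tab ap2QT ap2GT (apM mu (nth I ap2tb)) I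
theorem ap2r0 : (allN (nat_lit 191) fun t => force (Nat.add (nat_lit 0) t) ap2rq) = true := by decide +kernel
theorem ap2low : lowOK (nat_lit 2) (nat_lit 1) (nat_lit 13) (nat_lit 845) (apM mu (nth I ap2tb)) ap2Lv = true := by decide +kernel
theorem ap2pb {G : Type*} [Group G] [Finite G] (hM : Mod G (nat_lit 12) (nat_lit 3) (nat_lit 4) asL0) (ho : Nat.card G = 503193600) :
    PB 2 G [] :=
  (hM.slp2 par (ws := []) (n := 23) (gens' := ap2tb) (by decide +kernel)).pb2 par (e := 0) Nat.prime_two ho
    (chunk (nat_lit 191) (chunk0 _) ap2r0) ap2low ap2chk (by decide +kernel)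
def ap3Tab : ℕ := nat_lit 0x2208010005010000010000000000
def ap3QT : ℕ := nat_lit 0x1004010000000000000000000000
def ap3GT : ℕ := nat_lit 0x303030000000000000000000000
def ap3As : List ℕ := [nat_lit 67588]
def ap3Fs : List (ℕ × List ℕ × List ℕ) := [(nat_lit 3, [nat_lit 13, nat_lit 13, nat_lit 13], []), (nat_lit 3, [nat_lit 11, nat_lit 13], [nat_lit 13, nat_lit 11]), (nat_lit 3, [nat_lit 11, nat_lit 12], [nat_lit 12, nat_lit 11]), (nat_lit 3, [nat_lit 12, nat_lit 12, nat_lit 12], [])]
def ap3Mc : List ℕ := [nat_lit 0, nat_lit 0, nat_lit 16384]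
def ap3Uc : List (ℕ × ℕ × ℕ) := []
def ap3Cs : List (List ℕ) := [[nat_lit 512], [nat_lit 8, nat_lit 2], [nat_lit 32, nat_lit 0, nat_lit 640]]
def ap3Lv : List (ℕ × List ℕ) := [(nat_lit 0x200122220020, [nat_lit 1, nat_lit 4, nat_lit 16])]
theorem ap3chk : check (nat_lit 3) (nat_lit 2) (nat_lit 3) (nat_lit 8) (nat_lit 14) (nat_lit 3) (nat_lit 2) ap3Tab ap3QT ap3GT
    (Nat.mul (nat_lit 63) (Nat.div (Nat.shiftLeft (nat_lit 1) (nat_lit 112)) (nat_lit 255)))
    ap3As ap3Fs ap3Mc ap3Uc (cfOf ap3Cs) = true := by decide +kernel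
def ap3tb : List ℕ := [asn37, asn38, asn39, asn40]
noncomputable def ap3rq : ℕ → Bool := relQ (nat_lit 3) (nat_lit 2) (nat_lit 3) (nat_lit 8) (nat_lit 4) ap3Tab ap3QT ap3GT (apM mu (nth I ap3tb)) I
theorem ap3r0 : (allN (nat_lit 12) fun t => force (Nat.add (nat_lit 0) t) ap3rq) = true := by decide +kernel
theorem ap3low : lowOK (nat_lit 3) (nat_lit 2) (nat_lit 3) (nat_lit 126) (apM mu (nth I ap3tb)) ap3Lv = true := by decide +kernel
theorem ap3pb {G : Type*} [Group G] [Finite G] (hM : Mod G (nat_lit 12) (nat_lit 3) (nat_lit 4) asL0) (ho : Nat.card G = 503193600) :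
    PB 3 G [] :=
  (hM.slp2 par (ws := []) (n := 23) (gens' := ap3tb) (by decide +kernel)).pb2 par (e := 0) Nat.prime_three ho
    (chunk (nat_lit 12) (chunk0 _) ap3r0) ap3low ap3chk (by decide +kernel)
def ap5Tab : ℕ := nat_lit 0x3212040100001000000000
def ap5QT : ℕ := nat_lit 0x1001040040000000000000
def ap5GT : ℕ := nat_lit 0x603010080000000000000
def ap5As : List ℕ := []
def ap5Fs : List (ℕ × List ℕ × List ℕ) := [(nat_lit 3, [nat_lit 8, nat_lit 8, nat_lit 8, nat_lit 8, nat_lit 8], []), (nat_lit 2, [nat_lit 6, nat_lit 6, nat_lit 6, nat_lit 6, nat_lit 6], []), (nat_lit 2, [nat_lit 6, nat_lit 7], [nat_lit 7, nat_lit 6])]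
def ap5Mc : List ℕ := [nat_lit 0, nat_lit 0]
def ap5Uc : List (ℕ × ℕ × ℕ) := []
def ap5Cs : List (List ℕ) := [[nat_lit 24], [nat_lit 3, nat_lit 136]]
def ap5Lv : List (ℕ × List ℕ) := [(nat_lit 0x200122220020, [nat_lit 1, nat_lit 8])]
theorem ap5chk : check (nat_lit 5) (nat_lit 3) (nat_lit 2) (nat_lit 9) (nat_lit 10) (nat_lit 5) (nat_lit 3) ap5Tab ap5QT ap5GT
    (Nat.mul (nat_lit 63) (Nat.div (Nat.shiftLeft (nat_lit 1) (nat_lit 90)) (nat_lit 511)))
    ap5As ap5Fs ap5Mc ap5Uc (cfOf ap5Cs) = true := by decide +kernel
def ap5tb : List ℕ := [asn41, asn42, asn43, asn44]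
noncomputable def ap5rq : ℕ → Bool := relQ (nat_lit 5) (nat_lit 3) (nat_lit 2) (nat_lit 9) (nat_lit 4) ap5Tab ap5QT ap5GT (apM mu (nth I ap5tb)) I
theorem ap5r0 : (allN (nat_lit 8) fun t => force (Nat.add (nat_lit 0) t) ap5rq) = true := by decide +kernel
theorem ap5low : lowOK (nat_lit 5) (nat_lit 3) (nat_lit 2) (nat_lit 101) (apM mu (nth I ap5tb)) ap5Lv = true := by decide +kernel
theorem ap5pb {G : Type*} [Group G] [Finite G] (hM : Mod G (nat_lit 12) (nat_lit 3) (nat_lit 4) asL0) (ho : Nat.card G = 503193600) :
    PB 5 G [] :=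
  (hM.slp2 par (ws := []) (n := 23) (gens' := ap5tb) (by decide +kernel)).pb2 par (e := 0) Nat.prime_five ho
    (chunk (nat_lit 8) (chunk0 _) ap5r0) ap5low ap5chk (by decide +kernel)

end Cfsg.Agent.H63.G24
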