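/-
The bit matrices of `H57` over a field with four elements as tables of `H63.Lin`.
-/
import Cfsg.Agent.H63.FLin
import Cfsg.Agent.H63.Mod
import Cfsg.Agent.H57.F4

set_option autoImplicit false

namespace Cfsg.Agent.H63

open H14 (allL allL_iff)
open H57 (Cd Has)
open Matrix

variable {F ι : Type*} [Field F] [Fintype ι] [DecidableEq ι] [Nonempty ι] {d : ℕ} (c : Cd F ι d)

omit [Fintype ι] [DecidableEq ι] in
theorem exists_reg4 : ∃ r : F →+* Matrix (Fin 2) (Fin 2) (ZMod 2), ∀ a b, r (c.el a b) = !![a, b; b, a + b] := by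
  choose f g h using fun x => c.exists_el x
  have h1 : ∀ a b, f (c.el a b) = a ∧ g (c.el a b) = b := fun a b => c.el_inj (h _).symm
  refine ⟨{ toFun := fun x => !![f x, g x; g x, f x + g x]
            map_one' := by rw [← c.el10, (h1 _ _).1, (h1 _ _).2]; decide
            map_zero' := by rw [← c.el00, (h1 _ _).1, (h1 _ _).2]; decide
            map_mul' := fun x y => ?_
            map_add' := fun x y => ?_ }, fun a b => ?_⟩
  · conv_lhs => rw [h x, h y, c.el_mul, (h1 _ _).1, (h1 _ _).2]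
    generalize f x = a, g x = b, f y = a', g y = b'
    revert a b a' b'; decide
  · conv_lhs => rw [h x, h y, ← c.el_add, (h1 _ _).1, (h1 _ _).2]
    generalize f x = a, g x = b, f y = a', g y = b'
    revert a b a' b'; decide
  · change !![_, _; _, _] = _
    rw [(h1 _ _).1, (h1 _ _).2]

/-- blocks of multiplication by the elements of the field -/
def rg4 (x a b : ℕ) : ℕ := dg 2 (nat_lit 0x7e90) (x * 4 + a * 2 + b)

/-- the code of an entry of a bit matrix -/
def cd4 (A : List ℕ) (i j : ℕ) : ℕ :=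
  ((A.getD (2 * i) 0).testBit (2 * j)).toNat + 2 * ((A.getD (2 * i + 1) 0).testBit (2 * j)).toNat

theorem rg4_spec : ∀ x y : Bool, ∀ a b : Fin 2,
    !![(if x then 1 else 0 : ZMod 2), if y then 1 else 0; if y then 1 else 0,
      (if x then 1 else 0) + if y then 1 else 0] a b = (rg4 (x.toNat + 2 * y.toNat) a b : ℕ) := by
  intro x y a b
  fin_cases a <;> fin_cases b <;> cases x <;> cases y <;> decide

theorem mod_of_has (K : Subgroup (GL ι F)) {D : ℕ} {As : List (List ℕ × ℕ)} (h1 : ∀ A ∈ As, Has c.red K A.1)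
    (h2 : (allL As fun A => blkOK d 2 D 2 A.2 rg4 (cd4 A.1)) = true) : Mod K d 2 D (As.map Prod.snd) := by
  obtain ⟨r, hr⟩ := exists_reg4 c
  refine Mod.sub (brho r c.e c.hd (Units.coeHom _)) K
    (fun g _ => brho_inj r c.e c.hd _ two_pos Units.val_injective g) fun A hA => ?_
  obtain ⟨A, hA', rfl⟩ := List.mem_map.1 hA
  obtain ⟨g, hg, h⟩ := h1 A hA'
  refine hasT_blow r c.e c.hd _ hg (fun i j a b => ?_) (allL_iff.1 h2 A hA')
  rw [show Units.coeHom _ g i j = _ from c.entry_of_rep h i j, hr]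
  simp only [cd4, H57.ent, H57.bit, Cd.lo, Cd.hi]
  exact rg4_spec _ _ a b

end Cfsg.Agent.H63
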