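/-
Stem extensions of the Harada-Norton group split (generated certificates).
-/
import Cfsg.Agent.H63.Split2
import Cfsg.Agent.H17.HnK
import Cfsg.Agent.S2046
import Cfsg.Agent.H63.Cert.HnZ3
import Cfsg.Agent.H63.Cert.HnZ4
import Cfsg.Agent.H63.Cert.HnZ6
import Cfsg.Agent.H63.Cert.HnZ7

set_option autoImplicit false
set_option maxRecDepth 100000
set_option Elab.async false

namespace Cfsg.Agent.H63.HN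

open H58 H17

def code : Spor.HN.Gen → ℕ
  | .x => 1
  | .y => 3
  | .z => 5
  | .t => 7

def iv : ℕ := 10558443385856725120
def rG : List (List ℕ) := [[3, 3, 3, 3, 3, 3], [1, 1, 3, 1, 1, 4], [2, 4, 1, 3, 2, 4, 1, 3, 2, 4, 1, 3], [2, 3, 3, 1, 3, 3, 3, 2, 3, 3, 1, 3, 3, 3, 2, 3, 3, 1, 3, 3, 3], [1, 3, 1, 3, 1, 3, 1, 3, 1, 3, 1, 3, 1, 3, 1, 3], [1, 3, 1, 3, 3, 3, 1, 3, 1, 3, 3, 3, 1, 3, 1, 3, 3, 3, 1, 3, 1, 3, 3, 3], [5, 5], [5, 1, 5, 1], [6, 3, 2, 4, 4, 2, 4, 2, 4, 5, 3, 1, 3, 1, 3, 3, 1, 4, 2, 2], [5, 4, 2, 4, 2, 4, 4, 4, 5, 3, 3, 3, 1, 3, 1, 3, 1, 4, 2, 4, 2, 4, 4, 4, 5, 3, 3, 3, 1, 3, 1, 3, 1, 4, 2, 4, 2, 4, 4, 4, 5, 3, 3, 3, 1, 3, 1, 3, 1], [7, 7, 7, 7, 7], [2, 7, 1, 7, 7], [8, 4, 7, 3], [5, 7, 5, 7, 5, 7], [1, 1, 1, 1], [5, 1, 6, 1], [5, 3, 6, 10], [5,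 9, 6, 4]]
def el : ℕ → Spor.HN := elX HnP.el HnP.iv 1 [[1], [2], [3], [4], [5], [5], [6], [7], [5, 3, 5], [5, 4, 5]]
theorem RG : RuleOK el rG iv :=
  RuleOK.extend ((RuleOK_sub HnP.RA (rels' := HnP.rels0 ++ [[1, 1, 1, 1]]) (by decide +kernel)).snoc [0]
    (by simp [wv, HnP.RA.h0]) rfl) (wit := [(1, 0), (3, 0), (5, 0), (7, 0), (9, 0), (11, 0), (0, 0), (15, 0), (17, 0), (19, 0), (21, 0), (23, 0), (25, 0), (27, 0), (29, 0), (15, 0), (0, 0), (0, 0)])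
    (wit' := [(0, 0), (0, 0), (0, 0), (0, 0), (0, 0), (0, 0), (0, 0), (0, 0), (0, 0), (0, 0), (0, 0), (31, 0), (31, 0), (31, 0), (31, 0), (31, 0), (31, 0), (31, 0), (31, 0), (31, 0), (31, 0), (31, 0), (31, 0), (31, 0), (31, 0), (31, 0), (31, 0), (31, 0), (31, 0), (31, 0), (31, 0), (31, 0), (31, 0), (31, 0), (31, 0), (31, 0), (31, 0), (31, 0), (31, 0), (31, 0), (31, 0), (31, 0), (31, 0), (31, 0), (31, 0), (31, 0), (31, 0), (31, 0), (31, 0), (31, 0), (31, 0), (31, 0), (31, 0), (31, 0), (31, 0), (31, 0), (31, 0), (31, 0), (31, 0), (31, 0), (31, 0), (31, 0), (31, 0), (31, 0)]) (by decide +kernel)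
def rs1 : List (List ℕ) := [[3, 3, 3, 3, 3, 3], [1, 1, 3, 1, 1, 4], [2, 4, 1, 3, 2, 4, 1, 3, 2, 4, 1, 3], [2, 3, 3, 1, 3, 3, 3, 2, 3, 3, 1, 3, 3, 3, 2, 3, 3, 1, 3, 3, 3], [1, 3, 1, 3, 1, 3, 1, 3, 1, 3, 1, 3, 1, 3, 1, 3], [1, 3, 1, 3, 3, 3, 1, 3, 1, 3, 3, 3, 1, 3, 1, 3, 3, 3, 1, 3, 1, 3, 3, 3], [1, 1, 1, 1]]
def rs2 : List (List ℕ) := [[5, 1, 6, 1], [5, 2, 6, 2], [5, 3, 6, 10], [5, 4, 6, 9], [5, 9, 6, 4], [5, 10, 6, 3], [3, 3, 3, 3, 3, 3], [1, 1, 3, 1, 1, 4], [2, 4, 1, 3, 2, 4, 1, 3, 2, 4, 1, 3], [2, 3, 3, 1, 3, 3, 3, 2, 3, 3, 1, 3, 3, 3, 2, 3, 3, 1, 3, 3, 3], [1, 3, 1, 3, 1, 3, 1, 3, 1, 3, 1, 3, 1, 3, 1, 3], [1, 3, 1, 3, 3, 3, 1, 3, 1, 3, 3, 3, 1, 3, 1, 3, 3, 3, 1, 3, 1, 3, 3, 3], [1, 1, 1, 1]]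
def rs3 : List (List ℕ) := [[7, 7, 7, 7, 7, 7, 7, 7, 7, 7, 2, 8, 1, 8, 8, 2, 8, 1, 8, 8, 2, 8, 1, 8, 8], [5, 1, 6, 1], [5, 2, 6, 2], [5, 3, 6, 10], [5, 4, 6, 9], [5, 9, 6, 4], [5, 10, 6, 3], [3, 3, 3, 3, 3, 3], [1, 1, 3, 1, 1, 4], [2, 4, 1, 3, 2, 4, 1, 3, 2, 4, 1, 3], [2, 3, 3, 1, 3, 3, 3, 2, 3, 3, 1, 3, 3, 3, 2, 3, 3, 1, 3, 3, 3], [1, 3, 1, 3, 1, 3, 1, 3, 1, 3, 1, 3, 1, 3, 1, 3], [1, 3, 1, 3, 3, 3, 1, 3, 1, 3, 3, 3, 1, 3, 1, 3, 3, 3, 1, 3, 1, 3, 3, 3], [1, 1, 1, 1]]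
def rs4 : List (List ℕ) := [[7, 7, 7, 7, 7, 7, 7, 7, 7, 7, 2, 8, 1, 8, 8, 2, 8, 1, 8, 8, 2, 8, 1, 8, 8], [5, 1, 6, 1], [5, 2, 6, 2], [5, 3, 6, 10], [5, 4, 6, 9], [5, 9, 6, 4], [5, 10, 6, 3], [3, 3, 3, 3, 3, 3], [1, 1, 3, 1, 1, 4], [2, 4, 1, 3, 2, 4, 1, 3, 2, 4, 1, 3], [2, 3, 3, 1, 3, 3, 3, 2, 3, 3, 1, 3, 3, 3, 2, 3, 3, 1, 3, 3, 3], [1, 3, 1, 3, 1, 3, 1, 3, 1, 3, 1, 3, 1, 3, 1, 3], [1, 3, 1, 3, 3, 3, 1, 3, 1, 3, 3, 3, 1, 3, 1, 3, 3, 3, 1, 3, 1, 3, 3, 3], [1, 1, 1, 1], [7, 7, 7, 7, 7], [7, 7, 2, 7, 1]]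
theorem st4 : stepOK rG iv [1, 2, 3, 4, 9, 10] rs3 11 [[7, 7, 7, 7, 7], [8, 8, 8, 8, 8], [7, 7, 2, 7, 1], [2, 8, 1, 8, 8]]
    [(11, [(21, 0)]), (12, [(22, 0)]), (13, [(23, 3)]), (14, [(24, 2)])]
    HnZ3.rels HnZ3.iv [(3, 0), (29, 0), (0, 0), (0, 0), (0, 0), (0, 0), (0, 0), (0, 0), (0, 0), (3, 0)]
    [(0, 0), (0, 0), (0, 0), (0, 0), (0, 0), (0, 0), (0, 0), (0, 0), (0, 0), (0, 0), (0, 0), (0, 0), (0, 0), (0, 0), (0, 0), (1, 0), (1, 0), (1, 0), (1, 0), (1, 0), (1, 0), (1, 0), (1, 0), (1, 0), (1, 0), (1, 0), (1, 0), (1, 0), (1, 0), (1, 0), (1, 0), (1, 0), (1, 0), (1, 0), (1, 0), (1, 0), (1, 0), (1, 0), (1, 0), (1, 0), (1, 0), (1, 0), (1, 0), (1, 0), (1, 0), (1, 0), (1, 0), (1, 0), (1, 0), (1, 0), (1, 0), (1, 0), (1, 0), (1, 0), (1, 0), (1, 0), (1, 0), (1, 0),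 (1, 0), (1, 0), (1, 0), (1, 0), (1, 0), (1, 0)] [] [11, 13] rs4 = true := by decide +kernel
def rs5 : List (List ℕ) := [[7, 7, 7, 7, 7, 7, 7, 7, 7, 7, 2, 8, 1, 8, 8, 2, 8, 1, 8, 8, 2, 8, 1, 8, 8], [5, 1, 6, 1], [5, 2, 6, 2], [5, 3, 6, 10], [5, 4, 6, 9], [5, 9, 6, 4], [5, 10, 6, 3], [3, 3, 3, 3, 3, 3], [1, 1, 3, 1, 1, 4], [2, 4, 1, 3, 2, 4, 1, 3, 2, 4, 1, 3], [2, 3, 3, 1, 3, 3, 3, 2, 3, 3, 1, 3, 3, 3, 2, 3, 3, 1, 3, 3, 3], [1, 3, 1, 3, 1, 3, 1, 3, 1, 3, 1, 3, 1, 3, 1, 3], [1, 3, 1, 3, 3, 3, 1, 3, 1, 3, 3, 3, 1, 3, 1, 3, 3, 3, 1, 3, 1, 3, 3, 3], [1, 1, 1, 1], [7, 7, 7, 7, 7], [7, 7, 2, 7, 1], [8, 4, 7, 3]]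
theorem st5 : stepOK rG iv [1, 2, 3, 4, 9, 10] rs4 11 [[8, 4, 7, 3], [4, 8, 3, 7]]
    [(11, [(25, 0)]), (12, [(26, 0)])]
    HnZ4.rels HnZ4.iv [(17, 0), (31, 0), (0, 0), (0, 0), (0, 0)]
    [(0, 0), (0, 0), (0, 0), (0, 0), (0, 0), (0, 0), (0, 0), (0, 0), (0, 0), (0, 0), (0, 0), (0, 0), (0, 0), (1, 0), (1, 0), (1, 0), (1, 0), (1, 0), (1, 0), (1, 0), (1, 0), (1, 0), (1, 0), (1, 0), (1, 0), (1, 0), (1, 0), (1, 0), (1, 0), (1, 0), (1, 0), (1, 0), (1, 0), (1, 0), (1, 0), (1, 0), (1, 0), (1, 0), (1, 0), (1, 0), (1, 0), (1, 0), (1, 0), (1, 0), (1, 0), (1, 0), (1, 0), (1, 0), (1, 0), (1, 0), (1, 0), (1, 0), (1, 0), (1, 0), (1, 0), (1, 0), (1, 0), (1, 0), (1, 0), (1, 0), (1, 0), (1, 0), (1, 0), (1, 0)] [] [11] rs5 = true := by decide +kernel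
def rs6 : List (List ℕ) := [[5, 7, 5, 7, 5, 7, 6, 6], [7, 7, 7, 7, 7, 7, 7, 7, 7, 7, 2, 8, 1, 8, 8, 2, 8, 1, 8, 8, 2, 8, 1, 8, 8], [5, 1, 6, 1], [5, 2, 6, 2], [5, 3, 6, 10], [5, 4, 6, 9], [5, 9, 6, 4], [5, 10, 6, 3], [3, 3, 3, 3, 3, 3], [1, 1, 3, 1, 1, 4], [2, 4, 1, 3, 2, 4, 1, 3, 2, 4, 1, 3], [2, 3, 3, 1, 3, 3, 3, 2, 3, 3, 1, 3, 3, 3, 2, 3, 3, 1, 3, 3, 3], [1, 3, 1, 3, 1, 3, 1, 3, 1, 3, 1, 3, 1, 3, 1, 3], [1, 3, 1, 3, 3, 3, 1, 3, 1, 3, 3, 3, 1, 3, 1, 3, 3, 3, 1, 3, 1, 3, 3, 3], [1, 1, 1, 1], [7, 7, 7, 7, 7], [7, 7, 2, 7, 1], [8, 4, 7, 3]]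
def rs7 : List (List ℕ) := [[5, 7, 5, 7, 5, 7, 6, 6], [7, 7, 7, 7, 7, 7, 7, 7, 7, 7, 2, 8, 1, 8, 8, 2, 8, 1, 8, 8, 2, 8, 1, 8, 8], [5, 1, 6, 1], [5, 2, 6, 2], [5, 3, 6, 10], [5, 4, 6, 9], [5, 9, 6, 4], [5, 10, 6, 3], [3, 3, 3, 3, 3, 3], [1, 1, 3, 1, 1, 4], [2, 4, 1, 3, 2, 4, 1, 3, 2, 4, 1, 3], [2, 3, 3, 1, 3, 3, 3, 2, 3, 3, 1, 3, 3, 3, 2, 3, 3, 1, 3, 3, 3], [1, 3, 1, 3, 1, 3, 1, 3, 1, 3, 1, 3, 1, 3, 1, 3], [1, 3, 1, 3, 3, 3, 1, 3, 1, 3, 3, 3, 1, 3, 1, 3, 3, 3, 1, 3, 1, 3, 3, 3], [1, 1, 1, 1], [7, 7, 7, 7, 7], [7, 7, 2, 7, 1], [8, 4, 7, 3], [5, 5], [5, 7, 5, 7, 5, 7], [5, 1, 5, 1]]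
theorem st7 : stepOK rG iv [1, 2, 3, 4, 9, 10] rs6 11 [[5, 7, 5, 7, 5, 7], [8, 6, 8, 6, 8, 6], [5, 5], [6, 6], [5, 1, 5, 1], [2, 6, 2, 6]]
    [(11, [(27, 0)]), (12, [(28, 0)]), (13, [(13, 0)]), (14, [(14, 0)]), (15, [(15, 0)]), (16, [(16, 0)])]
    HnZ6.rels HnZ6.iv [(3, 0), (5, 0), (7, 0), (8, 1), (31, 0), (33, 0), (35, 0), (0, 0), (0, 0), (0, 0), (0, 0), (0, 0), (0, 0), (0, 0), (0, 0), (0, 0), (0, 0), (0, 0), (0, 0), (0, 0), (0, 0), (0, 0), (3, 0)]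
    [(0, 0), (0, 0), (0, 0), (0, 0), (0, 0), (0, 0), (0, 0), (0, 0), (0, 0), (0, 0), (0, 0), (0, 0), (0, 0), (0, 0), (0, 0), (0, 0), (0, 0), (1, 0), (1, 0), (1, 0), (1, 0), (1, 0), (1, 0), (1, 0), (1, 0), (1, 0), (1, 0), (1, 0), (1, 0), (1, 0), (1, 0), (1, 0), (1, 0), (1, 0), (1, 0), (1, 0), (1, 0), (1, 0), (1, 0), (1, 0), (1, 0), (1, 0), (1, 0), (1, 0), (1, 0), (1, 0), (1, 0), (1, 0), (1, 0), (1, 0), (1, 0), (1, 0), (1, 0), (1, 0), (1, 0), (1, 0), (1, 0), (1, 0), (1, 0), (1, 0), (1, 0), (1, 0), (1, 0), (1, 0)] [] [13, 11, 15] rs7 = true := by decide +kernel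
def rs8 : List (List ℕ) := [[5, 7, 5, 7, 5, 7, 6, 6], [7, 7, 7, 7, 7, 7, 7, 7, 7, 7, 2, 8, 1, 8, 8, 2, 8, 1, 8, 8, 2, 8, 1, 8, 8], [5, 1, 6, 1], [5, 2, 6, 2], [5, 3, 6, 10], [5, 4, 6, 9], [5, 9, 6, 4], [5, 10, 6, 3], [3, 3, 3, 3, 3, 3], [1, 1, 3, 1, 1, 4], [2, 4, 1, 3, 2, 4, 1, 3, 2, 4, 1, 3], [2, 3, 3, 1, 3, 3, 3, 2, 3, 3, 1, 3, 3, 3, 2, 3, 3, 1, 3, 3, 3], [1, 3, 1, 3, 1, 3, 1, 3, 1, 3, 1, 3, 1, 3, 1, 3], [1, 3, 1, 3, 3, 3, 1, 3, 1, 3, 3, 3, 1, 3, 1, 3, 3, 3, 1, 3, 1, 3, 3, 3], [1, 1, 1, 1], [7, 7, 7, 7, 7], [7, 7, 2, 7, 1], [8, 4, 7, 3], [5, 5], [5, 7, 5, 7, 5, 7], [5, 1, 5, 1], [6, 3, 2, 4, 4, 2, 4, 2, 4, 5, 3, 1, 3, 1, 3, 3, 1, 4, 2, 2], [5, 4, 2, 4, 2, 4, 4, 4, 5, 3, 3, 3, 1, 3, 1, 3, 1, 4, 2, 4, 2, 4, 4, 4, 5, 3, 3, 3, 1, 3, 1, 3, 1, 4, 2, 4, 2, 4, 4,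 4, 5, 3, 3, 3, 1, 3, 1, 3, 1]]
theorem st8 : stepOK rG iv [1, 2, 3, 4, 9, 10] rs7 11 [[6, 3, 2, 4, 4, 2, 4, 2, 4, 5, 3, 1, 3, 1, 3, 3, 1, 4, 2, 2], [1, 1, 3, 2, 4, 4, 2, 4, 2, 4, 6, 3, 1, 3, 1, 3, 3, 1, 4, 5], [5, 4, 2, 4, 2, 4, 4, 4, 5, 3, 3, 3, 1, 3, 1, 3, 1, 4, 2, 4, 2, 4, 4, 4, 5, 3, 3, 3, 1, 3, 1, 3, 1, 4, 2, 4, 2, 4, 4, 4, 5, 3, 3, 3, 1, 3, 1, 3, 1], [2, 4, 2, 4, 2, 4, 4, 4, 6, 3, 3, 3, 1, 3, 1, 3, 2, 4, 2, 4, 2, 4, 4, 4, 6, 3, 3, 3, 1, 3, 1, 3, 2, 4, 2, 4, 2, 4, 4, 4, 6, 3, 3, 3, 1, 3, 1, 3, 6]]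
    [(11, [(17, 0)]), (12, [(18, 0)]), (13, [(19, 0)]), (14, [(20, 0)])]
    HnZ7.rels HnZ7.iv [(7, 0), (8, 1), (11, 0), (12, 1), (15, 0), (16, 1), (19, 0), (21, 0), (23, 0), (25, 0), (27, 0), (29, 0), (31, 0), (39, 0), (43, 0), (0, 0), (0, 0), (0, 0), (0, 0), (0, 0), (0, 0), (0, 0), (0, 0), (0, 0), (0, 0), (0, 0)]
    [(0, 0), (0, 0), (0, 0), (0, 0), (0, 0), (0, 0), (0, 0), (0, 0), (0, 0), (0, 0), (0, 0), (0, 0), (0, 0), (0, 0), (0, 0), (1, 0), (1, 0), (1, 0), (1, 0), (1, 0), (1, 0), (1, 0), (1, 0), (1, 0), (1, 0), (1, 0), (1, 0), (1, 0), (1, 0), (1, 0), (1, 0), (1, 0), (1, 0), (1, 0), (1, 0), (1, 0), (1, 0), (1, 0), (1, 0), (1, 0), (1, 0), (1, 0), (1, 0), (1, 0), (1, 0), (1, 0), (1, 0), (1, 0), (1, 0), (1, 0), (1, 0), (1, 0), (1, 0), (1, 0), (1, 0), (1, 0),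 (1, 0), (1, 0), (1, 0), (1, 0), (1, 0), (1, 0), (1, 0), (1, 0)] [1, 3, 9] [11, 13] rs8 = true := by decide +kernel

theorem K_eq : clL el [1, 2, 3, 4, 9, 10] = HnK.K := by
  have h1 : el 1 = HnK.e 1 := mul_one _
  have h3 : el 3 = HnK.e 3 := mul_one _
  have h9 : el 9 = HnK.e 16 := rfl
  rw [← clL_eq_of_genOK RG [(0, 2), (0, 4), (0, 10)] [1, 3, 9] _ (by decide +kernel)]
  simp only [HnK.K, clL, List.mem_cons, List.not_mem_nil, or_false, Set.ofPred_or, Set.ofPred_eq_eq_singleton, 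
    Set.image_union, Set.image_singleton, h1, h3, h9]

theorem hK : commutator HnK.K = ⊤ ∧ UB HnK.K [] := by
  have := HnE.finite
  obtain ⟨u⟩ := Le.equiv_CH
  have := simple_CH
  have := u.symm.isSimpleGroup
  obtain ⟨h1, h2⟩ := ub_of_double HnK.cover (commutator_top_of_card (by
    rw [(Nat.card_congr u.toEquiv).symm.trans Le.card_CH]; norm_num)) S2046.result
  let ε := Subgroup.subgroupOfEquivOfLe HnK.K_le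
  exact ⟨commutator_top_of_ker ε.symm.toMonoidHom ε.symm.surjective h1
    (by rw [(MonoidHom.ker_eq_bot_iff _).2 ε.symm.injective]; exact bot_le), h2.congr ε⟩

theorem ub : UB Spor.HN [] := by
  have := HnE.finite
  refine UB.of_split (el := el) (gens := [1, 3, 5, 7]) (fun K h => HnP.eq_top K
    (forall_cons (mul_one (HnP.el 1) ▸ h 1 (by decide)) (forall_cons (mul_one (HnP.el 3) ▸ h 3 (by decide))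
    (forall_cons (mul_one (HnP.el 5) ▸ h 5 (by decide)) (forall_cons (mul_one (HnP.el 6) ▸ h 7 (by decide))
    (forall_nil _)))))) fun Γ _ _ σ hσ => ?_
  obtain ⟨L, e, h⟩ := Lf.start hσ RG (gK := [1, 2, 3, 4, 9, 10]) (K_eq) (hK.1) (hK.2) (rs := rs1) (by decide +kernel)
  have h : Lf σ el L [1, 2, 3, 4, 9, 10] iv e rs2 := h.conj RG (z := 5) (us := [([1], [1], [(31, 0)]), ([2], [2], [(32, 1)]), ([3], [10], [(33, 0)]), ([4], [9], [(34, 1)]), ([9], [4], [(35, 0)]), ([10], [3], [(36, 1)])]) (by decide +kernel)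
  obtain ⟨e, h⟩ : ∃ e, Lf σ el L [1, 2, 3, 4, 9, 10] iv e rs3 := h.norm RG (χ := [0, 0, 0, 0, 0, 0, 0, 1, -1, 0, 0]) (w := [7, 7, 7, 7, 7, 7, 7, 7, 7, 7, 2, 8, 1, 8, 8, 2, 8, 1, 8, 8, 2, 8, 1, 8, 8]) (wit := [(21, 0), (21, 0), (24, 2), (24, 2), (24, 2)]) (by decide +kernel)
  have h : Lf σ el L [1, 2, 3, 4, 9, 10] iv e rs4 := h.step RG st4 fun _ Q hf => (forall_cons (HnZ3.goal11 Q _ hf) (forall_cons (HnZ3.goal13 Q _ hf) (forall_nil _)))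
  have h : Lf σ el L [1, 2, 3, 4, 9, 10] iv e rs5 := h.step RG st5 fun _ Q hf => (forall_cons (HnZ4.goal11 Q _ hf) (forall_nil _))
  obtain ⟨e, h⟩ : ∃ e, Lf σ el L [1, 2, 3, 4, 9, 10] iv e rs6 := h.norm RG (χ := [0, 0, 0, 0, 0, 1, -1, 0, 0, 0, 0]) (w := [5, 7, 5, 7, 5, 7, 6, 6]) (wit := [(27, 0), (14, 0)]) (by decide +kernel)
  have h : Lf σ el L [1, 2, 3, 4, 9, 10] iv e rs7 := h.step RG st7 fun _ Q hf => (forall_cons (HnZ6.goal13 Q _ hf) (forall_cons (HnZ6.goal11 Q _ hf) (forall_cons (HnZ6.goal15 Q _ hf) (forall_nil _))))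
  have h : Lf σ el L [1, 2, 3, 4, 9, 10] iv e rs8 := h.step RG st8 fun _ Q hf => (forall_cons (HnZ7.goal11 Q _ hf) (forall_cons (HnZ7.goal13 Q _ hf) (forall_nil _)))
  obtain ⟨φ, hφ⟩ := pres_range Spor.HN.edges Spor.HN.extra (defs := []) (code := code) h.rule
    (fun g => by cases g <;> decide) (wit := [([], 17, 0), ([], 19, 0), ([], 21, 0), ([], 23, 0), ([], 25, 0), ([], 27, 0), ([], 37, 0), ([], 41, 0), ([], 43, 0), ([], 45, 0), ([], 31, 0), ([], 33, 2), ([], 35, 0), ([], 39, 0)]) (by decide +kernel)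
    (gens := [1, 3, 5, 7]) (L := [Spor.HN.x, Spor.HN.y, Spor.HN.z, Spor.HN.t]) (by decide +kernel)
  exact ⟨e, φ, h.lift, hφ⟩

end Cfsg.Agent.H63.HN
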