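/-
Bounds for the Schur multipliers of the Mathieu groups (generated certificates).
-/
import Cfsg.Agent.H63.PermAct
import Cfsg.Agent.H14.Mathieu

set_option autoImplicit false
set_option maxRecDepth 100000

namespace Cfsg.Agent.H63.Mat

open H14

def m11p2Tab : ℕ := nat_lit 0x10d080a01010603010002020100000101000000000000
def m11p2QT : ℕ := nat_lit 0xc01080201000000000000000000000000000000000000
def m11p2GT : ℕ := nat_lit 0x505040404000000000000000000000000000000000000
def m11p2As : List ℕ := [nat_lit 2180, nat_lit 2178, nat_lit 1058, nat_lit 2184, nat_lit 1092, nat_lit 546]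
def m11p2Fs : List (ℕ × List ℕ × List ℕ) := [(nat_lit 5, [nat_lit 22, nat_lit 22], []), (nat_lit 4, [nat_lit 19, nat_lit 19], [nat_lit 18]), (nat_lit 4, [nat_lit 20, nat_lit 20], [nat_lit 18])]
def m11p2Mc : List ℕ := [nat_lit 0, nat_lit 0, nat_lit 16384, nat_lit 32768]
def m11p2Uc : List (ℕ × ℕ × ℕ) := []
def m11p2Cs : List (List ℕ) := [[nat_lit 168], [nat_lit 8, nat_lit 331], [nat_lit 64, nat_lit 16, nat_lit 343], [nat_lit 32, nat_lit 163, nat_lit 0, nat_lit 0]]
def m11p2Lv : List (ℕ × List ℕ) := [(nat_lit 4, [nat_lit 4]), (nat_lit 5, [nat_lit 2, nat_lit 8]), (nat_lit 1, [nat_lit 1])]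
theorem m11p2chk : check (nat_lit 2) (nat_lit 1) (nat_lit 4) (nat_lit 8) (nat_lit 23) (nat_lit 2) (nat_lit 1) m11p2Tab m11p2QT m11p2GT
    (Nat.mul (nat_lit 127) (Nat.div (Nat.shiftLeft (nat_lit 1) (nat_lit 184)) (nat_lit 255)))
    m11p2As m11p2Fs m11p2Mc m11p2Uc (cfOf m11p2Cs) = true := by decide +kernel
def m11p2tb : ℕ → ℕ := tbOf (nat_lit 120) (nat_lit 0x1000000000000000000000000000000) (nat_lit 0xb3a8b890e37dda6aaa12984a84898072a9778ced2c6129d501b2564119808d6ee28ad059da37d02c52264326408d5562b1c49d1a379cc2ba1700c920728f558e902d9a19dd12889e44b0c0b5e279a6b07a9a65ba43a30a440440)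
theorem m11p2mem : memOK (nat_lit 5) (nat_lit 32) (nat_lit 24) m12CertL.tail m11p2tb (nat_lit 6) = true := by decide +kernel
theorem m11p2rel : H14.allL (List.map H14.Lev.b m12CertL.tail) (relOK (nat_lit 2) (nat_lit 1) (nat_lit 4) (nat_lit 8) (nat_lit 23) (nat_lit 6) m11p2Tab m11p2QT m11p2GT (apP (nat_lit 5) (nat_lit 32) m11p2tb)) = true := by
  decide +kernel
theorem m11p2low : lowOK (nat_lit 2) (nat_lit 1) (nat_lit 4) (nat_lit 9) (apP (nat_lit 5) (nat_lit 32) m11p2tb) m11p2Lv = true := by decide +kernel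
theorem m11p2pb : PB 2 Spor.M11 [] :=
  pb_chain GE m11_chain (e := 0) Nat.prime_two card_M11 m11p2mem m11p2rel m11p2low m11p2chk (by decide +kernel)

def m11p3Tab : ℕ := nat_lit 0x209000100000000
def m11p3QT : ℕ := nat_lit 0x401000000000000
def m11p3GT : ℕ := nat_lit 0x202000000000000
def m11p3As : List ℕ := []
def m11p3Fs : List (ℕ × List ℕ × List ℕ) := [(nat_lit 2, [nat_lit 6, nat_lit 7], [nat_lit 7, nat_lit 6]), (nat_lit 2, [nat_lit 6, nat_lit 6, nat_lit 6], []), (nat_lit 2, [nat_lit 7, nat_lit 7, nat_lit 7], [])]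
def m11p3Mc : List ℕ := [nat_lit 0, nat_lit 0]
def m11p3Uc : List (ℕ × ℕ × ℕ) := []
def m11p3Cs : List (List ℕ) := [[nat_lit 9], [nat_lit 32, nat_lit 4]]
def m11p3Lv : List (ℕ × List ℕ) := [(nat_lit 5, [nat_lit 1]), (nat_lit 1, [nat_lit 5])]
theorem m11p3chk : check (nat_lit 3) (nat_lit 2) (nat_lit 2) (nat_lit 8) (nat_lit 8) (nat_lit 3) (nat_lit 2) m11p3Tab m11p3QT m11p3GT
    (Nat.mul (nat_lit 63) (Nat.div (Nat.shiftLeft (nat_lit 1) (nat_lit 64)) (nat_lit 255)))
    m11p3As m11p3Fs m11p3Mc m11p3Uc (cfOf m11p3Cs) = true := by decide +kernel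
def m11p3tb : ℕ → ℕ := tbOf (nat_lit 120) (nat_lit 0x1000000000000000000000000000000) (nat_lit 0x516f6a12a99bc4c745065c8e30b600b39759c22c55db2a1429391e330900b3ab4386682dda95bc868c14c90860)
theorem m11p3mem : memOK (nat_lit 5) (nat_lit 32) (nat_lit 24) m12CertL.tail m11p3tb (nat_lit 3) = true := by decide +kernel
theorem m11p3rel : H14.allL (List.map H14.Lev.b m12CertL.tail) (relOK (nat_lit 3) (nat_lit 2) (nat_lit 2) (nat_lit 8) (nat_lit 8) (nat_lit 3) m11p3Tab m11p3QT m11p3GT (apP (nat_lit 5) (nat_lit 32) m11p3tb)) = true := by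
  decide +kernel
theorem m11p3low : lowOK (nat_lit 3) (nat_lit 2) (nat_lit 2) (nat_lit 4) (apP (nat_lit 5) (nat_lit 32) m11p3tb) m11p3Lv = true := by decide +kernel
theorem m11p3pb : PB 3 Spor.M11 [] :=
  pb_chain GE m11_chain (e := 0) Nat.prime_three card_M11 m11p3mem m11p3rel m11p3low m11p3chk (by decide +kernel)

def m12p2Tab : ℕ := nat_lit 0x11806804c02700300fc06a036006000400c0140050010004001000000c0160050010004000000000001000600100000000000010010004000000000000000200100000000000000000000000000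
def m12p2QT : ℕ := nat_lit 0x10006000800200080c00100040010004000000000000000000000000000000000000000000000000000000000000000000000000000000000000000000000000000000000000000000000000000
def m12p2GT : ℕ := nat_lit 0x3801c00e007003801800c0060030018000000000000000000000000000000000000000000000000000000000000000000000000000000000000000000000000000000000000000000000000000
def m12p2As : List ℕ := [nat_lit 132112, nat_lit 133128, nat_lit 66056, nat_lit 131588, nat_lit 133122, nat_lit 131592, nat_lit 65796, nat_lit 133152, nat_lit 66576, nat_lit 131202, nat_lit 65666, nat_lit 33028, nat_lit 16642, nat_lit 33282, nat_lit 16644, nat_lit 8322, nat_lit 33284]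
def m12p2Fs : List (ℕ × List ℕ × List ℕ) := [(nat_lit 7, [nat_lit 46, nat_lit 47], [nat_lit 47, nat_lit 46, nat_lit 45, nat_lit 44]), (nat_lit 7, [nat_lit 45, nat_lit 46], [nat_lit 46, nat_lit 45, nat_lit 43]), (nat_lit 7, [nat_lit 47, nat_lit 47], [nat_lit 45, nat_lit 44]), (nat_lit 7, [nat_lit 46, nat_lit 46], []), (nat_lit 7, [nat_lit 43, nat_lit 46], [nat_lit 46, nat_lit 43]), (nat_lit 7, [nat_lit 44, nat_lit 44], [nat_lit 43]), (nat_lit 7, [nat_lit 45, nat_lit 45], [nat_lit 43]), (nat_lit 7, [nat_lit 43, nat_lit 43], []), (nat_lit 6, [nat_lit 40, nat_lit 40], [nat_lit 38]), (nat_lit 6, [nat_lit 39, nat_lit 41], [nat_lit 41, nat_lit 39, nat_lit 38]), (nat_lit 6, [nat_lit 39, nat_lit 40], [nat_lit 40, nat_lit 39]), (nat_lit 6, [nat_lit 41, nat_lit 41], []), (nat_lit 6, [nat_lit 39, nat_lit 39], [nat_lit 38]), (nat_lit 6, [nat_lit 38, nat_lit 38], [])]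
def m12p2Mc : List ℕ := [nat_lit 0x2e000500000000000000000, nat_lit 0xac290000000000000000000, nat_lit 0xa2204400000000000000000, nat_lit 0x100000000000000000, nat_lit 0xa2000500000000000000000, nat_lit 0xaf000400000000000000000]
def m12p2Uc : List (ℕ × ℕ × ℕ) := [(nat_lit 0x87400000000000000000000, nat_lit 2, nat_lit 0x22492d2860037000)]
def m12p2Cs : List (List ℕ) := [[nat_lit 0x2002231202008000], [nat_lit 0x300000000, nat_lit 0x7079b40d00d34001], [nat_lit 0xc00000000, nat_lit 0xa864859c82020002, nat_lit 0xd89f3bbb82d30003], [nat_lit 0x20a82b0802028002, nat_lit 0x704b1f140ad34003, nat_lit 0xb854b4ac83034001, nat_lit 0x94a892eb41030f37], [nat_lit 0x840000000000, nat_lit 0x4c0000000000, nat_lit 0x94e5b9c643d04202, nat_lit 0x344508c876034102, nat_lit 0xd8da6795bb01dda5], [nat_lit 0x88180802028002, nat_lit 0x88ec9ca48101c003, nat_lit 0x8867b4ac83034001, nat_lit 0xbcb97f70f5718202, nat_lit 0, nat_lit 0x24fc3cc07b70c200]]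
def m12p2Lv : List (ℕ × List ℕ) := [(nat_lit 4, [nat_lit 2, nat_lit 8]), (nat_lit 6, [nat_lit 24]), (nat_lit 7, [nat_lit 4, nat_lit 50]), (nat_lit 0, [nat_lit 1])]
theorem m12p2chk : check (nat_lit 2) (nat_lit 1) (nat_lit 6) (nat_lit 13) (nat_lit 48) (nat_lit 4) (nat_lit 2) m12p2Tab m12p2QT m12p2GT
    (Nat.mul (nat_lit 2047) (Nat.div (Nat.shiftLeft (nat_lit 1) (nat_lit 624)) (nat_lit 8191)))
    m12p2As m12p2Fs m12p2Mc m12p2Uc (cfOf m12p2Cs) = true := by decide +kernel
def m12p2tb : ℕ → ℕ := tbOf (nat_lit 120) (nat_lit 0x1000000000000000000000000000000) (nat_lit 0xad1ee2a572bd8263ce0c8a14220c0d79eae9b2842de038ad12b354608049556653c9ed8dc8372d88b428600829a58ea9816dbbc882c649ac1c613061a4cf7b0dcd546082bc4ca91669240174cf1b04b0a2da355d92a99e40204975aaf9a2842acc355d823b630006495daa5989f08a9a0bb86139a844c90c)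
theorem m12p2mem : memOK (nat_lit 5) (nat_lit 32) (nat_lit 24) m12CertL m12p2tb (nat_lit 8) = true := by decide +kernel
theorem m12p2rel : H14.allL (List.map H14.Lev.b m12CertL) (relOK (nat_lit 2) (nat_lit 1) (nat_lit 6) (nat_lit 13) (nat_lit 48) (nat_lit 8) m12p2Tab m12p2QT m12p2GT (apP (nat_lit 5) (nat_lit 32) m12p2tb)) = true := by
  decide +kernel
theorem m12p2low : lowOK (nat_lit 2) (nat_lit 1) (nat_lit 6) (nat_lit 8) (apP (nat_lit 5) (nat_lit 32) m12p2tb) m12p2Lv = true := by decide +kernel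
theorem m12p2pb : PB 2 Spor.M12 [2] :=
  pb_chain GE m12_chain (e := 1) Nat.prime_two card_M12 m12p2mem m12p2rel m12p2low m12p2chk (by decide +kernel)

def m12p3Tab : ℕ := nat_lit 0x1008020028100000800000000
def m12p3QT : ℕ := nat_lit 0x804020000000000000000000
def m12p3GT : ℕ := nat_lit 0x183060000000000000000000
def m12p3As : List ℕ := [nat_lit 67588]
def m12p3Fs : List (ℕ × List ℕ × List ℕ) := [(nat_lit 3, [nat_lit 11, nat_lit 13], [nat_lit 13, nat_lit 11]), (nat_lit 3, [nat_lit 11, nat_lit 12], [nat_lit 12, nat_lit 11]), (nat_lit 3, [nat_lit 13, nat_lit 13, nat_lit 13], []), (nat_lit 3, [nat_lit 12, nat_lit 12, nat_lit 12], [])]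
def m12p3Mc : List ℕ := [nat_lit 0, nat_lit 0, nat_lit 16384]
def m12p3Uc : List (ℕ × ℕ × ℕ) := []
def m12p3Cs : List (List ℕ) := [[nat_lit 512], [nat_lit 32, nat_lit 2], [nat_lit 128, nat_lit 0, nat_lit 8]]
def m12p3Lv : List (ℕ × List ℕ) := [(nat_lit 0, [nat_lit 4]), (nat_lit 5, [nat_lit 20]), (nat_lit 2, [nat_lit 1])]
theorem m12p3chk : check (nat_lit 3) (nat_lit 2) (nat_lit 3) (nat_lit 7) (nat_lit 14) (nat_lit 3) (nat_lit 2) m12p3Tab m12p3QT m12p3GT
    (Nat.mul (nat_lit 31) (Nat.div (Nat.shiftLeft (nat_lit 1) (nat_lit 98)) (nat_lit 127)))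
    m12p3As m12p3Fs m12p3Mc m12p3Uc (cfOf m12p3Cs) = true := by decide +kernel
def m12p3tb : ℕ → ℕ := tbOf (nat_lit 120) (nat_lit 0x1000000000000000000000000000000) (nat_lit 0x3a9eea26c2acc90bad12898ac68c01a5eb65ca6379c4d8b928504b023006b4caab916dac50971c70a01e2648c18aeb3721437d1823de49b18b023420)
theorem m12p3mem : memOK (nat_lit 5) (nat_lit 32) (nat_lit 24) m12CertL m12p3tb (nat_lit 4) = true := by decide +kernel
theorem m12p3rel : H14.allL (List.map H14.Lev.b m12CertL) (relOK (nat_lit 3) (nat_lit 2) (nat_lit 3) (nat_lit 7) (nat_lit 14) (nat_lit 4) m12p3Tab m12p3QT m12p3GT (apP (nat_lit 5) (nat_lit 32) m12p3tb)) = true := by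
  decide +kernel
theorem m12p3low : lowOK (nat_lit 3) (nat_lit 2) (nat_lit 3) (nat_lit 7) (apP (nat_lit 5) (nat_lit 32) m12p3tb) m12p3Lv = true := by decide +kernel
theorem m12p3pb : PB 3 Spor.M12 [] :=
  pb_chain GE m12_chain (e := 0) Nat.prime_three card_M12 m12p3mem m12p3rel m12p3low m12p3chk (by decide +kernel)

def m21p2Tab : ℕ := nat_lit 0x190017004c005800e801e001e004c0010012001400140010001000000000058007000400040000000000400140010001000000000000003000400040000000000000000000001000000000000000000000000000000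
def m21p2QT : ℕ := nat_lit 0x12001400040004008000c000400040000000000000000000000000000000000000000000000000000000000000000000000000000000000000000000000000000000000000000000000000000000000000000000000
def m21p2GT : ℕ := nat_lit 0x38007000e001c0030006000c00180000000000000000000000000000000000000000000000000000000000000000000000000000000000000000000000000000000000000000000000000000000000000000000000
def m21p2As : List ℕ := [nat_lit 132104, nat_lit 131588, nat_lit 66056, nat_lit 133128, nat_lit 133124, nat_lit 66568, nat_lit 66564, nat_lit 33284, nat_lit 132112, nat_lit 16644, nat_lit 33281, nat_lit 133152, nat_lit 131137, nat_lit 33288, nat_lit 32833, nat_lit 16514, nat_lit 66562, nat_lit 66561, nat_lit 8321]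
def m21p2Fs : List (ℕ × List ℕ × List ℕ) := [(nat_lit 7, [nat_lit 42, nat_lit 45], [nat_lit 45, nat_lit 42]), (nat_lit 7, [nat_lit 44, nat_lit 44], []), (nat_lit 7, [nat_lit 45, nat_lit 45], []), (nat_lit 7, [nat_lit 43, nat_lit 43], []), (nat_lit 7, [nat_lit 42, nat_lit 42], []), (nat_lit 6, [nat_lit 40, nat_lit 40], []), (nat_lit 6, [nat_lit 38, nat_lit 39], [nat_lit 39, nat_lit 38]), (nat_lit 6, [nat_lit 41, nat_lit 41], []), (nat_lit 6, [nat_lit 39, nat_lit 39], []), (nat_lit 6, [nat_lit 38, nat_lit 38], [])]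
def m21p2Mc : List ℕ := [nat_lit 0x42d101001000000000000000000000000, nat_lit 0x992181200000000000000000000000000, nat_lit 0x405909000000000000000000000000000, nat_lit 0x805081001000000000000000000000000, nat_lit 0x410180200000000000000000000000000, nat_lit 0x1000000000000000000000000]
def m21p2Uc : List (ℕ × ℕ × ℕ) := [(nat_lit 0x106500040001000008000000000000000, nat_lit 4, nat_lit 0x184116186c88980020100), (nat_lit 0x94580248001000008000000000000000, nat_lit 4, nat_lit 0x6530c140a0090a80920104)]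
def m21p2Cs : List (List ℕ) := [[nat_lit 0x7ef0d3605b02b01868b6002], [nat_lit 0xb6432d21930035024800904, nat_lit 0xb478488473df74cb4400032], [nat_lit 0x19142467b10871f024c02014, nat_lit 0xb7c24bc5138b29024406034, nat_lit 0xb046862bbb500fa2db6e8d4], [nat_lit 0xe968b333c8853fc86886002, nat_lit 0x38000000000000, nat_lit 0x1598fc0989889c8fa0aaf108, nat_lit 0x127c8ff718a808dcbd1477cc], [nat_lit 0x7c6aa7b7187db3c860b2022, nat_lit 0x120b86cf073ab70ca2cb4036, nat_lit 0x15b9e23c54255e1e29dfe110, nat_lit 0x126665175187ee9aafd74832, nat_lit 0xea738bc45a65140244061c2], [nat_lit 0xe9acd005ca9599182cb4816, nat_lit 0xe00000000000000, nat_lit 0, nat_lit 0xb417d0c0c26988acae3000f, nat_lit 0x769c11df901d9c8f568032, nat_lit 0x15a9da0e020c9c8e38fec8c0]]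
def m21p2Lv : List (ℕ × List ℕ) := [(nat_lit 4, [nat_lit 4, nat_lit 8]), (nat_lit 2, [nat_lit 1, nat_lit 2, nat_lit 23, nat_lit 39])]
theorem m21p2chk : check (nat_lit 2) (nat_lit 1) (nat_lit 6) (nat_lit 15) (nat_lit 46) (nat_lit 8) (nat_lit 3) m21p2Tab m21p2QT m21p2GT
    (Nat.mul (nat_lit 4095) (Nat.div (Nat.shiftLeft (nat_lit 1) (nat_lit 690)) (nat_lit 32767)))
    m21p2As m21p2Fs m21p2Mc m21p2Uc (cfOf m21p2Cs) = true := by decide +kernel
def m21p2tb : ℕ → ℕ := tbOf (nat_lit 120) (nat_lit 0x1000000000000000000000000000000) (nat_lit 0xbcc963b9b0a55838c8c27a12a59420bdaae2a08a7d0ec140d26a6711ac20b8aa9b29653922644a0d63e8e98c20b8ea89aa11610af4c974399aeb0820baea643a674cac519182a41ea6c420bb6a682a67291897cac28a06e5d020b8eb0149146396f6a8b131d24b4c20bbeb134a88b38a34a97014da461c20)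
theorem m21p2mem : memOK (nat_lit 5) (nat_lit 32) (nat_lit 24) m24CertL.tail.tail.tail m21p2tb (nat_lit 8) = true := by decide +kernel
theorem m21p2rel : H14.allL (List.map H14.Lev.b m24CertL.tail.tail.tail) (relOK (nat_lit 2) (nat_lit 1) (nat_lit 6) (nat_lit 15) (nat_lit 46) (nat_lit 8) m21p2Tab m21p2QT m21p2GT (apP (nat_lit 5) (nat_lit 32) m21p2tb)) = true := by
  decide +kernel
theorem m21p2low : lowOK (nat_lit 2) (nat_lit 1) (nat_lit 6) (nat_lit 21) (apP (nat_lit 5) (nat_lit 32) m21p2tb) m21p2Lv = true := by decide +kernel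
theorem m21p2pb : PB 2 H14.M21 [4, 4] :=
  pb_chain GE m21_chain (e := 2) Nat.prime_two card_M21 m21p2mem m21p2rel m21p2low m21p2chk (by decide +kernel)

def m21p3Tab : ℕ := nat_lit 0x408000010000000000
def m21p3QT : ℕ := nat_lit 0x1001000000000000000
def m21p3GT : ℕ := nat_lit 0x802000000000000000
def m21p3As : List ℕ := [nat_lit 1153]
def m21p3Fs : List (ℕ × List ℕ × List ℕ) := [(nat_lit 2, [nat_lit 6, nat_lit 6, nat_lit 6], []), (nat_lit 2, [nat_lit 7, nat_lit 7, nat_lit 7], [])]
def m21p3Mc : List ℕ := [nat_lit 0x770000, nat_lit 0x870000]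
def m21p3Uc : List (ℕ × ℕ × ℕ) := [(nat_lit 256, nat_lit 3, nat_lit 2048)]
def m21p3Cs : List (List ℕ) := [[nat_lit 2160], [nat_lit 8, nat_lit 2176]]
def m21p3Lv : List (ℕ × List ℕ) := [(nat_lit 3, [nat_lit 1]), (nat_lit 2, [nat_lit 5])]
theorem m21p3chk : check (nat_lit 3) (nat_lit 2) (nat_lit 2) (nat_lit 10) (nat_lit 8) (nat_lit 9) (nat_lit 4) m21p3Tab m21p3QT m21p3GT
    (Nat.mul (nat_lit 63) (Nat.div (Nat.shiftLeft (nat_lit 1) (nat_lit 80)) (nat_lit 1023)))
    m21p3As m21p3Fs m21p3Mc m21p3Uc (cfOf m21p3Cs) = true := by decide +kernel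
def m21p3tb : ℕ → ℕ := tbOf (nat_lit 120) (nat_lit 0x1000000000000000000000000000000) (nat_lit 0xba5669b20f2a14d3cace19222ad020bd9058c9e49ada91b147ad0c274020bc90f8348510ecc72927ac6665d020)
theorem m21p3mem : memOK (nat_lit 5) (nat_lit 32) (nat_lit 24) m24CertL.tail.tail.tail m21p3tb (nat_lit 3) = true := by decide +kernel
theorem m21p3rel : H14.allL (List.map H14.Lev.b m24CertL.tail.tail.tail) (relOK (nat_lit 3) (nat_lit 2) (nat_lit 2) (nat_lit 10) (nat_lit 8) (nat_lit 3) m21p3Tab m21p3QT m21p3GT (apP (nat_lit 5) (nat_lit 32) m21p3tb)) = true := by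
  decide +kernel
theorem m21p3low : lowOK (nat_lit 3) (nat_lit 2) (nat_lit 2) (nat_lit 7) (apP (nat_lit 5) (nat_lit 32) m21p3tb) m21p3Lv = true := by decide +kernel
theorem m21p3pb : PB 3 H14.M21 [3] :=
  pb_chain GE m21_chain (e := 1) Nat.prime_three card_M21 m21p3mem m21p3rel m21p3low m21p3chk (by decide +kernel)

def m22p2Tab : ℕ := nat_lit 0x2a0029000800640009006000300066005800010002000b003b00270025000e0001000a00280014000900060003000100000000001c000800040003000100000000000c000a000600030001000000000000000000050002000100000000000000000001000200010000000000000000000000000001000000000000000000000000000000000000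
def m22p2QT : ℕ := nat_lit 0x440020000800020001005000300008000400020001002000100008000400020001000000000000000000000000000000000000000000000000000000000000000000000000000000000000000000000000000000000000000000000000000000000000000000000000000000000000000000000000000000000000000000000000000000000000
def m22p2GT : ℕ := nat_lit 0x90009000900090009000800080008000800080008000700070007000700070007000000000000000000000000000000000000000000000000000000000000000000000000000000000000000000000000000000000000000000000000000000000000000000000000000000000000000000000000000000000000000000000000000000000000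
def m22p2As : List ℕ := [nat_lit 0x101010, nat_lit 526344, nat_lit 0x102020, nat_lit 0x102010, nat_lit 0x102004, nat_lit 264200, nat_lit 0x100204, nat_lit 262660, nat_lit 0x102002, nat_lit 528400, nat_lit 0x102040, nat_lit 264208, nat_lit 264193, nat_lit 0x101020, nat_lit 0x100408, nat_lit 0x100102, nat_lit 263176, nat_lit 524804, nat_lit 66050, nat_lit 528386, nat_lit 132100, nat_lit 0x100081, nat_lit 262273, nat_lit 66052, nat_lit 65794, nat_lit 528392, nat_lit 528388, nat_lit 132098, nat_lit 132097]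
def m22p2Fs : List (ℕ × List ℕ × List ℕ) := [(nat_lit 9, [nat_lit 66, nat_lit 67], [nat_lit 67, nat_lit 66, nat_lit 65, nat_lit 63]), (nat_lit 9, [nat_lit 64, nat_lit 66], [nat_lit 66, nat_lit 64, nat_lit 63]), (nat_lit 9, [nat_lit 67, nat_lit 67], [nat_lit 65, nat_lit 63]), (nat_lit 9, [nat_lit 64, nat_lit 64], []), (nat_lit 9, [nat_lit 63, nat_lit 66], [nat_lit 66, nat_lit 63]), (nat_lit 9, [nat_lit 66, nat_lit 66], []), (nat_lit 9, [nat_lit 63, nat_lit 63], []), (nat_lit 9, [nat_lit 65, nat_lit 65], []), (nat_lit 8, [nat_lit 59, nat_lit 62], [nat_lit 62, nat_lit 59, nat_lit 57]), (nat_lit 8, [nat_lit 60, nat_lit 61], [nat_lit 61, nat_lit 60, nat_lit 58]), (nat_lit 8, [nat_lit 62, nat_lit 62], [nat_lit 57]), (nat_lit 8, [nat_lit 60, nat_lit 60], []), (nat_lit 8, [nat_lit 59, nat_lit 59], [nat_lit 57]), (nat_lit 8, [nat_lit 58, nat_lit 58], []), (nat_lit 8, [nat_lit 57, nat_lit 57], []), (nat_lit 7, [nat_lit 55, nat_lit 56], [nat_lit 56, nat_lit 55, nat_lit 54, nat_lit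 53]), (nat_lit 7, [nat_lit 53, nat_lit 55], [nat_lit 55, nat_lit 53, nat_lit 52]), (nat_lit 7, [nat_lit 55, nat_lit 55], [nat_lit 54, nat_lit 53]), (nat_lit 7, [nat_lit 52, nat_lit 56], [nat_lit 56, nat_lit 52, nat_lit 51]), (nat_lit 7, [nat_lit 53, nat_lit 56], [nat_lit 56, nat_lit 53]), (nat_lit 7, [nat_lit 54, nat_lit 54], []), (nat_lit 7, [nat_lit 52, nat_lit 52], []), (nat_lit 7, [nat_lit 53, nat_lit 53], [nat_lit 51]), (nat_lit 7, [nat_lit 56, nat_lit 56], []), (nat_lit 7, [nat_lit 51, nat_lit 51], [])]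
def m22p2Mc : List ℕ := [nat_lit 0x360000c3002240000000000000000000000000000000000000, nat_lit 0x20092013083040000000000000000000000000000000000000, nat_lit 0x36196059082200000000000000000000000000000000000000, nat_lit 0x8000000000000000000000000000000000000000000000, nat_lit 0x20118000000040000000000000000000000000000000000000, nat_lit 0x34082090003240000000000000000000000000000000000000, nat_lit 0x34082091003240000000000000000000000000000000000000]
def m22p2Uc : List (ℕ × ℕ × ℕ) := [(nat_lit 0x2220a092082040040000000000000000000000000000000000, nat_lit 4, nat_lit 0x32882020d31ae2f87cb5428c03070000104986884)]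
def m22p2Cs : List (List ℕ) := [[nat_lit 0x148864824b782ae720a6904482c26004da0530ca2], [nat_lit 0x340048300228150301200000240000000200a2120, nat_lit 0x841a44265a7d8aae64121a4d82530006fa0430ca2], [nat_lit 0xe00000000000000000000000, nat_lit 0x2a184c8c90ce085349ba8e2028b20004c144f7434, nat_lit 0x27c66e95e58d62325eb38d0373f95494e54649e4f], [nat_lit 0x1268068b083343a2a0914800914020004400126814, nat_lit 0x824a41b04248dae98ca09341320b4490b105204b2, nat_lit 0x18b1e6aaf2f3a3289f44b98225d201000150e397e9, nat_lit 0x122802990815c0efa0934800934e20004c00122834], [nat_lit 0xacd80bba8abe107c20aa95611e3944947249f79a6, nat_lit 0x13f5dca1de63622c1d56f036a7ba95494e403bd24f, nat_lit 0x115be273862fc55880b0f0de662074b6e0dcc8c11c, nat_lit 0x1a9e62ba6d80647ac6ba198864c6e0efebf8dfd1be, nat_lit 0x4374bbce997b0f23e2d15b41288ac85bca8d8a92a], [nat_lit 0x1268041069af7bb91e80e162908300000824532410, nat_lit 0xd9a192ea2a8ad3b2200c5c436fae14960747ea67b, nat_lit 0x7d33808000aaebf3827c8c48162c0492c0049199e,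 nat_lit 0x1c771a01041309f45021203600815492631456300c, nat_lit 0x78ac96719427c344966bda049c3d4002a18182100, nat_lit 0x19fc451f5474f5a37d0fd416082f828a011457910e], [nat_lit 0x1a4da4176dad06a3365f9dd681a3b44903348128a2, nat_lit 0x37814fb1761829dc153e992a7ff95494670afeb4b, nat_lit 0x33c7ae9a884a32c4a0678aa6789f4ef8dfc10f4aa, nat_lit 0x5030e9470fa2b85c6dc974a470b5490a74e6cf5f, nat_lit 0x17f86604000dd45218d2bdd9985d12a6a4005cd04f, nat_lit 0x1d523c30833cb63c0750003010c20004594b6d218, nat_lit 0x733a0f7c929bce8ec8f8c5ba58502baebf87bbe28]]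
def m22p2Lv : List (ℕ × List ℕ) := [(nat_lit 9, [nat_lit 16]), (nat_lit 6, [nat_lit 4, nat_lit 92]), (nat_lit 1, [nat_lit 1, nat_lit 2, nat_lit 13, nat_lit 60])]
theorem m22p2chk : check (nat_lit 2) (nat_lit 1) (nat_lit 7) (nat_lit 16) (nat_lit 68) (nat_lit 8) (nat_lit 3) m22p2Tab m22p2QT m22p2GT
    (Nat.mul (nat_lit 8191) (Nat.div (Nat.shiftLeft (nat_lit 1) (nat_lit 1088)) (nat_lit 65535)))
    m22p2As m22p2Fs m22p2Mc m22p2Uc (cfOf m22p2Cs) = true := by decide +kernel
def m22p2tb : ℕ → ℕ := tbOf (nat_lit 120) (nat_lit 0x1000000000000000000000000000000) (nat_lit 0xba45143c6594e865b2c151ea46c1c0ba6016911558dc292ad42998f99e20b9a05789c99b5923dab41a96144480ba60d11226932817d6c572a6b1a0e0ba4cb9b5f08a24ca2ace154a321c20ba4c5a04f070d929aad12556813da0bd8c39bdaa93a25241281558ba1c20bd8cf28e4a688938c127754345a180bdaa3411b0586227a933298f2a31c0bdaad0ac70222859292e1198f89e60)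
theorem m22p2mem : memOK (nat_lit 5) (nat_lit 32) (nat_lit 24) m24CertL.tail.tail m22p2tb (nat_lit 10) = true := by decide +kernel
theorem m22p2rel : H14.allL (List.map H14.Lev.b m24CertL.tail.tail) (relOK (nat_lit 2) (nat_lit 1) (nat_lit 7) (nat_lit 16) (nat_lit 68) (nat_lit 10) m22p2Tab m22p2QT m22p2GT (apP (nat_lit 5) (nat_lit 32) m22p2tb)) = true := by
  decide +kernel
theorem m22p2low : lowOK (nat_lit 2) (nat_lit 1) (nat_lit 7) (nat_lit 20) (apP (nat_lit 5) (nat_lit 32) m22p2tb) m22p2Lv = true := by decide +kernel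
theorem m22p2pb : PB 2 Spor.M22 [4] :=
  pb_chain GE m22_chain (e := 2) Nat.prime_two card_M22 m22p2mem m22p2rel m22p2low m22p2chk (by decide +kernel)

def m22p3Tab : ℕ := nat_lit 0x120140000100000000000
def m22p3QT : ℕ := nat_lit 0x80040000000000000000
def m22p3GT : ℕ := nat_lit 0x40080000000000000000
def m22p3As : List ℕ := [nat_lit 1153]
def m22p3Fs : List (ℕ × List ℕ × List ℕ) := [(nat_lit 2, [nat_lit 7, nat_lit 7, nat_lit 7], []), (nat_lit 2, [nat_lit 6, nat_lit 6, nat_lit 6], [])]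
def m22p3Mc : List ℕ := [nat_lit 458752, nat_lit 0x780000]
def m22p3Uc : List (ℕ × ℕ × ℕ) := [(nat_lit 256, nat_lit 3, nat_lit 2048)]
def m22p3Cs : List (List ℕ) := [[nat_lit 34838], [nat_lit 8, nat_lit 4224]]
def m22p3Lv : List (ℕ × List ℕ) := [(nat_lit 4, [nat_lit 4]), (nat_lit 1, [nat_lit 1])]
theorem m22p3chk : check (nat_lit 3) (nat_lit 2) (nat_lit 2) (nat_lit 11) (nat_lit 8) (nat_lit 9) (nat_lit 4) m22p3Tab m22p3QT m22p3GT
    (Nat.mul (nat_lit 127) (Nat.div (Nat.shiftLeft (nat_lit 1) (nat_lit 88)) (nat_lit 2047)))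
    m22p3As m22p3Fs m22p3Mc m22p3Uc (cfOf m22p3Cs) = true := by decide +kernel
def m22p3tb : ℕ → ℕ := tbOf (nat_lit 120) (nat_lit 0x1000000000000000000000000000000) (nat_lit 0xbd1b65ce55724ac890c813e0a08ce0bd88b9d22d325439402860aa53bdc0bc6abb526a39a0e934480b0a448de0)
theorem m22p3mem : memOK (nat_lit 5) (nat_lit 32) (nat_lit 24) m24CertL.tail.tail m22p3tb (nat_lit 3) = true := by decide +kernel
theorem m22p3rel : H14.allL (List.map H14.Lev.b m24CertL.tail.tail) (relOK (nat_lit 3) (nat_lit 2) (nat_lit 2) (nat_lit 11) (nat_lit 8) (nat_lit 3) m22p3Tab m22p3QT m22p3GT (apP (nat_lit 5) (nat_lit 32) m22p3tb)) = true := by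
  decide +kernel
theorem m22p3low : lowOK (nat_lit 3) (nat_lit 2) (nat_lit 2) (nat_lit 5) (apP (nat_lit 5) (nat_lit 32) m22p3tb) m22p3Lv = true := by decide +kernel
theorem m22p3pb : PB 3 Spor.M22 [3] :=
  pb_chain GE m22_chain (e := 1) Nat.prime_three card_M22 m22p3mem m22p3rel m22p3low m22p3chk (by decide +kernel)

def m23p2Tab : ℕ := nat_lit 0x9203c1f03201a0300a0420060100086307c1982e802002000140140120100180100002c0f00900c00c00800000018058050060040000000000402802002000000000000000100100000000000000000008000000000000000000000000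
def m23p2QT : ℕ := nat_lit 0x800c00600200210008008008008008500600200200200200000000000000000000000000000000000000000000000000000000000000000000000000000000000000000000000000000000000000000000000000000000000000000000
def m23p2GT : ℕ := nat_lit 0x1202404809012020040080100200400700e01c0380700e00000000000000000000000000000000000000000000000000000000000000000000000000000000000000000000000000000000000000000000000000000000000000000000
def m23p2As : List ℕ := [nat_lit 0x101010, nat_lit 528400, nat_lit 528388, nat_lit 0x101004, nat_lit 0x100810, nat_lit 263176, nat_lit 528416, nat_lit 264194, nat_lit 525320, nat_lit 264208, nat_lit 524804, nat_lit 262402, nat_lit 131588, nat_lit 0x102020, nat_lit 132098, nat_lit 0x102010, nat_lit 0x102002, nat_lit 132104]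
def m23p2Fs : List (ℕ × List ℕ × List ℕ) := [(nat_lit 9, [nat_lit 66, nat_lit 67], [nat_lit 67, nat_lit 66, nat_lit 65, nat_lit 64, nat_lit 63]), (nat_lit 9, [nat_lit 64, nat_lit 67], [nat_lit 67, nat_lit 64, nat_lit 63]), (nat_lit 9, [nat_lit 63, nat_lit 63], []), (nat_lit 8, [nat_lit 60, nat_lit 61], [nat_lit 61, nat_lit 60, nat_lit 58, nat_lit 57]), (nat_lit 8, [nat_lit 61, nat_lit 61], [nat_lit 59, nat_lit 58]), (nat_lit 8, [nat_lit 60, nat_lit 60], [nat_lit 57]), (nat_lit 8, [nat_lit 62, nat_lit 62], []), (nat_lit 8, [nat_lit 58, nat_lit 58], []), (nat_lit 7, [nat_lit 53, nat_lit 55], [nat_lit 55, nat_lit 53, nat_lit 52]), (nat_lit 7, [nat_lit 53, nat_lit 56], [nat_lit 56, nat_lit 53, nat_lit 51]), (nat_lit 7, [nat_lit 56, nat_lit 56], [nat_lit 52, nat_lit 51]), (nat_lit 7, [nat_lit 54, nat_lit 54], [nat_lit 51]), (nat_lit 7, [nat_lit 53, nat_lit 53], [])]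
def m23p2Mc : List ℕ := [nat_lit 0, nat_lit 0, nat_lit 0, nat_lit 0xe100000000000000, nat_lit 0xc100000000000000, nat_lit 0xc000000000000000, nat_lit 0x300000000000000]
def m23p2Uc : List (ℕ × ℕ × ℕ) := []
def m23p2Cs : List (List ℕ) := [[nat_lit 589824], [nat_lit 65536, nat_lit 0x65ff2000], [nat_lit 851968, nat_lit 0x65ef2000, nat_lit 0x65ff2020], [nat_lit 8192, nat_lit 0x2912000, nat_lit 0xe8da120, nat_lit 0x6b7ba500], [nat_lit 0x65662000, nat_lit 0x380120, nat_lit 0x100120, nat_lit 0x7d71992b, nat_lit 0x62ae6a1], [nat_lit 0x492000, nat_lit 0x1e91a120, nat_lit 0x5e109c0b, nat_lit 0x1fd08120, nat_lit 0x3d06b41c, nat_lit 0x798c2b9d], [nat_lit 606208, nat_lit 0x41d8120, nat_lit 0x65ffa020, nat_lit 0x6b70a500, nat_lit 0x77d13aeb, nat_lit 0x32a32eb, nat_lit 861248]]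
def m23p2Lv : List (ℕ × List ℕ) := [(nat_lit 0, [nat_lit 16]), (nat_lit 2, [nat_lit 8, nat_lit 54]), (nat_lit 3, [nat_lit 1, nat_lit 2, nat_lit 4, nat_lit 94])]
theorem m23p2chk : check (nat_lit 2) (nat_lit 1) (nat_lit 7) (nat_lit 11) (nat_lit 68) (nat_lit 2) (nat_lit 1) m23p2Tab m23p2QT m23p2GT
    (Nat.mul (nat_lit 1023) (Nat.div (Nat.shiftLeft (nat_lit 1) (nat_lit 748)) (nat_lit 2047)))
    m23p2As m23p2Fs m23p2Mc m23p2Uc (cfOf m23p2Cs) = true := by decide +kernel
def m23p2tb : ℕ → ℕ := tbOf (nat_lit 120) (nat_lit 0x1000000000000000000000000000000) (nat_lit 0xbc2b26248e894d41366ab0ceb43c20bc26c046c45a54871472a89f469827ba8143b6302246e7958834ecb90aa1bc8119da9050da45bca83892c71835bc0041264e8aec86346a34de5a1c35bac163a1834d14d7464f9989028835bcaab3b1a570e848be099891651820b92a99b0ad50e1243e8b39a3670820b8ea89aa11610af4c974399aeb0820bb2b1992881a9766b8b03993278820)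
theorem m23p2mem : memOK (nat_lit 5) (nat_lit 32) (nat_lit 24) m24CertL.tail m23p2tb (nat_lit 10) = true := by decide +kernel
theorem m23p2rel : H14.allL (List.map H14.Lev.b m24CertL.tail) (relOK (nat_lit 2) (nat_lit 1) (nat_lit 7) (nat_lit 11) (nat_lit 68) (nat_lit 10) m23p2Tab m23p2QT m23p2GT (apP (nat_lit 5) (nat_lit 32) m23p2tb)) = true := by
  decide +kernel
theorem m23p2low : lowOK (nat_lit 2) (nat_lit 1) (nat_lit 7) (nat_lit 20) (apP (nat_lit 5) (nat_lit 32) m23p2tb) m23p2Lv = true := by decide +kernel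
theorem m23p2pb : PB 2 Spor.M23 [] :=
  pb_chain GE m23_chain (e := 0) Nat.prime_two card_M23 m23p2mem m23p2rel m23p2low m23p2chk (by decide +kernel)

def m23p3Tab : ℕ := nat_lit 0x28608080010000000
def m23p3QT : ℕ := nat_lit 0x20108040000000000
def m23p3GT : ℕ := nat_lit 0x18304080000000000
def m23p3As : List ℕ := []
def m23p3Fs : List (ℕ × List ℕ × List ℕ) := [(nat_lit 3, [nat_lit 8, nat_lit 8, nat_lit 8], []), (nat_lit 2, [nat_lit 6, nat_lit 7], [nat_lit 7, nat_lit 6]), (nat_lit 2, [nat_lit 6, nat_lit 6, nat_lit 6], [])]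
def m23p3Mc : List ℕ := [nat_lit 0, nat_lit 0]
def m23p3Uc : List (ℕ × ℕ × ℕ) := []
def m23p3Cs : List (List ℕ) := [[nat_lit 2], [nat_lit 8, nat_lit 33]]
def m23p3Lv : List (ℕ × List ℕ) := [(nat_lit 1, [nat_lit 1]), (nat_lit 0, [nat_lit 5])]
theorem m23p3chk : check (nat_lit 3) (nat_lit 2) (nat_lit 2) (nat_lit 7) (nat_lit 10) (nat_lit 3) (nat_lit 2) m23p3Tab m23p3QT m23p3GT
    (Nat.mul (nat_lit 31) (Nat.div (Nat.shiftLeft (nat_lit 1) (nat_lit 70)) (nat_lit 127)))
    m23p3As m23p3Fs m23p3Mc m23p3Uc (cfOf m23p3Cs) = true := by decide +kernel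
def m23p3tb : ℕ → ℕ := tbOf (nat_lit 120) (nat_lit 0x1000000000000000000000000000000) (nat_lit 0xbc5e6b50f00b84b60155990b24b503b81644d467695f415a28985cc81a4aba84c8ae137b9a4300684c8b4386b6b8c34b2d406b90c31e0f8c8a49d449)
theorem m23p3mem : memOK (nat_lit 5) (nat_lit 32) (nat_lit 24) m24CertL.tail m23p3tb (nat_lit 4) = true := by decide +kernel
theorem m23p3rel : H14.allL (List.map H14.Lev.b m24CertL.tail) (relOK (nat_lit 3) (nat_lit 2) (nat_lit 2) (nat_lit 7) (nat_lit 10) (nat_lit 4) m23p3Tab m23p3QT m23p3GT (apP (nat_lit 5) (nat_lit 32) m23p3tb)) = true := by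
  decide +kernel
theorem m23p3low : lowOK (nat_lit 3) (nat_lit 2) (nat_lit 2) (nat_lit 6) (apP (nat_lit 5) (nat_lit 32) m23p3tb) m23p3Lv = true := by decide +kernel
theorem m23p3pb : PB 3 Spor.M23 [] :=
  pb_chain GE m23_chain (e := 0) Nat.prime_three card_M23 m23p3mem m23p3rel m23p3low m23p3chk (by decide +kernel)

def m24p2Tab : ℕ := nat_lit 0x49a3f70480bd402001600c80040042a616f0ef47fc3cf1e9006403c0060fe0f9c40217c0090f10022017000831c76038f1b98d1033e032001000400812004801980420110060010006001000006811007101280480140040010004000000009813c04c0100050014004001000000000002a01280480180050018004000000000000000201100480100040010000000000000000000001000400100040000000000000000000000001000400100000000000000000000000000001000400000000000000000000000000000001000000000000000000000000000000000000000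
def m24p2QT : ℕ := nat_lit 0x48010004000800200080020008002280080010004001000400100040011000500100020008002000800200088002800c0010004001000400100040000000000000000000000000000000000000000000000000000000000000000000000000000000000000000000000000000000000000000000000000000000000000000000000000000000000000000000000000000000000000000000000000000000000000000000000000000000000000000000000000000000000000000000000000000000000000000000000000000000000000000000000000000000000000000000
def m24p2GT : ℕ := nat_lit 0x1a00d006803401a00d006803401a00c006003001800c006003001800c005802c01600b005802c01600b005802801400a005002801400a00500280000000000000000000000000000000000000000000000000000000000000000000000000000000000000000000000000000000000000000000000000000000000000000000000000000000000000000000000000000000000000000000000000000000000000000000000000000000000000000000000000000000000000000000000000000000000000000000000000000000000000000000000000000000000000000000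
def m24p2As : List ℕ := [nat_lit 0x8010040, nat_lit 0x20040100, nat_lit 0x8020040, nat_lit 0x20040080, nat_lit 0x20040008, nat_lit 0x20040010, nat_lit 0x20020008, nat_lit 0x4010008, nat_lit 0x4010010, nat_lit 0x4010040, nat_lit 0x10040080, nat_lit 0x10040008, nat_lit 0x10020010, nat_lit 0x10008020, nat_lit 0x4010002, nat_lit 0x4008020, nat_lit 0x20080080, nat_lit 0x20020010, nat_lit 0x10040100, nat_lit 0x20080100, nat_lit 0x10040004, nat_lit 0x8020080, nat_lit 0x20008020, nat_lit 0x8004008, nat_lit 0x20080020, nat_lit 0x20080010, nat_lit 0x20080002, nat_lit 0x8002008, nat_lit 0x4004010, nat_lit 0x4002008, nat_lit 0x4000802, nat_lit 0x2004010, nat_lit 0x2002008, nat_lit 0x2008004, nat_lit 0x2008002, nat_lit 0x20080200, nat_lit 0x2008020]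
def m24p2Fs : List (ℕ × List ℕ × List ℕ) := [(nat_lit 13, [nat_lit 134, nat_lit 135], [nat_lit 135, nat_lit 134, nat_lit 131, nat_lit 130]), (nat_lit 13, [nat_lit 135, nat_lit 137], [nat_lit 137, nat_lit 135, nat_lit 133, nat_lit 132, nat_lit 131, nat_lit 129]), (nat_lit 13, [nat_lit 132, nat_lit 135], [nat_lit 135, nat_lit 132, nat_lit 130]), (nat_lit 13, [nat_lit 135, nat_lit 135], [nat_lit 133, nat_lit 130, nat_lit 129]), (nat_lit 13, [nat_lit 132, nat_lit 132], []), (nat_lit 12, [nat_lit 127, nat_lit 127], [nat_lit 124, nat_lit 123, nat_lit 121]), (nat_lit 12, [nat_lit 126, nat_lit 126], [nat_lit 125, nat_lit 123, nat_lit 121]), (nat_lit 12, [nat_lit 123, nat_lit 127], [nat_lit 127, nat_lit 123, nat_lit 121]), (nat_lit 12, [nat_lit 120, nat_lit 127], [nat_lit 127, nat_lit 120]), (nat_lit 12, [nat_lit 122, nat_lit 122], []), (nat_lit 11, [nat_lit 119, nat_lit 119], [nat_lit 113]), (nat_lit 11, [nat_lit 117, nat_lit 119], [nat_lit 119, nat_lit 117, nat_lit 115]), (nat_lit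 11, [nat_lit 116, nat_lit 116], [nat_lit 111]), (nat_lit 11, [nat_lit 114, nat_lit 117], [nat_lit 117, nat_lit 114, nat_lit 112]), (nat_lit 11, [nat_lit 116, nat_lit 117], [nat_lit 117, nat_lit 116, nat_lit 113, nat_lit 112]), (nat_lit 11, [nat_lit 117, nat_lit 117], [nat_lit 115, nat_lit 112, nat_lit 111]), (nat_lit 11, [nat_lit 113, nat_lit 117], [nat_lit 117, nat_lit 113, nat_lit 111]), (nat_lit 11, [nat_lit 113, nat_lit 113], []), (nat_lit 10, [nat_lit 105, nat_lit 110], [nat_lit 110, nat_lit 105, nat_lit 104]), (nat_lit 10, [nat_lit 106, nat_lit 110], [nat_lit 110, nat_lit 106, nat_lit 102]), (nat_lit 10, [nat_lit 106, nat_lit 106], []), (nat_lit 10, [nat_lit 105, nat_lit 105], []), (nat_lit 10, [nat_lit 110, nat_lit 110], [nat_lit 104]), (nat_lit 10, [nat_lit 103, nat_lit 110], [nat_lit 110, nat_lit 103, nat_lit 102]), (nat_lit 10, [nat_lit 104, nat_lit 104], [])]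
def m24p2Mc : List ℕ := [nat_lit 0, nat_lit 0, nat_lit 0, nat_lit 0, nat_lit 0x600008040000000000000000000000000, nat_lit 0x6008000000000000000000000000000, nat_lit 0x200008000000000000000000000000000, nat_lit 0xa000000000000000000000000000000, nat_lit 0x60c000000000000000000000000000000, nat_lit 0xc000000000000000000000000000000]
def m24p2Uc : List (ℕ × ℕ × ℕ) := []
def m24p2Cs : List (List ℕ) := [[nat_lit 0x88000000], [nat_lit 0x8000000, nat_lit 0x4200000000], [nat_lit 0x10000000, nat_lit 0x8802000000, nat_lit 0x21900000000], [nat_lit 0xa8000000, nat_lit 0x4600000000, nat_lit 0x21800000000, nat_lit 0x1a40100080], [nat_lit 0xc8000000, nat_lit 0x4000000000, nat_lit 0x9002000000, nat_lit 0x1ae8108000, nat_lit 0x21940000080], [nat_lit 0x2000000, nat_lit 0xc2ff10000000, nat_lit 0xa002000000, nat_lit 0x19e2d2f38e1cf6dd, nat_lit 0x1901c09df80d76dd, nat_lit 0x19010260e80d765c], [nat_lit 0x42b998000000, nat_lit 0x1921c085b01df6dd, nat_lit 0x19a2d0ac2e1cf6dd, nat_lit 0x1a3492efc07f65d,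 nat_lit 0x18827279cafdf65d, nat_lit 0x189289aa741a0080, nat_lit 0x3fcf2dc97b5d5dd8], [nat_lit 0x1000c8000000, nat_lit 0x2005ce8108000, nat_lit 0x18800099521df6dd, nat_lit 0x1121e0dd60fd76dd, nat_lit 0x2115c20108000, nat_lit 0x3003fb248afb0000, nat_lit 0x27cee664d1a6fa5c, nat_lit 0x226398004afbb6cd], [nat_lit 0x102b998000000, nat_lit 0x4001ee8108000, nat_lit 0x3e210fff4118000, nat_lit 0x1129f185e8ed765d, nat_lit 0x112df99f00fdf65d, nat_lit 0x2c4cf23cee1a0081, nat_lit 0xfe93099e2f6009d, nat_lit 0x274d9f971b40fa00, nat_lit 0x1e4f1c0fe7a73a98], [nat_lit 0x808a000000, nat_lit 0x180000db720d76dd, nat_lit 0x4000000, nat_lit 0x25cdd22f2407f65d, nat_lit 0x188022809a1df65d, nat_lit 0x1ae3169f841cf65c, nat_lit 0x5a3af7a120a8ce2, nat_lit 0x378f7472860a0c81, nat_lit 0x13cc469670e00cbf, nat_lit 0x3a62ca49f417e790]]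
def m24p2Lv : List (ℕ × List ℕ) := [(nat_lit 0, [nat_lit 2, nat_lit 16, nat_lit 64]), (nat_lit 11, [nat_lit 234]), (nat_lit 10, [nat_lit 10, nat_lit 641]), (nat_lit 1, [nat_lit 1, nat_lit 6, nat_lit 48, nat_lit 360])]
theorem m24p2chk : check (nat_lit 2) (nat_lit 1) (nat_lit 10) (nat_lit 13) (nat_lit 138) (nat_lit 2) (nat_lit 1) m24p2Tab m24p2QT m24p2GT
    (Nat.mul (nat_lit 4095) (Nat.div (Nat.shiftLeft (nat_lit 1) (nat_lit 1794)) (nat_lit 8191)))
    m24p2As m24p2Fs m24p2Mc m24p2Uc (cfOf m24p2Cs) = true := by decide +kernel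
def m24p2tb : ℕ → ℕ := tbOf (nat_lit 120) (nat_lit 0x1000000000000000000000000000000) (nat_lit 0x12e951a1e9880e5b1a126a9819dc8e94c9038057a8d766d0ac8bdc64052ab89c03406a255a1a49ec2c6683d92b6993762e700ba91028f6aa1e4188b283e324ac40732966dc61992a8394ca6b8502d2600d96455cc74246f8d592920f08d0971a561502ce15665619ed90c8a4aed7a868e800b17b04744ccd599202a88d1a213bcac27542f89d94589c0228ad6560fbc8e64a2330d874009cb9c9f08d5a5a28e64a1841d8370384b1b4aa65a4fa40e64a2219d49705aab0b5ea8ba45a41283998320a77bd6d40c9f0889a55a8c74258323a60)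
theorem m24p2mem : memOK (nat_lit 5) (nat_lit 32) (nat_lit 24) m24CertL m24p2tb (nat_lit 14) = true := by decide +kernel
theorem m24p2rel : H14.allL (List.map H14.Lev.b m24CertL) (relOK (nat_lit 2) (nat_lit 1) (nat_lit 10) (nat_lit 13) (nat_lit 138) (nat_lit 14) m24p2Tab m24p2QT m24p2GT (apP (nat_lit 5) (nat_lit 32) m24p2tb)) = true := by
  decide +kernel
theorem m24p2low : lowOK (nat_lit 2) (nat_lit 1) (nat_lit 10) (nat_lit 22) (apP (nat_lit 5) (nat_lit 32) m24p2tb) m24p2Lv = true := by decide +kernel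
theorem m24p2pb : PB 2 M24 [] :=
  pb_chain GE m24_chain (e := 0) Nat.prime_two card_M24 m24p2mem m24p2rel m24p2low m24p2chk (by decide +kernel)

def m24p3Tab : ℕ := nat_lit 0x4a15008000a01000000200000000000
def m24p3QT : ℕ := nat_lit 0x2004008000000000000000000000000
def m24p3GT : ℕ := nat_lit 0x603018000000000000000000000000
def m24p3As : List ℕ := [nat_lit 67588]
def m24p3Fs : List (ℕ × List ℕ × List ℕ) := [(nat_lit 3, [nat_lit 13, nat_lit 13, nat_lit 13], []), (nat_lit 3, [nat_lit 12, nat_lit 12, nat_lit 12], []), (nat_lit 3, [nat_lit 11, nat_lit 13], [nat_lit 13, nat_lit 11]), (nat_lit 3, [nat_lit 11, nat_lit 12], [nat_lit 12, nat_lit 11])]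
def m24p3Mc : List ℕ := [nat_lit 0, nat_lit 0, nat_lit 16384]
def m24p3Uc : List (ℕ × ℕ × ℕ) := []
def m24p3Cs : List (List ℕ) := [[nat_lit 512], [nat_lit 9, nat_lit 409], [nat_lit 2, nat_lit 0, nat_lit 554]]
def m24p3Lv : List (ℕ × List ℕ) := [(nat_lit 2, [nat_lit 4]), (nat_lit 3, [nat_lit 24]), (nat_lit 0, [nat_lit 1])]
theorem m24p3chk : check (nat_lit 3) (nat_lit 2) (nat_lit 3) (nat_lit 9) (nat_lit 14) (nat_lit 3) (nat_lit 2) m24p3Tab m24p3QT m24p3GT
    (Nat.mul (nat_lit 127) (Nat.div (Nat.shiftLeft (nat_lit 1) (nat_lit 126)) (nat_lit 511)))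
    m24p3As m24p3Fs m24p3Mc m24p3Uc (cfOf m24p3Cs) = true := by decide +kernel
def m24p3tb : ℕ → ℕ := tbOf (nat_lit 120) (nat_lit 0x1000000000000000000000000000000) (nat_lit 0x726f27996051195186c78228d144b39d9af812373d5c513172a19481a42040e86512d70bcf313170056458a5cd659a72c22aa55c45c93378117188c1)
theorem m24p3mem : memOK (nat_lit 5) (nat_lit 32) (nat_lit 24) m24CertL m24p3tb (nat_lit 4) = true := by decide +kernel
theorem m24p3rel : H14.allL (List.map H14.Lev.b m24CertL) (relOK (nat_lit 3) (nat_lit 2) (nat_lit 3) (nat_lit 9) (nat_lit 14) (nat_lit 4) m24p3Tab m24p3QT m24p3GT (apP (nat_lit 5) (nat_lit 32) m24p3tb)) = true := by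
  decide +kernel
theorem m24p3low : lowOK (nat_lit 3) (nat_lit 2) (nat_lit 3) (nat_lit 4) (apP (nat_lit 5) (nat_lit 32) m24p3tb) m24p3Lv = true := by decide +kernel
theorem m24p3pb : PB 3 M24 [] :=
  pb_chain GE m24_chain (e := 0) Nat.prime_three card_M24 m24p3mem m24p3rel m24p3low m24p3chk (by decide +kernel)

end Cfsg.Agent.H63.Mat
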