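/-
Stem extensions of the Thompson group split (generated certificates).
-/
import Cfsg.Agent.H63.D4
import Cfsg.Agent.H63.Cert.ThZ4
import Cfsg.Agent.H63.Cert.ThZ5
import Cfsg.Agent.H63.Cert.ThZ6
import Cfsg.Agent.H63.Cert.ThZ7

set_option autoImplicit false
set_option maxRecDepth 100000
set_option Elab.async false
set_option exponentiation.threshold 400000

namespace Cfsg.Agent.H63.Th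

open H58 H17

abbrev iv : ℕ := ThP.iv0
abbrev el : ℕ → Spor.Th := ThP.el0
def rG : List (List ℕ) := ThP.rels0 ++ [[1, 4, 3, 5, 4, 3, 6, 5, 6, 4, 5, 7, 3, 4, 5, 2, 4, 3, 4, 7, 5, 6, 4, 3, 4, 2, 3, 4, 5, 4, 3, 5, 4, 3, 6, 5, 4, 7, 5, 7, 3, 4, 5, 3, 4, 1, 4, 3, 2, 4, 3, 4, 7, 5, 6, 4, 3, 4, 2, 3, 4], [2, 10, 4, 3, 2, 10, 1, 2, 10, 4, 5, 3, 4, 5, 4, 3, 5, 4, 11, 2, 1, 11, 2, 3, 4, 11, 2, 1], [1, 9, 10, 4, 7, 5, 6, 4, 11, 8, 7, 7, 10, 4, 3, 4, 11, 6, 4, 5, 7, 5, 4, 9, 10, 4, 7, 5, 6, 4, 11, 8, 1, 4, 5, 6, 5, 4, 7, 10, 4, 3, 4, 11, 6, 6, 1], [2, 10, 4, 3, 2, 10, 1, 2, 10, 4, 5, 3, 4, 1, 4, 3, 5, 4, 3, 6, 5, 6, 4, 5, 7, 3, 11, 2, 1, 11, 2, 3, 4, 11, 2, 1, 9, 10, 4, 7, 5, 6, 4, 11, 8], [2, 10, 4, 3, 2, 10, 1, 2, 10, 4, 5, 2, 4, 3, 4, 7,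 5, 6, 4, 3, 4, 2, 5, 4, 11, 2, 1, 11, 2, 3, 4, 11, 2, 7, 7, 10, 4, 3, 4, 11, 6, 4, 5, 7, 5, 4]]

theorem el_eq : ∀ x < 12, el x = ThP.el x := fun x hx => by interval_cases x <;> rfl

theorem cv {w w' r : List ℕ} (h : wv ThP.el w = wv ThP.el w') (c : ((w ++ w').all (fun x => Nat.blt x 12) &&
    (r == w ++ invw iv w' && allLt [w'])) = true) : (r.map el).prod = 1 := by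
  rw [Bool.and_eq_true, List.all_eq_true, List.forall_mem_append] at c
  refine wv_append_eq_one ThP.R0 ?_ c.2
  exact (congrArg List.prod (List.map_congr_left fun x hx => el_eq x (Nat.blt_eq.mp (c.1.1 x hx)))).trans (h.trans
    (congrArg List.prod (List.map_congr_left fun x hx => el_eq x (Nat.blt_eq.mp (c.1.2 x hx)))).symm)

def pw0 : List (List ℕ × List ℕ) := [([2, 10, 4, 3, 2, 10, 1, 2, 10, 4, 5, 3, 4, 1, 4, 3, 5, 4, 3, 6, 5, 6, 4], [9, 10, 4, 7, 5, 6, 4, 11, 8, 1, 2, 10, 4, 3, 2, 10, 1, 2, 10, 3, 6, 5]),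
  ([2, 10, 4, 3, 2, 10, 1, 2, 10, 4, 5, 2, 4, 3, 4, 7, 5, 6, 4, 3, 4, 2, 5], [4, 5, 6, 5, 4, 7, 10, 4, 3, 4, 11, 6, 6, 2, 10, 4, 3, 2, 10, 1, 2, 10, 4])]
theorem pw0_0 : meqAt ThR.E 62 ThR.mats pw0 0 = true := by decide +kernel
theorem pw0_1 : meqAt ThR.E 62 ThR.mats pw0 1 = true := by decide +kernel
theorem pw0_2 : meqAt ThR.E 62 ThR.mats pw0 2 = true := by decide +kernel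
theorem pw0_3 : meqAt ThR.E 62 ThR.mats pw0 3 = true := by decide +kernel
theorem pw0_eq : ∀ q ∈ pw0, (q.1.map (lmat ThR.E ThR.mats)).prod = (q.2.map (lmat ThR.E ThR.mats)).prod :=
  meq_sound ThR.matsOK (m := 62) (J := 4) (by decide) ThR.basis
    (blocks_cons (blocks_cons (blocks_cons (blocks_cons (blocks_nil _) pw0_0) pw0_1) pw0_2) pw0_3)

theorem RG : RuleOK el rG iv := ThP.R0.append _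
  (forall_cons (cv (eqvN_sound ThU.Lc0 ThF.blk0 ThU.base0.1 [1, 4, 3, 5, 4, 3, 6, 5, 6, 4, 5, 7, 3, 4, 5, 2, 4, 3, 4, 7, 5, 6, 4, 3, 4, 2, 3, 4, 5, 4, 3] [4, 3, 2, 4, 3, 4, 7, 5, 6, 4, 3, 4, 2, 3, 4, 1, 4, 3, 5, 4, 3, 6, 5, 6, 4, 5, 7, 3, 4, 5] (by decide +kernel)) (by decide +kernel))
  (forall_cons (cv (eqvN_sound ThU.L2 ThF.blk2 ThU.base2.1 [2, 10, 4, 3, 2, 10, 1, 2, 10, 4, 5, 3, 4, 5] [1, 2, 10, 4, 3, 2, 10, 1, 2, 10, 4, 5, 3, 4] (by decide +kernel)) (by decide +kernel))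
  (forall_cons (cv (eqvM_sound ThC.rule.1 ThC.b0 ThF.g1 (ThU.card1 ThU.Rm) ThU.cge1 [1, 9, 10, 4, 7, 5, 6, 4, 11, 8, 7, 7, 10, 4, 3, 4, 11, 6, 4, 5, 7, 5, 4, 9] [1, 7, 7, 10, 4, 3, 4, 11, 6, 4, 5, 7, 5, 4, 1, 9, 10, 4, 7, 5, 6, 4, 11] (by decide +kernel))
    (by decide +kernel))
  (forall_cons (wv_append_eq_one ThP.R0 (ThS.wv_eq_of_rep (ThR.rule.1.wv_eq pw0_eq _ List.mem_cons_self)) (by decide +kernel))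
  (forall_cons (wv_append_eq_one ThP.R0 (ThS.wv_eq_of_rep (ThR.rule.1.wv_eq pw0_eq _
    (List.mem_cons_of_mem _ List.mem_cons_self))) (by decide +kernel))
  (forall_nil' _)))))) (by decide +kernel)

def rs1 : List (List ℕ) := [[1, 2, 1, 2, 1, 2], [1, 5, 1, 5], [2, 3, 2, 3, 2, 3], [2, 4, 2, 4], [2, 5, 2, 5], [1, 4, 3, 4, 3, 4, 3, 4, 3], [3, 5, 3, 5], [4, 5, 4, 5, 4, 5], [2, 3, 4, 5, 2, 3, 4, 5, 2, 3, 4, 5, 2, 3, 4, 5, 2, 3, 4, 5, 2, 3, 4, 5, 2, 3, 4, 5, 2, 3, 4, 5], [6, 6, 6, 6, 6, 6, 6], [7, 1, 6, 1], [7, 2, 6, 2], [7, 3, 6, 3], [6, 4, 6, 4], [5, 7, 5, 7, 7, 5, 6, 6, 6], [1, 4, 3, 5, 4, 3, 6, 5, 6, 4, 5, 7, 3, 4, 5, 2, 4, 3, 4, 7, 5, 6, 4, 3, 4, 2, 3, 4, 5, 4, 3, 5, 4, 3, 6, 5, 4, 7, 5, 7, 3, 4, 5, 3, 4, 1, 4, 3, 2, 4, 3, 4, 7,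 5, 6, 4, 3, 4, 2, 3, 4]]
def rs2 : List (List ℕ) := [[9, 1, 8, 1], [9, 2, 8, 2], [9, 3, 8, 3], [9, 4, 8, 4], [9, 5, 8, 5], [9, 6, 8, 7, 7], [9, 7, 8, 6, 6], [1, 2, 1, 2, 1, 2], [1, 5, 1, 5], [2, 3, 2, 3, 2, 3], [2, 4, 2, 4], [2, 5, 2, 5], [1, 4, 3, 4, 3, 4, 3, 4, 3], [3, 5, 3, 5], [4, 5, 4, 5, 4, 5], [2, 3, 4, 5, 2, 3, 4, 5, 2, 3, 4, 5, 2, 3, 4, 5, 2, 3, 4, 5, 2, 3, 4, 5, 2, 3, 4, 5, 2, 3, 4, 5], [6, 6, 6, 6, 6, 6, 6], [7, 1, 6, 1], [7, 2, 6, 2], [7, 3, 6, 3], [6, 4, 6, 4], [5, 7, 5, 7, 7, 5, 6, 6, 6], [1, 4, 3, 5, 4, 3, 6, 5, 6, 4, 5, 7, 3, 4, 5, 2, 4, 3, 4, 7, 5, 6, 4, 3, 4, 2, 3, 4, 5, 4, 3, 5, 4, 3, 6, 5, 4, 7, 5, 7, 3, 4, 5, 3, 4, 1, 4, 3, 2, 4, 3, 4, 7, 5, 6, 4, 3, 4, 2, 3, 4]]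
def rs3 : List (List ℕ) := [[8, 8, 8, 11, 9, 10, 9], [9, 1, 8, 1], [9, 2, 8, 2], [9, 3, 8, 3], [9, 4, 8, 4], [9, 5, 8, 5], [9, 6, 8, 7, 7], [9, 7, 8, 6, 6], [1, 2, 1, 2, 1, 2], [1, 5, 1, 5], [2, 3, 2, 3, 2, 3], [2, 4, 2, 4], [2, 5, 2, 5], [1, 4, 3, 4, 3, 4, 3, 4, 3], [3, 5, 3, 5], [4, 5, 4, 5, 4, 5], [2, 3, 4, 5, 2, 3, 4, 5, 2, 3, 4, 5, 2, 3, 4, 5, 2, 3, 4, 5, 2, 3, 4, 5, 2, 3, 4, 5, 2, 3, 4, 5], [6, 6, 6, 6, 6, 6, 6], [7, 1, 6, 1], [7, 2, 6, 2], [7, 3, 6, 3], [6, 4, 6, 4], [5, 7, 5, 7, 7, 5, 6, 6, 6], [1, 4, 3, 5, 4, 3, 6, 5, 6, 4, 5, 7, 3, 4, 5, 2, 4, 3, 4, 7, 5, 6, 4, 3, 4, 2, 3, 4, 5, 4, 3, 5, 4, 3, 6, 5, 4, 7, 5, 7, 3, 4, 5, 3, 4, 1, 4, 3, 2, 4, 3, 4, 7, 5, 6, 4, 3, 4, 2, 3, 4]]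
def rs4 : List (List ℕ) := [[10, 3, 1, 10, 1, 3, 7, 11, 7, 11, 7, 11], [8, 8, 8, 11, 9, 10, 9], [9, 1, 8, 1], [9, 2, 8, 2], [9, 3, 8, 3], [9, 4, 8, 4], [9, 5, 8, 5], [9, 6, 8, 7, 7], [9, 7, 8, 6, 6], [1, 2, 1, 2, 1, 2], [1, 5, 1, 5], [2, 3, 2, 3, 2, 3], [2, 4, 2, 4], [2, 5, 2, 5], [1, 4, 3, 4, 3, 4, 3, 4, 3], [3, 5, 3, 5], [4, 5, 4, 5, 4, 5], [2, 3, 4, 5, 2, 3, 4, 5, 2, 3, 4, 5, 2, 3, 4, 5, 2, 3, 4, 5, 2, 3, 4, 5, 2, 3, 4, 5, 2, 3, 4, 5], [6, 6, 6, 6, 6, 6, 6], [7, 1, 6, 1], [7, 2, 6, 2], [7, 3, 6, 3], [6, 4, 6, 4], [5, 7, 5, 7, 7, 5, 6, 6, 6], [1, 4, 3, 5, 4, 3, 6, 5, 6, 4, 5, 7, 3, 4, 5, 2, 4, 3, 4, 7, 5, 6, 4, 3, 4, 2, 3, 4, 5, 4, 3, 5, 4, 3, 6, 5, 4, 7, 5, 7, 3, 4, 5, 3, 4, 1, 4, 3, 2, 4, 3, 4, 7, 5, 6, 4, 3, 4, 2, 3, 4]]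
def rs5 : List (List ℕ) := [[10, 3, 1, 10, 1, 3, 7, 11, 7, 11, 7, 11], [8, 8, 8, 11, 9, 10, 9], [9, 1, 8, 1], [9, 2, 8, 2], [9, 3, 8, 3], [9, 4, 8, 4], [9, 5, 8, 5], [9, 6, 8, 7, 7], [9, 7, 8, 6, 6], [1, 2, 1, 2, 1, 2], [1, 5, 1, 5], [2, 3, 2, 3, 2, 3], [2, 4, 2, 4], [2, 5, 2, 5], [1, 4, 3, 4, 3, 4, 3, 4, 3], [3, 5, 3, 5], [4, 5, 4, 5, 4, 5], [2, 3, 4, 5, 2, 3, 4, 5, 2, 3, 4, 5, 2, 3, 4, 5, 2, 3, 4, 5, 2, 3, 4, 5, 2, 3, 4, 5, 2, 3, 4, 5], [6, 6, 6, 6, 6, 6, 6], [7, 1, 6, 1], [7, 2, 6, 2], [7, 3, 6, 3], [6, 4, 6, 4], [5, 7, 5, 7, 7, 5, 6, 6, 6], [1, 4, 3, 5, 4, 3, 6, 5, 6, 4, 5, 7, 3, 4, 5, 2, 4, 3, 4, 7, 5, 6, 4, 3, 4, 2, 3, 4, 5, 4, 3, 5, 4, 3, 6, 5, 4, 7, 5, 7, 3, 4, 5, 3, 4, 1, 4, 3, 2, 4, 3, 4, 7, 5, 6, 4, 3, 4, 2, 3, 4], [11,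 1, 10, 1], [11, 3, 10, 3], [4, 5, 11, 4, 10, 4, 5, 11, 4, 10], [8, 8, 8], [8, 11, 8, 10], [10, 3, 1, 10, 10, 3, 1, 10], [11, 5, 10, 5, 10, 3, 1, 10], [5, 7, 7, 11, 6, 6, 5, 7, 7, 10, 6, 6, 10, 3, 1, 10], [1, 3, 7, 11, 6, 10, 7, 11, 6, 10, 7, 11, 6, 10, 7, 11, 6, 10, 10, 3, 1, 10], [4, 7, 7, 10, 6, 6, 4, 7, 7, 10, 6, 6, 4, 7, 7, 10, 6, 6, 4, 7, 7, 10, 5, 4, 3, 4, 5, 6, 6, 6, 5, 4, 3, 4, 5, 7, 4, 3, 4, 3, 1, 10, 3, 1, 10]]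
theorem st5 : stepOK rG iv [1, 2, 3, 4, 5, 6, 7] rs4 12 [[10, 3, 1, 10], [11, 1, 3, 11], [1, 3, 7, 11, 7, 11, 7, 11], [10, 6, 10, 6, 10, 6, 3, 1], [8, 8, 8], [9, 9, 9], [8, 11, 8, 10], [11, 9, 10, 9], [11, 1, 10, 1], [1, 11, 1, 10], [11, 3, 10, 3], [3, 11, 3, 10], [11, 5, 10, 5], [5, 11, 5, 10], [4, 5, 11, 4, 10, 4, 5, 11, 4, 10], [11, 4, 10, 5, 4, 11, 4, 10, 5, 4], [5, 7, 7, 11, 6, 6, 5, 7, 7, 10, 6, 6], [7, 7, 11, 6, 6, 5, 7, 7, 10, 6, 6, 5], [1, 3, 7, 11, 6, 10, 7, 11, 6, 10, 7, 11, 6, 10, 7, 11, 6, 10], [11, 7, 10, 6, 11, 7, 10, 6, 11, 7, 10, 6, 11, 7, 10, 6, 3, 1], [4, 7, 7, 10, 6, 6, 4, 7, 7, 10, 6, 6, 4, 7, 7, 10, 6, 6, 4, 7, 7, 10, 5, 4, 3, 4, 5, 6, 6, 6, 5, 4, 3, 4, 5, 7, 4, 3, 4, 3, 1], [1, 3, 4, 3, 4, 6, 5, 4, 3, 4, 5,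 7, 7, 7, 5, 4, 3, 4, 5, 11, 6, 6, 4, 7, 7, 11, 6, 6, 4, 7, 7, 11, 6, 6, 4, 7, 7, 11, 6, 6, 4], [10, 3, 1, 10, 10, 3, 1, 10], [11, 1, 3, 11, 11, 1, 3, 11], [11, 5, 10, 5, 10, 3, 1, 10], [11, 1, 3, 11, 5, 11, 5, 10], [5, 7, 7, 11, 6, 6, 5, 7, 7, 10, 6, 6, 10, 3, 1, 10], [11, 1, 3, 11, 7, 7, 11, 6, 6, 5, 7, 7, 10, 6, 6, 5], [1, 3, 7, 11, 6, 10, 7, 11, 6, 10, 7, 11, 6, 10, 7, 11, 6, 10, 10, 3, 1, 10], [11, 1, 3, 11, 11, 7, 10, 6, 11, 7, 10, 6, 11, 7, 10, 6, 11, 7, 10, 6, 3, 1], [4, 7, 7, 10, 6, 6, 4, 7, 7, 10, 6, 6, 4, 7, 7, 10, 6, 6, 4, 7, 7, 10, 5, 4, 3, 4, 5, 6, 6, 6, 5, 4, 3, 4, 5, 7, 4, 3, 4, 3, 1, 10, 3, 1, 10], [11, 1, 3, 11, 1, 3, 4, 3, 4, 6, 5, 4, 3, 4, 5, 7, 7, 7, 5, 4, 3, 4, 5, 11, 6, 6, 4, 7, 7, 11, 6, 6, 4, 7, 7, 11, 6,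 6, 4, 7, 7, 11, 6, 6, 4]]
    [(12, [(45, 1)]), (13, [(46, 3)]), (14, [(63, 0)]), (15, [(64, 0)]), (16, [(31, 0)]), (17, [(32, 0)]), (18, [(59, 3)]), (19, [(60, 1)]), (20, [(47, 0)]), (21, [(47, 3)]), (22, [(49, 0)]), (23, [(49, 3)]), (24, [(51, 0)]), (25, [(51, 3)]), (26, [(53, 0)]), (27, [(54, 0)]), (28, [(61, 0)]), (29, [(61, 1)]), (30, [(65, 0)]), (31, [(66, 0)]), (32, [(67, 0)]), (33, [(68, 0)]), (34, [(45, 1), (45, 1)]), (35, [(46, 3), (46, 3)]), (36, [(51, 0), (45, 1)]), (37, [(46, 3), (51, 3)]), (38, [(61, 0), (45, 1)]), (39, [(46, 3), (61, 1)]), (40, [(65, 0), (45, 1)]), (41, [(46, 3), (66, 0)]), (42, [(67, 0), (45, 1)]), (43, [(46, 3), (68, 0)])]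
    ThZ4.rels ThZ4.iv [(3, 0), (5, 0), (7, 0), (11, 0), (13, 0), (15, 0), (17, 0), (18, 2), (23, 0), (31, 0), (33, 0), (35, 0), (39, 0), (41, 0), (45, 0), (47, 0), (49, 0), (0, 0), (0, 0), (0, 0), (0, 0), (0, 0), (0, 0), (0, 0), (0, 0), (0, 0), (0, 0), (0, 0), (0, 0), (0, 0), (0, 0), (0, 0), (0, 0), (0, 0), (0, 0), (0, 0), (0, 0), (0, 0), (0, 0), (0, 0), (0, 0), (0, 0), (0, 0), (0, 0), (0, 0), (0, 0), (0, 0), (0, 0), (0, 0), (0, 0), (0, 0), (0, 0), (0, 0), (0, 0), (0, 0), (0, 0), (0, 0), (0, 0), (0, 0), (0, 0), (0, 0), (0, 0), (0, 0), (0, 0), (0, 0), (0, 0), (0, 0), (0, 0), (0, 0), (0, 0), (0, 0), (0, 0), (0, 0), (0, 0), (0, 0), (0, 0), (0, 0), (0, 0), (0, 0), (0, 0), (0, 0), (0, 0), (0, 0), (0, 0), (0, 0), (0, 0), (0, 0), (0, 0),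 (0, 0), (0, 0), (0, 0), (0, 0), (0, 0), (0, 0), (0, 0), (0, 0), (0, 0), (0, 0), (0, 0), (0, 0), (0, 0), (0, 0), (0, 0), (0, 0), (0, 0), (0, 0), (0, 0), (0, 0), (0, 0), (0, 0), (0, 0), (0, 0), (0, 0), (0, 0), (0, 0), (0, 0), (0, 0), (0, 0), (0, 0), (0, 0), (0, 0), (0, 0), (0, 0), (0, 0), (0, 0), (0, 0), (0, 0), (0, 0), (0, 0), (0, 0), (0, 0), (0, 0), (0, 0), (0, 0), (0, 0), (0, 0), (0, 0), (0, 0), (0, 0), (0, 0), (0, 0), (0, 0), (0, 0), (0, 0), (0, 0), (0, 0), (0, 0), (0, 0), (0, 0), (0, 0), (0, 0), (0, 0), (0, 0), (0, 0), (0, 0), (0, 0), (0, 0), (0, 0), (0, 0), (0, 0), (0, 0), (0, 0), (0, 0), (0, 0), (0, 0), (3, 0), (5, 0)]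
    [(0, 0), (0, 0), (0, 0), (0, 0), (0, 0), (0, 0), (0, 0), (0, 0), (0, 0), (0, 0), (0, 0), (0, 0), (0, 0), (0, 0), (0, 0), (0, 0), (0, 0), (0, 0), (0, 0), (0, 0), (0, 0), (0, 0), (0, 0), (0, 0), (0, 0), (0, 0), (0, 0), (0, 0), (0, 0), (0, 0), (0, 0), (0, 0), (0, 0), (0, 0), (0, 0), (0, 0), (0, 0), (0, 0), (0, 0), (0, 0), (0, 0), (0, 0), (0, 0), (0, 0), (1, 0), (1, 0), (1, 0), (1, 0), (1, 0), (1, 0), (1, 0), (1, 0), (1, 0), (1, 0), (1, 0), (1, 0), (1, 0), (1, 0), (1, 0), (1, 0), (1, 0), (1, 0), (1, 0), (1, 0)] [1, 3, 4, 5, 6] [20, 22, 26, 16, 18, 34, 36, 38, 40, 42] rs5 = true := by decide +kernel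
def rs6 : List (List ℕ) := [[10, 3, 1, 10, 1, 3, 7, 11, 7, 11, 7, 11], [8, 8, 8, 11, 9, 10, 9], [9, 1, 8, 1], [9, 2, 8, 2], [9, 3, 8, 3], [9, 4, 8, 4], [9, 5, 8, 5], [9, 6, 8, 7, 7], [9, 7, 8, 6, 6], [1, 2, 1, 2, 1, 2], [1, 5, 1, 5], [2, 3, 2, 3, 2, 3], [2, 4, 2, 4], [2, 5, 2, 5], [1, 4, 3, 4, 3, 4, 3, 4, 3], [3, 5, 3, 5], [4, 5, 4, 5, 4, 5], [2, 3, 4, 5, 2, 3, 4, 5, 2, 3, 4, 5, 2, 3, 4, 5, 2, 3, 4, 5, 2, 3, 4, 5, 2, 3, 4, 5, 2, 3, 4, 5], [6, 6, 6, 6, 6, 6, 6], [7, 1, 6, 1], [7, 2, 6, 2], [7, 3, 6, 3], [6, 4, 6, 4], [5, 7, 5, 7, 7, 5, 6, 6, 6], [1, 4, 3, 5, 4, 3, 6, 5, 6, 4, 5, 7, 3, 4, 5, 2, 4, 3, 4, 7, 5, 6, 4, 3, 4, 2, 3, 4, 5, 4, 3, 5, 4, 3, 6, 5, 4, 7, 5, 7, 3, 4, 5, 3, 4, 1, 4, 3, 2, 4, 3, 4, 7, 5, 6, 4, 3, 4, 2, 3, 4], [11,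 1, 10, 1], [11, 3, 10, 3], [4, 5, 11, 4, 10, 4, 5, 11, 4, 10], [8, 8, 8], [8, 11, 8, 10], [10, 3, 1, 10, 10, 3, 1, 10], [11, 5, 10, 5, 10, 3, 1, 10], [5, 7, 7, 11, 6, 6, 5, 7, 7, 10, 6, 6, 10, 3, 1, 10], [1, 3, 7, 11, 6, 10, 7, 11, 6, 10, 7, 11, 6, 10, 7, 11, 6, 10, 10, 3, 1, 10], [4, 7, 7, 10, 6, 6, 4, 7, 7, 10, 6, 6, 4, 7, 7, 10, 6, 6, 4, 7, 7, 10, 5, 4, 3, 4, 5, 6, 6, 6, 5, 4, 3, 4, 5, 7, 4, 3, 4, 3, 1, 10, 3, 1, 10], [10, 3, 1, 10], [11, 5, 10, 5], [4, 11, 4, 2, 3, 1, 2, 4, 10, 4, 2, 1, 3, 2, 3, 5, 4, 11, 4, 2, 3, 1, 2, 5, 11], [2, 10, 4, 3, 2, 10, 1, 2, 10, 4, 5, 3, 4, 5, 4, 3, 5, 4, 11, 2, 1, 11, 2, 3, 4, 11, 2, 1, 5, 2, 3, 1, 2, 11, 2, 1, 3, 2, 10]]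
theorem st6 : stepOK rG iv [1, 2, 3, 4, 5, 6, 7] rs5 12 [[11, 5, 10, 5], [5, 11, 5, 10], [10, 3, 1, 10], [11, 1, 3, 11], [11, 2, 3, 1, 2, 10, 2, 1, 3, 2, 5], [5, 2, 3, 1, 2, 11, 2, 1, 3, 2, 10], [4, 11, 4, 2, 3, 1, 2, 4, 10, 4, 2, 1, 3, 2, 3, 5, 4, 11, 4, 2, 3, 1, 2, 5, 11], [10, 5, 2, 1, 3, 2, 4, 10, 4, 5, 3, 2, 3, 1, 2, 4, 11, 4, 2, 1, 3, 2, 4, 10, 4], [2, 10, 4, 3, 2, 10, 1, 2, 10, 4, 5, 3, 4, 5, 4, 3, 5, 4, 11, 2, 1, 11, 2, 3, 4, 11, 2, 1, 5, 2, 3, 1, 2, 11, 2, 1, 3, 2, 10], [11, 2, 3, 1, 2, 10, 2, 1, 3, 2, 5, 1, 2, 10, 4, 3, 2, 10, 1, 2, 10, 4, 5, 3, 4, 5, 4, 3, 5, 4, 11, 2, 1, 11, 2, 3, 4, 11, 2]]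
    [(12, [(51, 0)]), (13, [(51, 3)]), (14, [(45, 1)]), (15, [(46, 3)]), (16, [(55, 0)]), (17, [(56, 0)]), (18, [(57, 0)]), (19, [(58, 0)]), (20, [(71, 0), (56, 0)]), (21, [(55, 0), (71, 27)])]
    ThZ5.rels ThZ5.iv [(21, 0), (23, 0), (25, 0), (27, 0), (29, 0), (31, 0), (33, 0), (35, 0), (37, 0), (53, 0), (55, 0), (57, 0), (63, 0), (65, 0), (0, 0), (0, 0), (0, 0), (0, 0), (0, 0), (0, 0), (0, 0), (0, 0), (0, 0), (0, 0), (0, 0), (0, 0), (0, 0), (0, 0), (0, 0), (0, 0), (0, 0), (0, 0), (0, 0), (0, 0), (0, 0), (0, 0), (0, 0), (0, 0), (0, 0), (0, 0), (0, 0), (0, 0), (0, 0), (0, 0), (0, 0), (0, 0), (0, 0), (0, 0), (0, 0), (63, 0), (65, 0)]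
    [(0, 0), (0, 0), (0, 0), (0, 0), (0, 0), (0, 0), (0, 0), (0, 0), (0, 0), (0, 0), (0, 0), (0, 0), (0, 0), (0, 0), (0, 0), (0, 0), (0, 0), (0, 0), (0, 0), (0, 0), (0, 0), (0, 0), (1, 0), (1, 0), (1, 0), (1, 0), (1, 0), (1, 0), (1, 0), (1, 0), (1, 0), (1, 0), (1, 0), (1, 0), (1, 0), (1, 0), (1, 0), (1, 0), (1, 0), (1, 0), (1, 0), (1, 0), (1, 0), (1, 0), (1, 0), (1, 0), (1, 0), (1, 0), (1, 0), (1, 0), (1, 0), (1, 0), (1, 0), (1, 0), (1, 0), (1, 0), (1, 0), (1, 0), (1, 0), (1, 0), (1, 0), (1, 0), (1, 0), (1, 0)] [1, 2, 3, 4, 5] [14, 12, 18, 20] rs6 = true := by decide +kernel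
def rs7 : List (List ℕ) := [[10, 3, 1, 10, 1, 3, 7, 11, 7, 11, 7, 11], [8, 8, 8, 11, 9, 10, 9], [9, 1, 8, 1], [9, 2, 8, 2], [9, 3, 8, 3], [9, 4, 8, 4], [9, 5, 8, 5], [9, 6, 8, 7, 7], [9, 7, 8, 6, 6], [1, 2, 1, 2, 1, 2], [1, 5, 1, 5], [2, 3, 2, 3, 2, 3], [2, 4, 2, 4], [2, 5, 2, 5], [1, 4, 3, 4, 3, 4, 3, 4, 3], [3, 5, 3, 5], [4, 5, 4, 5, 4, 5], [2, 3, 4, 5, 2, 3, 4, 5, 2, 3, 4, 5, 2, 3, 4, 5, 2, 3, 4, 5, 2, 3, 4, 5, 2, 3, 4, 5, 2, 3, 4, 5], [6, 6, 6, 6, 6, 6, 6], [7, 1, 6, 1], [7, 2, 6, 2], [7, 3, 6, 3], [6, 4, 6, 4], [5, 7, 5, 7, 7, 5, 6, 6, 6], [1, 4, 3, 5, 4, 3, 6, 5, 6, 4, 5, 7, 3, 4, 5, 2, 4, 3, 4, 7, 5, 6, 4, 3, 4, 2, 3, 4, 5, 4, 3, 5, 4, 3, 6, 5, 4, 7, 5, 7, 3, 4, 5, 3, 4, 1, 4, 3, 2, 4, 3, 4, 7, 5, 6, 4, 3, 4, 2, 3, 4], [11,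 1, 10, 1], [11, 3, 10, 3], [4, 5, 11, 4, 10, 4, 5, 11, 4, 10], [8, 8, 8], [8, 11, 8, 10], [10, 3, 1, 10, 10, 3, 1, 10], [11, 5, 10, 5, 10, 3, 1, 10], [5, 7, 7, 11, 6, 6, 5, 7, 7, 10, 6, 6, 10, 3, 1, 10], [1, 3, 7, 11, 6, 10, 7, 11, 6, 10, 7, 11, 6, 10, 7, 11, 6, 10, 10, 3, 1, 10], [4, 7, 7, 10, 6, 6, 4, 7, 7, 10, 6, 6, 4, 7, 7, 10, 6, 6, 4, 7, 7, 10, 5, 4, 3, 4, 5, 6, 6, 6, 5, 4, 3, 4, 5, 7, 4, 3, 4, 3, 1, 10, 3, 1, 10], [10, 3, 1, 10], [11, 5, 10, 5], [4, 11, 4, 2, 3, 1, 2, 4, 10, 4, 2, 1, 3, 2, 3, 5, 4, 11, 4, 2, 3, 1, 2, 5, 11], [2, 10, 4, 3, 2, 10, 1, 2, 10, 4, 5, 3, 4, 5, 4, 3, 5, 4, 11, 2, 1, 11, 2, 3, 4, 11, 2, 1, 5, 2, 3, 1, 2, 11, 2, 1, 3, 2, 10], [1, 3, 7, 11, 7, 11, 7, 11], [5, 7, 7, 11, 6, 6, 5, 7, 7, 10, 6, 6], [1, 3,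 7, 11, 6, 10, 7, 11, 6, 10, 7, 11, 6, 10, 7, 11, 6, 10], [4, 7, 7, 10, 6, 6, 4, 7, 7, 10, 6, 6, 4, 7, 7, 10, 6, 6, 4, 7, 7, 10, 5, 4, 3, 4, 5, 6, 6, 6, 5, 4, 3, 4, 5, 7, 4, 3, 4, 3, 1], [1, 9, 10, 4, 7, 5, 6, 4, 11, 8, 7, 7, 10, 4, 3, 4, 11, 6, 4, 5, 7, 5, 4, 9, 10, 4, 7, 5, 6, 4, 11, 8, 1, 4, 5, 6, 5, 4, 7, 10, 4, 3, 4, 11, 6, 6, 1]]
theorem st7 : stepOK rG iv [1, 2, 3, 4, 5, 6, 7] rs6 12 [[1, 3, 7, 11, 7, 11, 7, 11], [10, 6, 10, 6, 10, 6, 3, 1], [5, 7, 7, 11, 6, 6, 5, 7, 7, 10, 6, 6], [7, 7, 11, 6, 6, 5, 7, 7, 10, 6, 6, 5], [1, 3, 7, 11, 6, 10, 7, 11, 6, 10, 7, 11, 6, 10, 7, 11, 6, 10], [11, 7, 10, 6, 11, 7, 10, 6, 11, 7, 10, 6, 11, 7, 10, 6, 3, 1], [4, 7, 7, 10, 6, 6, 4, 7, 7, 10, 6, 6, 4, 7, 7, 10, 6, 6, 4, 7, 7, 10, 5, 4, 3,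 4, 5, 6, 6, 6, 5, 4, 3, 4, 5, 7, 4, 3, 4, 3, 1], [1, 3, 4, 3, 4, 6, 5, 4, 3, 4, 5, 7, 7, 7, 5, 4, 3, 4, 5, 11, 6, 6, 4, 7, 7, 11, 6, 6, 4, 7, 7, 11, 6, 6, 4, 7, 7, 11, 6, 6, 4], [1, 9, 10, 4, 7, 5, 6, 4, 11, 8, 7, 7, 10, 4, 3, 4, 11, 6, 4, 5, 7, 5, 4, 9, 10, 4, 7, 5, 6, 4, 11, 8, 1, 4, 5, 6, 5, 4, 7, 10, 4, 3, 4, 11, 6, 6, 1], [1, 7, 7, 10, 4, 3, 4, 11, 6, 4, 5, 7, 5, 4, 1, 9, 10, 4, 7, 5, 6, 4, 11, 8, 4, 5, 6, 5, 4, 7, 10, 4, 3, 4, 11, 6, 6, 9, 10, 4, 7, 5, 6, 4, 11, 8, 1]]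
    [(12, [(63, 0)]), (13, [(64, 0)]), (14, [(61, 0)]), (15, [(61, 1)]), (16, [(65, 0)]), (17, [(66, 0)]), (18, [(67, 0)]), (19, [(68, 0)]), (20, [(73, 0)]), (21, [(74, 0)])]
    ThZ6.rels ThZ6.iv [(3, 0), (5, 0), (7, 0), (11, 0), (13, 0), (15, 0), (17, 0), (18, 2), (23, 0), (31, 0), (33, 0), (35, 0), (39, 0), (41, 0), (45, 0), (47, 0), (49, 0), (53, 0), (55, 0), (57, 0), (59, 0), (61, 0), (63, 0), (65, 0), (67, 0), (69, 0), (71, 0), (73, 0), (75, 0), (0, 0), (0, 0), (0, 0), (0, 0), (0, 0)]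
    [(0, 0), (0, 0), (0, 0), (0, 0), (0, 0), (0, 0), (0, 0), (0, 0), (0, 0), (0, 0), (0, 0), (0, 0), (0, 0), (0, 0), (0, 0), (0, 0), (0, 0), (0, 0), (0, 0), (0, 0), (0, 0), (0, 0), (1, 0), (1, 0), (1, 0), (1, 0), (1, 0), (1, 0), (1, 0), (1, 0), (1, 0), (1, 0), (1, 0), (1, 0), (1, 0), (1, 0), (1, 0), (1, 0), (1, 0), (1, 0), (1, 0), (1, 0), (1, 0), (1, 0), (1, 0), (1, 0), (1, 0), (1, 0), (1, 0), (1, 0), (1, 0), (1, 0), (1, 0), (1, 0), (1, 0), (1, 0), (1, 0), (1, 0), (1, 0), (1, 0), (1, 0), (1, 0), (1, 0), (1, 0)] [1, 3, 4, 5, 6] [12, 14, 16, 18, 20] rs7 = true := by decide +kernel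
def rs8 : List (List ℕ) := [[10, 3, 1, 10, 1, 3, 7, 11, 7, 11, 7, 11], [8, 8, 8, 11, 9, 10, 9], [9, 1, 8, 1], [9, 2, 8, 2], [9, 3, 8, 3], [9, 4, 8, 4], [9, 5, 8, 5], [9, 6, 8, 7, 7], [9, 7, 8, 6, 6], [1, 2, 1, 2, 1, 2], [1, 5, 1, 5], [2, 3, 2, 3, 2, 3], [2, 4, 2, 4], [2, 5, 2, 5], [1, 4, 3, 4, 3, 4, 3, 4, 3], [3, 5, 3, 5], [4, 5, 4, 5, 4, 5], [2, 3, 4, 5, 2, 3, 4, 5, 2, 3, 4, 5, 2, 3, 4, 5, 2, 3, 4, 5, 2, 3, 4, 5, 2, 3, 4, 5, 2, 3, 4, 5], [6, 6, 6, 6, 6, 6, 6], [7, 1, 6, 1], [7, 2, 6, 2], [7, 3, 6, 3], [6, 4, 6, 4], [5, 7, 5, 7, 7, 5, 6, 6, 6], [1, 4, 3, 5, 4, 3, 6, 5, 6, 4, 5, 7, 3, 4, 5, 2, 4, 3, 4, 7, 5, 6, 4, 3, 4, 2, 3, 4, 5, 4, 3, 5, 4, 3, 6, 5, 4, 7, 5, 7, 3, 4, 5, 3, 4, 1, 4, 3, 2, 4, 3, 4, 7, 5, 6, 4, 3, 4, 2, 3, 4], [11,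 1, 10, 1], [11, 3, 10, 3], [4, 5, 11, 4, 10, 4, 5, 11, 4, 10], [8, 8, 8], [8, 11, 8, 10], [10, 3, 1, 10, 10, 3, 1, 10], [11, 5, 10, 5, 10, 3, 1, 10], [5, 7, 7, 11, 6, 6, 5, 7, 7, 10, 6, 6, 10, 3, 1, 10], [1, 3, 7, 11, 6, 10, 7, 11, 6, 10, 7, 11, 6, 10, 7, 11, 6, 10, 10, 3, 1, 10], [4, 7, 7, 10, 6, 6, 4, 7, 7, 10, 6, 6, 4, 7, 7, 10, 6, 6, 4, 7, 7, 10, 5, 4, 3, 4, 5, 6, 6, 6, 5, 4, 3, 4, 5, 7, 4, 3, 4, 3, 1, 10, 3, 1, 10], [10, 3, 1, 10], [11, 5, 10, 5], [4, 11, 4, 2, 3, 1, 2, 4, 10, 4, 2, 1, 3, 2, 3, 5, 4, 11, 4, 2, 3, 1, 2, 5, 11], [2, 10, 4, 3, 2, 10, 1, 2, 10, 4, 5, 3, 4, 5, 4, 3, 5, 4, 11, 2, 1, 11, 2, 3, 4, 11, 2, 1, 5, 2, 3, 1, 2, 11, 2, 1, 3, 2, 10], [1, 3, 7, 11, 7, 11, 7, 11], [5, 7, 7, 11, 6, 6, 5, 7, 7, 10, 6, 6], [1, 3,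 7, 11, 6, 10, 7, 11, 6, 10, 7, 11, 6, 10, 7, 11, 6, 10], [4, 7, 7, 10, 6, 6, 4, 7, 7, 10, 6, 6, 4, 7, 7, 10, 6, 6, 4, 7, 7, 10, 5, 4, 3, 4, 5, 6, 6, 6, 5, 4, 3, 4, 5, 7, 4, 3, 4, 3, 1], [1, 9, 10, 4, 7, 5, 6, 4, 11, 8, 7, 7, 10, 4, 3, 4, 11, 6, 4, 5, 7, 5, 4, 9, 10, 4, 7, 5, 6, 4, 11, 8, 1, 4, 5, 6, 5, 4, 7, 10, 4, 3, 4, 11, 6, 6, 1], [11, 2, 3, 1, 2, 10, 2, 1, 3, 2, 5]]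
theorem st8 : stepOK rG iv [1, 2, 3, 4, 5, 6, 7] rs7 12 [[11, 2, 3, 1, 2, 10, 2, 1, 3, 2, 5], [5, 2, 3, 1, 2, 11, 2, 1, 3, 2, 10], [2, 10, 4, 3, 2, 10, 1, 2, 10, 4, 5, 3, 4, 1, 4, 3, 5, 4, 3, 6, 5, 6, 4, 5, 7, 3, 11, 2, 1, 11, 2, 3, 4, 11, 2, 1, 9, 10, 4, 7, 5, 6, 4, 11, 8], [9, 10, 4, 7, 5, 6, 4, 11, 8, 1, 2, 10, 4, 3, 2, 10, 1, 2, 10, 3, 6, 5, 4, 7, 5, 7, 3, 4, 5, 3, 4, 1, 4, 3, 5, 4, 11, 2, 1, 11, 2, 3, 4, 11, 2], [2, 10, 4, 3, 2, 10, 1, 2, 10, 4, 5, 2, 4, 3, 4, 7, 5, 6, 4, 3, 4, 2, 5, 4, 11, 2, 1, 11, 2, 3, 4, 11, 2, 7, 7, 10, 4, 3, 4, 11, 6, 4, 5, 7, 5, 4], [4, 5, 6, 5, 4, 7, 10, 4, 3, 4, 11, 6, 6, 2, 10, 4, 3, 2, 10, 1, 2, 10, 4, 5, 2, 4, 3, 4, 7, 5, 6, 4, 3, 4, 2, 5, 4, 11, 2, 1, 11, 2, 3, 4, 11, 2], [4, 3, 5, 4, 11, 2, 1,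 11, 2, 3, 4, 11, 2], [2, 10, 4, 3, 2, 10, 1, 2, 10, 4, 5, 3, 4], [1, 4, 3, 5, 4, 3, 6, 5, 6, 4, 5, 7, 3, 4, 5, 3, 4], [4, 3, 5, 4, 3, 6, 5, 4, 7, 5, 7, 3, 4, 5, 3, 4, 1], [4, 3, 2, 4, 3, 4, 7, 5, 6, 4, 3, 4, 2, 3, 4], [4, 3, 2, 4, 3, 4, 7, 5, 6, 4, 3, 4, 2, 3, 4], [9, 10, 4, 7, 5, 6, 4, 11, 8, 1], [1, 9, 10, 4, 7, 5, 6, 4, 11, 8], [4, 5, 6, 5, 4, 7, 10, 4, 3, 4, 11, 6, 6], [7, 7, 10, 4, 3, 4, 11, 6, 4, 5, 7, 5, 4]]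
    [(12, [(55, 0)]), (13, [(56, 0)]), (14, [(75, 0)]), (15, [(76, 0)]), (16, [(77, 0)]), (17, [(78, 0)])]
    ThZ7.rels ThZ7.iv [(0, 0), (0, 0), (0, 0), (0, 0), (0, 0), (0, 0), (0, 0), (0, 0), (0, 0), (0, 0), (0, 0), (0, 0), (0, 0), (0, 0), (0, 0), (0, 0), (0, 0), (0, 0), (0, 0), (0, 0), (0, 0), (0, 0), (0, 0), (0, 0), (0, 0), (0, 0), (0, 0), (0, 0), (0, 0), (51, 0), (0, 0), (0, 0), (89, 0), (79, 0)]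
    [(0, 0), (0, 0), (0, 0), (0, 0), (0, 0), (0, 0), (0, 0), (0, 0), (0, 0), (0, 0), (0, 0), (0, 0), (0, 0), (0, 0), (0, 0), (0, 0), (0, 0), (0, 0), (0, 0), (0, 0), (0, 0), (0, 0), (0, 0), (0, 0), (0, 0), (0, 0), (0, 0), (0, 0), (1, 0), (1, 0), (1, 0), (1, 0), (1, 0), (1, 0), (1, 0), (1, 0), (1, 0), (1, 0), (1, 0), (1, 0), (1, 0), (1, 0), (1, 0), (1, 0), (1, 0), (1, 0), (1, 0), (1, 0), (1, 0), (1, 0), (1, 0), (1, 0), (1, 0), (1, 0), (1, 0), (1, 0), (1, 0), (1, 0), (1, 0), (1, 0), (1, 0), (1, 0), (1, 0), (1, 0)] [] [12] rs8 = true := by decide +kernel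

theorem K_eq : clL el [1, 2, 3, 4, 5, 6, 7] = ThS.K :=
  congrArg Subgroup.closure (Set.image_congr fun x hx => el_eq x ((by decide : ∀ x ∈ ThS.gK, x < 12) x hx))

theorem ub : UB Spor.Th [] := by
  refine UB.of_split (el := el) (gens := [1, 2, 3, 4, 5, 6, 8, 10]) (fun K h => ThP.eq_top K fun x hx =>
    el_eq x ((by decide : ∀ x ∈ [1, 2, 3, 4, 5, 6, 8, 10], x < 12) x hx) ▸ h x hx) fun Γ _ _ σ hσ => ?_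
  obtain ⟨L, e, h⟩ := Lf.start hσ RG (gK := [1, 2, 3, 4, 5, 6, 7]) (K_eq) (D4.hK.1) (D4.hK.2) (rs := rs1) (by decide +kernel)
  have h : Lf σ el L [1, 2, 3, 4, 5, 6, 7] iv e rs2 := h.conj RG (z := 9) (us := [([1], [1], [(33, 0)]), ([2], [2], [(35, 0)]), ([3], [3], [(37, 0)]), ([4], [4], [(39, 0)]), ([5], [5], [(41, 0)]), ([6], [7, 7], [(43, 0)]), ([7], [6, 6], [(44, 2)])]) (by decide +kernel)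
  obtain ⟨e, h⟩ : ∃ e, Lf σ el L [1, 2, 3, 4, 5, 6, 7] iv e rs3 := h.norm RG (χ := [0, 0, 0, 0, 0, 0, 0, 0, 1, -1, 0, 0]) (w := [8, 8, 8, 11, 9, 10, 9]) (wit := [(31, 0), (60, 1)]) (by decide +kernel)
  obtain ⟨e, h⟩ : ∃ e, Lf σ el L [1, 2, 3, 4, 5, 6, 7] iv e rs4 := h.norm RG (χ := [0, 0, 0, 0, 0, 0, 0, 0, 0, 0, -1, 1]) (w := [10, 3, 1, 10, 1, 3, 7, 11, 7, 11, 7, 11]) (wit := [(45, 1), (63, 0)]) (by decide +kernel)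
  have h : Lf σ el L [1, 2, 3, 4, 5, 6, 7] iv e rs5 := h.step RG st5 fun _ Q hf => (forall_cons (ThZ4.goal20 Q _ hf) (forall_cons (ThZ4.goal22 Q _ hf) (forall_cons (ThZ4.goal26 Q _ hf) (forall_cons (ThZ4.goal16 Q _ hf) (forall_cons (ThZ4.goal18 Q _ hf) (forall_cons (ThZ4.goal34 Q _ hf) (forall_cons (ThZ4.goal36 Q _ hf) (forall_cons (ThZ4.goal38 Q _ hf) (forall_cons (ThZ4.goal40 Q _ hf) (forall_cons (ThZ4.goal42 Q _ hf) (forall_nil _)))))))))))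
  have h : Lf σ el L [1, 2, 3, 4, 5, 6, 7] iv e rs6 := h.step RG st6 fun _ Q hf => (forall_cons (ThZ5.goal14 Q _ hf) (forall_cons (ThZ5.goal12 Q _ hf) (forall_cons (ThZ5.goal18 Q _ hf) (forall_cons (ThZ5.goal20 Q _ hf) (forall_nil _)))))
  have h : Lf σ el L [1, 2, 3, 4, 5, 6, 7] iv e rs7 := h.step RG st7 fun _ Q hf => (forall_cons (ThZ6.goal12 Q _ hf) (forall_cons (ThZ6.goal14 Q _ hf) (forall_cons (ThZ6.goal16 Q _ hf) (forall_cons (ThZ6.goal18 Q _ hf) (forall_cons (ThZ6.goal20 Q _ hf) (forall_nil _))))))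
  have h : Lf σ el L [1, 2, 3, 4, 5, 6, 7] iv e rs8 := h.step RG st8 fun _ Q hf => (forall_cons (ThZ7.goal12 Q _ hf) (forall_nil _))
  obtain ⟨φ, hφ⟩ := pres_range Spor.Th.edges Spor.Th.extra (defs := []) (code := ThP.code) h.rule
    (fun g => (ThP.hc g).2) (wit := [([], 0, 0), ([], 0, 0), ([], 0, 0), ([], 0, 0), ([], 0, 0), ([], 19, 0), ([], 21, 0), ([], 23, 0), ([], 25, 0), ([], 27, 0), ([], 29, 0), ([], 31, 0), ([], 33, 0), ([], 35, 0), ([], 37, 0), ([], 39, 0), ([], 41, 0), ([], 43, 0), ([], 45, 0), ([], 47, 0), ([], 57, 0), ([], 5, 0), ([], 7, 0), ([], 9, 0), ([], 11, 0), ([], 13, 0), ([], 15, 0), ([], 71, 3), ([], 51, 0), ([], 53, 0), ([], 73, 0), ([], 55, 0), ([], 89, 0), ([], 75, 0), ([], 59, 1), ([], 81, 0), ([], 79, 0),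 ([], 83, 0), ([], 85, 0)]) (by decide +kernel)
    (gens := [1, 2, 3, 4, 5, 6, 8, 10]) (L := [Spor.Th.a, Spor.Th.b, Spor.Th.c, Spor.Th.d, Spor.Th.e, Spor.Th.s, Spor.Th.t,
      Spor.Th.u]) (by decide +kernel)
  exact ⟨e, φ, h.lift, hφ⟩

end Cfsg.Agent.H63.Th
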