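/-
Bounds for the Schur multiplier of Co2 (generated certificates).
-/
import Cfsg.Agent.H63.Leech3

set_option autoImplicit false
set_option maxRecDepth 100000

namespace Cfsg.Agent.H63.Le

open H14

def co2p2Tab : ℕ := nat_lit 0x300850072d59d44e37508ec47674023c00c691a5304684011900c580133000bc0028000acfc9563bd042bb0da4d0a9c3bba11eff0082803100020c00f3000540025000e400030001000019bb8e694130f240207d64e34d86d60ac741000420193200138151f054ac000a00030000200007224b40205b3f8100f90944408d0445142238129c000ec008d0015800a8001e400070000c0001005211000220004400090f4100b021e4040700c0001040030000450008c00180002400060000800010000000e72080040bf08ad4106d022000467008e4012000208004500098001000030000500008000100000000000d00562e0d4ec11f5025b005c4008740110002d4004d0008000120003c00050000c000100000000000000002a0d858102c022e4042c00818012c002140043000980016000380004000080001000000000000000000058f0112802610052800818012c002c4004d00098001600038000400008000100000000000000000000000002a021100404008b80100002180043000880016000280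0040000800010000000000000000000000000000018c044f00850010d0020c00410008400150002c000500008000100000000000000000000000000000000002e008b80100002040040000880016000280004000080001000000000000000000000000000000000000000000100002180044000800010000200004000080001000000000000000000000000000000000000000000000002100042000800010000200004000080001000000000000000000000000000000000000000000000000000041000840011000240004000080001000000000000000000000000000000000000000000000000000001000800011000200004000080001000000000000000000000000000000000000000000000000000000000000010000200004000080001000000000000000000000000000000000000000000000000000000000000000000200004000080001000000000000000000000000000000000000000000000000000000000000000000000004000080001000000000000000000000000000000000000000000000000000000000000000000000000000080001000000000000000000000000000000000000000000000000000000000000000000000000000000001000000000000000000000000000000000000000000000000000000000000000000000000000000000000000000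
def co2p2QT : ℕ := nat_lit 0x2080042000400008000100001000020000400008000100002000040000800010000200005000020000400008000100002000040000800010000200004000080001000020000400008000180001200028000600004000080001000020000400008000100002000040000800010000200006200040000a000100001000020000400008000100002000040000800010000200004000080001000000000000000000000000000000000000000000000000000000000000000000000000000000000000000000000000000000000000000000000000000000000000000000000000000000000000000000000000000000000000000000000000000000000000000000000000000000000000000000000000000000000000000000000000000000000000000000000000000000000000000000000000000000000000000000000000000000000000000000000000000000000000000000000000000000000000000000000000000000000000000000000000000000000000000000000000000000000000000000000000000000000000000000000000000000000000000000000000000000000000000000000000000000000000000000000000000000000000000000000000000000000000000000000000000000000000000000000000000000000000000000000000000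000000000000000000000000000000000000000000000000000000000000000000000000000000000000000000000000000000000000000000000000000000000000000000000000000000000000000000000000000000000000000000000000000000000000000000000000000000000000000000000000000000000000000000000000000000000000000000000000000000000000000000000000000000000000000000000000000000000000000000000000000000000000000000000000000000000000000000000000000000000000000000000000000000000000000000000000000000000000000000000000000000000000000000000000000000000000000000000000000000000000000000000000000000000000000000000000000000000000000000000000000000000000000000000000000000000000000000000000000000000000000000000000000000000000000000000000000000000000000000000000000000000000000000000000000000000000000000000000000000000000000000000000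
def co2p2GT : ℕ := nat_lit 0x150005400150005400150005400150005400150005400150005400150005400150005400140005000140005000140005000140005000140005000140005000140005000140005000140004c00130004c00130004c00130004c00130004c00130004c00130004c00130004c00130004c0012000480012000480012000480012000480012000480012000480012000480012000480012000000000000000000000000000000000000000000000000000000000000000000000000000000000000000000000000000000000000000000000000000000000000000000000000000000000000000000000000000000000000000000000000000000000000000000000000000000000000000000000000000000000000000000000000000000000000000000000000000000000000000000000000000000000000000000000000000000000000000000000000000000000000000000000000000000000000000000000000000000000000000000000000000000000000000000000000000000000000000000000000000000000000000000000000000000000000000000000000000000000000000000000000000000000000000000000000000000000000000000000000000000000000000000000000000000000000000000000000000000000000000000000000000000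000000000000000000000000000000000000000000000000000000000000000000000000000000000000000000000000000000000000000000000000000000000000000000000000000000000000000000000000000000000000000000000000000000000000000000000000000000000000000000000000000000000000000000000000000000000000000000000000000000000000000000000000000000000000000000000000000000000000000000000000000000000000000000000000000000000000000000000000000000000000000000000000000000000000000000000000000000000000000000000000000000000000000000000000000000000000000000000000000000000000000000000000000000000000000000000000000000000000000000000000000000000000000000000000000000000000000000000000000000000000000000000000000000000000000000000000000000000000000000000000000000000000000000000000000000000000000000000000000000000000000000000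
def co2p2As : List ℕ := [nat_lit 0x20000200004000, nat_lit 0x20000200002000, nat_lit 0x8000200004000, nat_lit 0x20000080002000, nat_lit 0x10000080002000, nat_lit 0x20000400008000, nat_lit 0x10000400002000, nat_lit 0x20000400004000, nat_lit 0x8000100004000, nat_lit 0x10000080000800, nat_lit 0x20000400000800, nat_lit 0x20000200008000, nat_lit 0x8000200000400, nat_lit 0x20000800008000, nat_lit 0x20000200000400, nat_lit 0x10000400008000, nat_lit 0x20000400010000, nat_lit 0x2000020000800, nat_lit 0x8000020000800, nat_lit 0x20000080000200, nat_lit 0x10000400000400, nat_lit 0x20000800010000, nat_lit 0x20000200000080, nat_lit 0x4000020000200, nat_lit 0x4000100000800, nat_lit 0x20000800004000, nat_lit 0x20000400000200, nat_lit 0x2000020000100, nat_lit 0x20000200000200, nat_lit 0x2000080002000, nat_lit 0x2000080000200, nat_lit 0x10000200008000, nat_lit 0x2000020000200, nat_lit 0x20000100001000, nat_lit 0x20000100000200, nat_lit 0x10000020000800, nat_lit 0x2000080000010, nat_lit 0x20000100004000, nat_lit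 0x8000200000080, nat_lit 0x2000040001000, nat_lit 0x10000400000100, nat_lit 0x10000400010000, nat_lit 0x10000020000100, nat_lit 0x800020000200, nat_lit 0x20000200000100, nat_lit 0x20000200000010, nat_lit 0x20000200000008, nat_lit 0x20000800001000, nat_lit 0x20000400000080, nat_lit 0x20000100000080, nat_lit 0x2000010000010, nat_lit 0x20000100000010, nat_lit 0x8000200008000, nat_lit 0x20000400000040, nat_lit 0x2000010000008, nat_lit 0x20000800000080, nat_lit 0x20000008000080, nat_lit 0x20000100000008, nat_lit 0x20000800000400, nat_lit 0x20000100000040, nat_lit 0x20000400000100, nat_lit 0x10000020000040, nat_lit 0x20000400000008, nat_lit 0x400010000080, nat_lit 0x20000400000010, nat_lit 0x20000200000004, nat_lit 0x20000002000010, nat_lit 0x10000200000020, nat_lit 0x10000020000010, nat_lit 0x20000200000020, nat_lit 0x2000002000080, nat_lit 0x2000001000040, nat_lit 0x20000800000100, nat_lit 0x10000200000100, nat_lit 0x4000100000200, nat_lit 0x20000800000010, nat_lit 0x8000200000100, nat_lit 0x4000100000008,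 nat_lit 0x8000200000010, nat_lit 0x4000100004000, nat_lit 0x800020000800, nat_lit 0x800004000100, nat_lit 0x400010000400, nat_lit 0x20000800020000, nat_lit 0x1000004000080, nat_lit 0x400010000040, nat_lit 0x20000800000004, nat_lit 0x8000200000002, nat_lit 0x20000800000008, nat_lit 0x20000200000002, nat_lit 0x20000100000004, nat_lit 0x20000008000010, nat_lit 0x20000004000010, nat_lit 0x20000001000040, nat_lit 0x10000200000010, nat_lit 0x10000001000040, nat_lit 0x4000001000040, nat_lit 0x1000040000008, nat_lit 0x1000040001000, nat_lit 0x400004000080, nat_lit 0x8000200000020, nat_lit 0x1000040000100, nat_lit 0x800008000200, nat_lit 0x200001000040, nat_lit 0x20000400000002, nat_lit 0x20000400000001, nat_lit 0x20000008000001, nat_lit 0x10000200000001, nat_lit 0x8000004000020, nat_lit 0x200001000020, nat_lit 0x200001000008, nat_lit 0x20000002000080, nat_lit 0x10000000400008, nat_lit 0x800001000040, nat_lit 0x400004000040, nat_lit 0x400004000008, nat_lit 0x400001000008, nat_lit 0x200008000080, nat_lit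 0x20000008000200, nat_lit 0x20000000400010, nat_lit 0x20000000100004, nat_lit 0x10000004000100, nat_lit 0x10000002000080, nat_lit 0x10000000200008, nat_lit 0x8000004000100, nat_lit 0x8000000400010, nat_lit 0x400000800020, nat_lit 0x400000200008, nat_lit 0x100002000080, nat_lit 0x80000200008, nat_lit 0x40000400010, nat_lit 0x400001000040, nat_lit 0x40001000020, nat_lit 0x40001000008, nat_lit 0x40001000004, nat_lit 0x40001000002, nat_lit 0x200008000040, nat_lit 0x100004000080, nat_lit 0x100004000040, nat_lit 0x80002000008, nat_lit 0x40001000040]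
def co2p2Fs : List (ℕ × List ℕ × List ℕ) := [(nat_lit 21, [nat_lit 389, nat_lit 389], [nat_lit 388, nat_lit 387, nat_lit 386, nat_lit 382, nat_lit 381, nat_lit 380, nat_lit 379]), (nat_lit 21, [nat_lit 388, nat_lit 389], [nat_lit 389, nat_lit 388, nat_lit 385, nat_lit 382, nat_lit 380]), (nat_lit 21, [nat_lit 391, nat_lit 392], [nat_lit 392, nat_lit 391, nat_lit 388, nat_lit 384, nat_lit 383, nat_lit 382, nat_lit 381, nat_lit 380, nat_lit 378, nat_lit 377]), (nat_lit 21, [nat_lit 389, nat_lit 391], [nat_lit 391, nat_lit 389, nat_lit 386, nat_lit 385, nat_lit 382]), (nat_lit 21, [nat_lit 392, nat_lit 392], [nat_lit 385, nat_lit 383, nat_lit 381, nat_lit 379, nat_lit 377]), (nat_lit 21, [nat_lit 386, nat_lit 392], [nat_lit 392, nat_lit 386, nat_lit 385, nat_lit 381, nat_lit 380, nat_lit 377]), (nat_lit 21, [nat_lit 385, nat_lit 391], [nat_lit 391, nat_lit 385, nat_lit 382, nat_lit 380, nat_lit 379]), (nat_lit 21, [nat_lit 385, nat_lit 392], [nat_lit 392, nat_lit 385, nat_lit 380]), (nat_lit 21,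 [nat_lit 383, nat_lit 386], [nat_lit 386, nat_lit 383, nat_lit 379]), (nat_lit 21, [nat_lit 382, nat_lit 392], [nat_lit 392, nat_lit 382, nat_lit 378]), (nat_lit 21, [nat_lit 383, nat_lit 383], [nat_lit 377]), (nat_lit 21, [nat_lit 382, nat_lit 382], []), (nat_lit 20, [nat_lit 371, nat_lit 371], [nat_lit 366, nat_lit 365, nat_lit 361, nat_lit 360]), (nat_lit 20, [nat_lit 372, nat_lit 376], [nat_lit 376, nat_lit 372, nat_lit 366, nat_lit 365, nat_lit 363, nat_lit 362, nat_lit 360]), (nat_lit 20, [nat_lit 375, nat_lit 375], [nat_lit 369, nat_lit 368, nat_lit 366]), (nat_lit 20, [nat_lit 372, nat_lit 373], [nat_lit 373, nat_lit 372, nat_lit 368, nat_lit 365, nat_lit 363]), (nat_lit 20, [nat_lit 369, nat_lit 371], [nat_lit 371, nat_lit 369, nat_lit 364, nat_lit 362]), (nat_lit 20, [nat_lit 369, nat_lit 372], [nat_lit 372, nat_lit 369, nat_lit 365, nat_lit 363, nat_lit 362, nat_lit 361]), (nat_lit 20, [nat_lit 374, nat_lit 374], [nat_lit 365, nat_lit 363, nat_lit 361]), (nat_lit 20, [nat_lit 367,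 nat_lit 373], [nat_lit 373, nat_lit 367, nat_lit 365, nat_lit 364, nat_lit 360]), (nat_lit 20, [nat_lit 367, nat_lit 369], [nat_lit 369, nat_lit 367, nat_lit 362, nat_lit 361]), (nat_lit 20, [nat_lit 367, nat_lit 368], [nat_lit 368, nat_lit 367, nat_lit 362]), (nat_lit 20, [nat_lit 364, nat_lit 367], [nat_lit 367, nat_lit 364, nat_lit 360]), (nat_lit 20, [nat_lit 368, nat_lit 368], []), (nat_lit 19, [nat_lit 357, nat_lit 359], [nat_lit 359, nat_lit 357, nat_lit 354, nat_lit 353, nat_lit 351, nat_lit 350, nat_lit 348, nat_lit 347, nat_lit 346]), (nat_lit 19, [nat_lit 358, nat_lit 358], [nat_lit 355, nat_lit 353, nat_lit 349, nat_lit 347, nat_lit 346, nat_lit 345]), (nat_lit 19, [nat_lit 354, nat_lit 357], [nat_lit 357, nat_lit 354, nat_lit 350, nat_lit 349, nat_lit 346, nat_lit 345, nat_lit 343]), (nat_lit 19, [nat_lit 352, nat_lit 353], [nat_lit 353, nat_lit 352, nat_lit 348, nat_lit 346, nat_lit 345, nat_lit 344]), (nat_lit 19, [nat_lit 357, nat_lit 357], [nat_lit 349, nat_lit 348, nat_lit 346,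 nat_lit 344, nat_lit 343]), (nat_lit 19, [nat_lit 355, nat_lit 355], [nat_lit 348, nat_lit 346, nat_lit 344]), (nat_lit 19, [nat_lit 350, nat_lit 359], [nat_lit 359, nat_lit 350, nat_lit 349]), (nat_lit 19, [nat_lit 356, nat_lit 359], [nat_lit 359, nat_lit 356, nat_lit 351, nat_lit 348, nat_lit 347, nat_lit 346, nat_lit 344, nat_lit 343]), (nat_lit 19, [nat_lit 350, nat_lit 356], [nat_lit 356, nat_lit 350, nat_lit 348, nat_lit 347, nat_lit 345]), (nat_lit 19, [nat_lit 356, nat_lit 356], []), (nat_lit 19, [nat_lit 353, nat_lit 356], [nat_lit 356, nat_lit 353, nat_lit 351, nat_lit 345]), (nat_lit 19, [nat_lit 350, nat_lit 350], []), (nat_lit 19, [nat_lit 347, nat_lit 347], []), (nat_lit 19, [nat_lit 349, nat_lit 356], [nat_lit 356, nat_lit 349, nat_lit 346, nat_lit 345, nat_lit 344]), (nat_lit 19, [nat_lit 350, nat_lit 351], [nat_lit 351, nat_lit 350, nat_lit 345]), (nat_lit 19, [nat_lit 349, nat_lit 351], [nat_lit 351, nat_lit 349, nat_lit 344]), (nat_lit 19, [nat_lit 349, nat_lit 349], [nat_lit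 343]), (nat_lit 18, [nat_lit 336, nat_lit 340], [nat_lit 340, nat_lit 336, nat_lit 333, nat_lit 332, nat_lit 331, nat_lit 330, nat_lit 329, nat_lit 328, nat_lit 326]), (nat_lit 18, [nat_lit 335, nat_lit 340], [nat_lit 340, nat_lit 335, nat_lit 330, nat_lit 329, nat_lit 327, nat_lit 326]), (nat_lit 18, [nat_lit 338, nat_lit 342], [nat_lit 342, nat_lit 338, nat_lit 334, nat_lit 331, nat_lit 328, nat_lit 326]), (nat_lit 18, [nat_lit 336, nat_lit 342], [nat_lit 342, nat_lit 336, nat_lit 334, nat_lit 331, nat_lit 329, nat_lit 328, nat_lit 327, nat_lit 326]), (nat_lit 18, [nat_lit 337, nat_lit 339], [nat_lit 339, nat_lit 337, nat_lit 333, nat_lit 331, nat_lit 330, nat_lit 329, nat_lit 326]), (nat_lit 18, [nat_lit 335, nat_lit 339], [nat_lit 339, nat_lit 335, nat_lit 328, nat_lit 327]), (nat_lit 18, [nat_lit 336, nat_lit 336], [nat_lit 331, nat_lit 329, nat_lit 328, nat_lit 327]), (nat_lit 18, [nat_lit 335, nat_lit 335], []), (nat_lit 18, [nat_lit 337, nat_lit 337], [nat_lit 332, nat_lit 331, nat_lit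 327, nat_lit 326]), (nat_lit 18, [nat_lit 334, nat_lit 341], [nat_lit 341, nat_lit 334, nat_lit 331]), (nat_lit 18, [nat_lit 341, nat_lit 341], [nat_lit 333, nat_lit 332, nat_lit 331, nat_lit 328, nat_lit 327, nat_lit 326]), (nat_lit 18, [nat_lit 339, nat_lit 339], [nat_lit 331, nat_lit 329, nat_lit 327]), (nat_lit 18, [nat_lit 334, nat_lit 334], []), (nat_lit 18, [nat_lit 328, nat_lit 342], [nat_lit 342, nat_lit 328, nat_lit 327]), (nat_lit 18, [nat_lit 332, nat_lit 341], [nat_lit 341, nat_lit 332, nat_lit 328, nat_lit 326]), (nat_lit 18, [nat_lit 332, nat_lit 332], [nat_lit 326])]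
def co2p2Mc : List ℕ := [nat_lit 0, nat_lit 0, nat_lit 0, nat_lit 0, nat_lit 0, nat_lit 0x6360090000000000000000000000000000000000000000000000000000000000000000000000000000000000000000000, nat_lit 0x2f20080018000000000000000000000000000000000000000000000000000000000000000000000000000000000000000, nat_lit 0x6270090028000000000000000000000000000000000000000000000000000000000000000000000000000000000000000, nat_lit 0x5570000000000000000000000000000000000000000000000000000000000000000000000000000000000000000000000, nat_lit 0x5d10080000000000000000000000000000000000000000000000000000000000000000000000000000000000000000000, nat_lit 0x5c10010000000000000000000000000000000000000000000000000000000000000000000000000000000000000000000, nat_lit 0x6040080000000000000000000000000000000000000000000000000000000000000000000000000000000000000000000, nat_lit 0x10080000000000000000000000000000000000000000000000000000000000000000000000000000000000000000000, nat_lit 0x5d70080000000000000000000000000000000000000000000000000000000000000000000000000000000000000000000,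 nat_lit 0x140080000000000000000000000000000000000000000000000000000000000000000000000000000000000000000000, nat_lit 0x4c20080000000000000000000000000000000000000000000000000000000000000000000000000000000000000000000, nat_lit 0x140000000000000000000000000000000000000000000000000000000000000000000000000000000000000000000000, nat_lit 0x30000000000000000000000000000000000000000000000000000000000000000000000000000000000000000000000]
def co2p2Uc : List (ℕ × ℕ × ℕ) := []
def co2p2Cs : List (List ℕ) := [[nat_lit 0x110000000000000000], [nat_lit 0x4000000000000000, nat_lit 0x400000800000000000000], [nat_lit 0x8000000000000000, nat_lit 0x420000800000000000000, nat_lit 0x8004000000000000000000], [nat_lit 0x10000000000000000, nat_lit 0x400400800000000000000, nat_lit 0x8000000000000000000000, nat_lit 0x100200082000109000000000000000], [nat_lit 0x190000000000000000, nat_lit 0x401000800000000000000, nat_lit 0x2000000000000000000000, nat_lit 0x100200082040109000000000000000, nat_lit 0x901271320232600aa00000000000000],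 [nat_lit 0x20000000000000000, nat_lit 0x400800800000000000000, nat_lit 0x10000000000000000000000, nat_lit 0x10200000400000000000000000, nat_lit 0x20000000000000000000000, nat_lit 0x20100a410000000000000000000], [nat_lit 0x200000000000000, nat_lit 0x200000000000000000000, nat_lit 0x448004000000000000000000, nat_lit 0x230044a000008200000000000000, nat_lit 0x800804161551b8614082cf0eb85f201a00000000000, nat_lit 0x12300002204008200000000000000, nat_lit 0x800804160451b060448e814edb45e01a00000000000], [nat_lit 0x110400000000000000, nat_lit 0x408000800000000000000, nat_lit 0x8004200000000000000000, nat_lit 0x8008041615d1b8636082c50eb85f201a00000000000, nat_lit 0x8008041611d9287131a0e53d1b35401a00000000000, nat_lit 0x8008041611d1b8636082cd4e7a0fa01a00000000000, nat_lit 0x800804160451b060448e854eda55c01a00000000000, nat_lit 0x90108244804b830d3b23839bc790efc1c200000000000000], [nat_lit 0x80000000000000000000000, nat_lit 0x400000000000000000000, nat_lit 0x8004001000000000000000, nat_lit 0x20000a000000000000000000000,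 nat_lit 0x901271320232400aa00000000000000, nat_lit 0x20100a400000000000000000000, nat_lit 0x80006002247ad10f1414a2574651805200000000000, nat_lit 0xdf28d7f9d3618c14a275c66ca1dce6005a055aec400000507, nat_lit 0x1080452090000200000000000], [nat_lit 0x40000000000000000000000, nat_lit 0x120002000000000000000, nat_lit 0x8004002000000000000000, nat_lit 0x901211320832400aa00000000000000, nat_lit 0x9012713a00326008a00000000000000, nat_lit 0x12103008604008200000000000000, nat_lit 0xdf28d7f9d3618e14a075ce4ca59e84045b055aec400000507, nat_lit 0xdf0cdff599cd3dab028753679ef3f9deed6508ec400000507, nat_lit 0x10804d2090000200000000000, nat_lit 0x9012712a807f6098a00200200000000], [nat_lit 0x40000000000000000, nat_lit 0x800000000000000000000, nat_lit 0x4080000008000000000000000, nat_lit 0x800060032478d107365068b50304205200000000000, nat_lit 0xdf28d779f3810e3a623cdc3c945db262130508ec400000507, nat_lit 0x800060032478d1873610e835070c205200000000000, nat_lit 0x40001008930200204001000000000000000, nat_lit 0x925a82842e80ccbf25878e3c521e2bff1401a00000000000,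 nat_lit 0x1c00010088146c8c00155800000000000000, nat_lit 0xdf0cdffd9129ab9419e69046ddbd7fd19a2552ec400000507, nat_lit 0xdf0c57f4fb0fea50134e00496d111cbe18a550ec60010050f], [nat_lit 0x1000110200000000000000, nat_lit 0x1100441000008000000000000000, nat_lit 0x800804161451b060408acc4e985d801a00000000000, nat_lit 0x86c1430296162749a25699b1f204800000000000, nat_lit 0xdf28d779db259800f155ae6d2d0ac8bd168540ec400000507, nat_lit 0x800804161541b064508e8c3c9853a01a00000000000, nat_lit 0x800804161541b265408acc3c987b801a00000000000, nat_lit 0x24808c4a8cb78af1b3cc1e1544094ef4404800000000000, nat_lit 0x98308a400eabe2342036f583b7870f0afc51000000000000, nat_lit 0x6fa55b56b7bbf7a0f4874656219d4956fe4a7a0c800000000, nat_lit 0x9f078e2558e466cf9ad57db78d3c96af5f57f6ec400000507, nat_lit 0x49825974c9edf559bbe03fe090975e177d52f400200200008], [nat_lit 0x100000000000000000000000, nat_lit 0x200000000000000000000000, nat_lit 0x20000008024001800000000000000, nat_lit 0x800060022c78d12f3011e8174344a05200000000000, nat_lit 0xdf28d779d3818e3a623cdc3c9c5db242110508ec400000507,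 nat_lit 0x800060022c78d12f3093e8174744a05200000000000, nat_lit 0x864043581f97e15b10d6a5a70a04800000000000, nat_lit 0xd60d5fd19bef85bf7bcc793794ceff07ac8508ec400000507, nat_lit 0x4100ca8412a2410a205e165200000000000000, nat_lit 0xdf0cdff591292b94197610668505e8b990a552ec400000507, nat_lit 0xdf28d7f8f3e55c3e1aec73af0437876d2e855aec400000507, nat_lit 0x4924d9f8892946f69978bc9323a728bacd57ee00000000000, nat_lit 0x24800c08eea7a2a163c3328c5e2932f8200800200000008], [nat_lit 0x40102100080000009000000000000000, nat_lit 0x80000000021429ac24409800000000000000, nat_lit 0x88000091127030ba740502200000000000000, nat_lit 0xdf28d739d30906344e3cd3299f54c5606a8508ec400000507, nat_lit 0xdf0cdff799cdb5ae8a1e4307a221c1b817650aec400000507, nat_lit 0xdf28d739d70d1e38e67cf92d5d6404a49fa50aec400000507, nat_lit 0xa7804c0e0a3da171bac66eb0e91e1b6bc51000000000000, nat_lit 0x6e0353dafcdd5439e63cfa68335766da834f320c800000000, nat_lit 0xdf0c9f7d9149a87061b61ff3d345f9b795a500ec400000507, nat_lit 0xf80efd3fec17aaa4914bc16459f68af0a7650ae0e00000507,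 nat_lit 0xf9a83d29e8159f00b349e84b9651c05db38f4ae0c0000050f, nat_lit 0x19eabb56cb8f34e6c716f18c6fb607f0e002528854000049ef, nat_lit 0xdeaa1ff199cb11c600dcdadc8b543afc300f4aec60000050f, nat_lit 0x309ae07bb7bb5507d3346264d20c2ad889b2d280caa5863644], [nat_lit 0x20000600114a00000000000000, nat_lit 0x804080800008000000000000000, nat_lit 0x1000814288c24008800000000000000, nat_lit 0xdf28d779f3814f3a623cdc3ed4d51223472508ec400000507, nat_lit 0xdf0cdbf599cd3dae8a0e51d7cae32cbd1e4508ec400000507, nat_lit 0xdf28d779f3814f3a6238dcbe9455d0674fa508ec400000507, nat_lit 0x925a8a842890eaf8a997f54930915bda9e04800000000000, nat_lit 0xd60dd1d1d9a591aee8d10d39a62fddaa8de540ec400000507, nat_lit 0xdf0cdf7d1149a87061261ff2c99deb979e2500ec400000507, nat_lit 0xd60ddd7593a5b794317776ae7b58724f8ea508e0c00000507, nat_lit 0xdf0c5774eb6bf8546b9faf58edeb8ab5408502ec60010050f, nat_lit 0x24882629d610eddab6b4aad22fb0079c021200269200004ce8, nat_lit 0xd40d55fce95fe1b7b09a33c16f69f786498500e0c0000050f, nat_lit 0x309ae27224636053df0bb49c99fe0d43b5ecd220c8a506345f,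 nat_lit 0x208119835480c3edd554d2205c92e0400a0020010021b], [nat_lit 0x4000000720112000000000000000, nat_lit 0x800804161551b061408acd4e985da01a00000000000, nat_lit 0x800804161511b07350bacd3c9941801a00000000000, nat_lit 0xdf28d7f9db5d9a248984a45939aaaffb518512ec400000507, nat_lit 0x80006002247a611d6536206806cba05000000000000, nat_lit 0x24088c42ccb38a9a038d2b1f7526bbc9a00200000000000, nat_lit 0x9a78028422e0db8da03fb6730481029e6051000000000000, nat_lit 0xb02f0c072cb0e81c14d01f0820aeaefb582a68e0c00000507, nat_lit 0xb08d8c8f64b279b4142a975bbed8cb73b06f20e0c00000507, nat_lit 0xb92a0ca7269c540cce296e2c8e12df3ac76a30e0c00000507, nat_lit 0x1828a4d0824c9fbe370b88999ccb74852b79e69000104ce8, nat_lit 0xf9e9d5f3e5710940173009c53065e78ac0d8a6e0c0020050f, nat_lit 0xe7a4533b5540149eb65c7a91d02f35240938ae69200004ce8, nat_lit 0x2b4905109fe0346cb96378dd570aa5159a2c05800292eeb996, nat_lit 0x12524961986277f87ac972af69422dfb3c78258e0ca506b896, nat_lit 0x99dfe7bdef77e82333045535563cb5f6851ad596437484de8], [nat_lit 0x40440000118200000000000000,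 nat_lit 0x9012793a0020600aa00000000000000, nat_lit 0x8008041611f9287135a4ad3d5935201a00000000000, nat_lit 0xdf28d7f9d3e18c141aedd30c8dbda70554255aec400000507, nat_lit 0x24088c42ccb38a9b938d4a05dd39bb59200000000000000, nat_lit 0xdf28d779d1018e30d8a4c978b1a6b20e060508ec400000507, nat_lit 0xd60d5fd19389818afa352f2226c3d51cc02540ec400000507, nat_lit 0x92588284b8c19abdb2985120d905a63d5805200000000000, nat_lit 0xd68fd7d1994783a820cc2e3b8db8e4576ee00aec400000507, nat_lit 0xb9a884232456403b45680c04b184ac8c8e8f62e0e00000507, nat_lit 0x900eacad22d0eb95522a5c0a958df1328ad7ace0c0000050f, nat_lit 0x680f55b6454ce7f4df389645ef76b82ee32f60854000049ef, nat_lit 0x49a65178c96942c52831a6fa9a955741c5d7ae00200000008, nat_lit 0x149832a792b547d947fdbb46e4db90cd96ae27a69200004ce8, nat_lit 0x29eab396499cb008ae1ca6bb636e76d8a5e250a89e00004de8, nat_lit 0x1c2822243d43e20af9120de9cdd680e24877200200204de8, nat_lit 0xf780539314a485377554ffd2c50a1354fe58cc69000204de0], [nat_lit 0x100440000118200000000000000, nat_lit 0x8000448400001800000000000000,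 nat_lit 0x800060022478d10f3414a0570251805200000000000, nat_lit 0x800804161551687331b0cd38f845801a00000000000, nat_lit 0xd6abdfdddbef2622f357d20526f0ce0d246050ec400000507, nat_lit 0x860041129b8542126ff6fbf15a04800000000000, nat_lit 0xdf28d779db659e0173cda50c275de8f91d2540ec400000507, nat_lit 0x96a8068d1a8679622a0effe42706c56a6cd2b4ec400000507, nat_lit 0xdf28d7f9d361881422a5963d93d0d00058a55aec400000507, nat_lit 0xb9a884a32c56400f94d9053da36ecb1c632f10e0e00000507, nat_lit 0xd60df6585b4e03b59accbcd0e1c851ff60c510ec60010050f, nat_lit 0x2f90822a34241b61fedde8d015086999f3ddd60ca00200008, nat_lit 0xdf8ecff5d1c1299461761316af5a9e310b6018ec60000050f, nat_lit 0x16f2c576d264e175a6cf94a2d39ced063421924692a64b4de0, nat_lit 0x12faf443db12a0c890eed21535b2f96e4d6331e692a5064de0, nat_lit 0x3cb93cc70ea69b529aceaa714f76b8846cb160ce0f5ab9f079, nat_lit 0x911280e9e0e35d34730810e762b839b84f136465800204de8, nat_lit 0x223a96e6df67f42c84ce824c90aa5ea351c5df6ec42b593243]]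
def co2p2Lv : List (ℕ × List ℕ) := [(nat_lit 0x1000000000000000000020000000004000000000000000000000000000040000010004002002, [nat_lit 1024, nat_lit 8192, nat_lit 131072]), (nat_lit 0x1000000000000000000040000000000000001000000000400000000080000010000000004002, [nat_lit 30268]), (nat_lit 0x800800200100080080020010010008004001001000400200200100040040020010004002000, [nat_lit 16, nat_lit 256, nat_lit 512]), (nat_lit 0x1000400000000000000000020000000004000000000000000000000000000010000008004002, [nat_lit 2576]), (nat_lit 0x1000800000200000000040000000000002000000000000400000000000000000008000000002, [nat_lit 62780]), (nat_lit 0x800000000000000000000000000000000000000000000000000000000000000000000002000, [nat_lit 1, nat_lit 2, nat_lit 4, nat_lit 8, nat_lit 48]), (nat_lit 0x1000800400000000000000000008000000002000000000000000000000000000010000002002, [nat_lit 128]), (nat_lit 0x800200200080080020010008004002002000800800200100100080040020010008002001, [nat_lit 6652]), (nat_lit 0x1000000400000000000040000010008000000000000000200000080000000000000000000002,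 [nat_lit 121]), (nat_lit 0x1000000000200080000000000000000004000000000000000200000000020000000008000002, [nat_lit 130756])]
theorem co2p2chk : check (nat_lit 2) (nat_lit 1) (nat_lit 18) (nat_lit 18) (nat_lit 393) (nat_lit 2) (nat_lit 1) co2p2Tab co2p2QT co2p2GT
    (Nat.mul (nat_lit 131071) (Nat.div (Nat.shiftLeft (nat_lit 1) (nat_lit 7074)) (nat_lit 262143)))
    co2p2As co2p2Fs co2p2Mc co2p2Uc (cfOf co2p2Cs) = true := by decide +kernel
def co2p2Ws : List (ℕ × List ℕ) := [(nat_lit 0, [nat_lit 2, nat_lit 2, nat_lit 2, nat_lit 0, nat_lit 1, nat_lit 0, nat_lit 1, nat_lit 0, nat_lit 0]), (nat_lit 1, [nat_lit 4, nat_lit 2, nat_lit 4, nat_lit 1, nat_lit 2, nat_lit 2, nat_lit 3, nat_lit 4, nat_lit 1]), (nat_lit 5, [nat_lit 5, nat_lit 2, nat_lit 5, nat_lit 5, nat_lit 4, nat_lit 5, nat_lit 3, nat_lit 2, nat_lit 4]), (nat_lit 6, [nat_lit 4, nat_lit 4, nat_lit 3, nat_lit 5, nat_lit 3, nat_lit 5, nat_lit 6, nat_lit 4, nat_lit 3]), (nat_lit 4, [nat_lit 4, nat_lit 4, nat_lit 5, nat_lit 7, nat_lit 6, nat_lit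 7, nat_lit 7, nat_lit 6, nat_lit 6]), (nat_lit 8, [nat_lit 5, nat_lit 5, nat_lit 6, nat_lit 7, nat_lit 8, nat_lit 8, nat_lit 8, nat_lit 7, nat_lit 6]), (nat_lit 2, [nat_lit 7, nat_lit 1, nat_lit 1, nat_lit 0, nat_lit 9, nat_lit 7, nat_lit 3, nat_lit 0, nat_lit 9, nat_lit 1, nat_lit 5]), (nat_lit 1, [nat_lit 1, nat_lit 7, nat_lit 9, nat_lit 9, nat_lit 9, nat_lit 10, nat_lit 4, nat_lit 8, nat_lit 10, nat_lit 9, nat_lit 3, nat_lit 7]), (nat_lit 7, [nat_lit 6, nat_lit 2, nat_lit 2, nat_lit 11, nat_lit 4, nat_lit 4, nat_lit 10, nat_lit 10, nat_lit 5, nat_lit 4]), (nat_lit 12, [nat_lit 7, nat_lit 9, nat_lit 5, nat_lit 5, nat_lit 7, nat_lit 9, nat_lit 8, nat_lit 6, nat_lit 4, nat_lit 7]), (nat_lit 12, [nat_lit 10, nat_lit 10, nat_lit 12, nat_lit 8, nat_lit 5, nat_lit 13, nat_lit 10, nat_lit 7, nat_lit 4, nat_lit 5, nat_lit 7]), (nat_lit 12, [nat_lit 5, nat_lit 13, nat_lit 11, nat_lit 14, nat_lit 10, nat_lit 7, nat_lit 11, nat_lit 11, nat_lit 10, nat_lit 8]), (nat_lit 3, [nat_lit 3, nat_lit 3, nat_lit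 0, nat_lit 3, nat_lit 0, nat_lit 2, nat_lit 4, nat_lit 2, nat_lit 1, nat_lit 1, nat_lit 3]), (nat_lit 4, [nat_lit 6, nat_lit 1, nat_lit 4, nat_lit 2, nat_lit 4, nat_lit 1, nat_lit 1, nat_lit 1, nat_lit 2, nat_lit 5]), (nat_lit 2, [nat_lit 7, nat_lit 6, nat_lit 4, nat_lit 4, nat_lit 6, nat_lit 5, nat_lit 2, nat_lit 7, nat_lit 4, nat_lit 2, nat_lit 6, nat_lit 5]), (nat_lit 6, [nat_lit 5, nat_lit 3, nat_lit 3, nat_lit 4, nat_lit 5, nat_lit 4, nat_lit 4, nat_lit 5, nat_lit 4, nat_lit 7, nat_lit 8]), (nat_lit 4, [nat_lit 6, nat_lit 8, nat_lit 4, nat_lit 7, nat_lit 6, nat_lit 8, nat_lit 9, nat_lit 4, nat_lit 6, nat_lit 5, nat_lit 9, nat_lit 8]), (nat_lit 6, [nat_lit 7, nat_lit 8, nat_lit 7, nat_lit 5, nat_lit 9, nat_lit 8, nat_lit 8, nat_lit 7, nat_lit 7, nat_lit 8, nat_lit 10, nat_lit 10]), (nat_lit 2, [nat_lit 3, nat_lit 1, nat_lit 2, nat_lit 5, nat_lit 0, nat_lit 3, nat_lit 5, nat_lit 5, nat_lit 4, nat_lit 1]), (nat_lit 1, [nat_lit 4, nat_lit 2, nat_lit 3, nat_lit 3, nat_lit 6, nat_lit 2, nat_lit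 6, nat_lit 3, nat_lit 3, nat_lit 2, nat_lit 6]), (nat_lit 2, [nat_lit 2, nat_lit 6, nat_lit 3, nat_lit 3, nat_lit 4, nat_lit 6, nat_lit 7, nat_lit 3, nat_lit 6, nat_lit 3, nat_lit 7]), (nat_lit 5, [nat_lit 8, nat_lit 4, nat_lit 8, nat_lit 4, nat_lit 3, nat_lit 8, nat_lit 5, nat_lit 8, nat_lit 3, nat_lit 3, nat_lit 6]), (nat_lit 5, [nat_lit 8, nat_lit 5, nat_lit 5, nat_lit 4, nat_lit 7, nat_lit 9, nat_lit 9, nat_lit 6, nat_lit 9, nat_lit 6, nat_lit 6, nat_lit 8]), (nat_lit 6, [nat_lit 6, nat_lit 7, nat_lit 10, nat_lit 9, nat_lit 9, nat_lit 9, nat_lit 10, nat_lit 6, nat_lit 6, nat_lit 6, nat_lit 8]), (nat_lit 1, [nat_lit 1, nat_lit 2, nat_lit 5, nat_lit 1, nat_lit 5, nat_lit 2, nat_lit 2, nat_lit 1, nat_lit 2, nat_lit 3]), (nat_lit 15, [nat_lit 15, nat_lit 17, nat_lit 14, nat_lit 13, nat_lit 18, nat_lit 16, nat_lit 11, nat_lit 8, nat_lit 9, nat_lit 10, nat_lit 8, nat_lit 9, nat_lit 10, nat_lit 5, nat_lit 2, nat_lit 6, nat_lit 3, nat_lit 0]), (nat_lit 14, [nat_lit 18, nat_lit 15, nat_lit 15, nat_lit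 16, nat_lit 19, nat_lit 8, nat_lit 11, nat_lit 9, nat_lit 13, nat_lit 8, nat_lit 2, nat_lit 7, nat_lit 4, nat_lit 2, nat_lit 1]), (nat_lit 17, [nat_lit 16, nat_lit 19, nat_lit 15, nat_lit 15, nat_lit 19, nat_lit 12, nat_lit 12, nat_lit 11, nat_lit 12, nat_lit 9, nat_lit 10, nat_lit 4, nat_lit 5, nat_lit 3]), (nat_lit 16, [nat_lit 18, nat_lit 21, nat_lit 17, nat_lit 21, nat_lit 18, nat_lit 20, nat_lit 10, nat_lit 15, nat_lit 15, nat_lit 11, nat_lit 15, nat_lit 8, nat_lit 4, nat_lit 7, nat_lit 4, nat_lit 8, nat_lit 3]), (nat_lit 18, [nat_lit 17, nat_lit 19, nat_lit 20, nat_lit 20, nat_lit 20, nat_lit 21, nat_lit 12, nat_lit 11, nat_lit 14, nat_lit 15, nat_lit 13, nat_lit 16, nat_lit 16, nat_lit 7, nat_lit 6, nat_lit 7, nat_lit 9, nat_lit 10, nat_lit 10, nat_lit 4]), (nat_lit 22, [nat_lit 22, nat_lit 18, nat_lit 20, nat_lit 19, nat_lit 13, nat_lit 14, nat_lit 15, nat_lit 14, nat_lit 14, nat_lit 9, nat_lit 11, nat_lit 6, nat_lit 8, nat_lit 5]), (nat_lit 19, [nat_lit 21, nat_lit 22, nat_lit 21, nat_lit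 22, nat_lit 19, nat_lit 24, nat_lit 16, nat_lit 14, nat_lit 18, nat_lit 16, nat_lit 16, nat_lit 14, nat_lit 16, nat_lit 9, nat_lit 9, nat_lit 10, nat_lit 10, nat_lit 11]), (nat_lit 22, [nat_lit 25, nat_lit 21, nat_lit 23, nat_lit 24, nat_lit 20, nat_lit 19, nat_lit 19, nat_lit 16, nat_lit 19, nat_lit 14, nat_lit 16, nat_lit 19, nat_lit 12, nat_lit 11, nat_lit 10, nat_lit 10, nat_lit 8, nat_lit 7]), (nat_lit 25, [nat_lit 24, nat_lit 23, nat_lit 23, nat_lit 22, nat_lit 24, nat_lit 17, nat_lit 19, nat_lit 20, nat_lit 18, nat_lit 19, nat_lit 13, nat_lit 12, nat_lit 11, nat_lit 11, nat_lit 12, nat_lit 8]), (nat_lit 26, [nat_lit 23, nat_lit 24, nat_lit 24, nat_lit 27, nat_lit 26, nat_lit 25, nat_lit 16, nat_lit 18, nat_lit 16, nat_lit 17, nat_lit 18, nat_lit 14, nat_lit 12, nat_lit 15, nat_lit 11, nat_lit 15]), (nat_lit 27, [nat_lit 24, nat_lit 23, nat_lit 23, nat_lit 23, nat_lit 25, nat_lit 19, nat_lit 17, nat_lit 21, nat_lit 21, nat_lit 18, nat_lit 19, nat_lit 15, nat_lit 14, nat_lit 11, nat_lit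 15, nat_lit 12, nat_lit 15]), (nat_lit 25, [nat_lit 25, nat_lit 27, nat_lit 24, nat_lit 24, nat_lit 25, nat_lit 28, nat_lit 20, nat_lit 20, nat_lit 21, nat_lit 21, nat_lit 23, nat_lit 23, nat_lit 17, nat_lit 17, nat_lit 17, nat_lit 15, nat_lit 13]), (nat_lit 30, [nat_lit 30, nat_lit 28, nat_lit 30, nat_lit 25, nat_lit 28, nat_lit 26, nat_lit 19, nat_lit 23, nat_lit 21, nat_lit 20, nat_lit 24, nat_lit 24, nat_lit 13, nat_lit 14, nat_lit 16, nat_lit 18, nat_lit 18]), (nat_lit 29, [nat_lit 27, nat_lit 31, nat_lit 29, nat_lit 26, nat_lit 31, nat_lit 31, nat_lit 23, nat_lit 21, nat_lit 20, nat_lit 25, nat_lit 20, nat_lit 15, nat_lit 14, nat_lit 19, nat_lit 15]), (nat_lit 29, [nat_lit 32, nat_lit 28, nat_lit 31, nat_lit 29, nat_lit 32, nat_lit 32, nat_lit 23, nat_lit 26, nat_lit 24, nat_lit 19, nat_lit 20, nat_lit 15, nat_lit 19, nat_lit 19]), (nat_lit 30, [nat_lit 31, nat_lit 31, nat_lit 32, nat_lit 28, nat_lit 28, nat_lit 31, nat_lit 22, nat_lit 25, nat_lit 25, nat_lit 25, nat_lit 24, nat_lit 27,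 nat_lit 17, nat_lit 16, nat_lit 19]), (nat_lit 34, [nat_lit 33, nat_lit 33, nat_lit 33, nat_lit 29, nat_lit 30, nat_lit 28, nat_lit 23, nat_lit 25, nat_lit 25, nat_lit 27, nat_lit 24, nat_lit 21, nat_lit 18, nat_lit 22, nat_lit 21, nat_lit 16]), (nat_lit 32, [nat_lit 34, nat_lit 31, nat_lit 33, nat_lit 35, nat_lit 27, nat_lit 28, nat_lit 26, nat_lit 29, nat_lit 27, nat_lit 27, nat_lit 22, nat_lit 23, nat_lit 20, nat_lit 19, nat_lit 20]), (nat_lit 35, [nat_lit 36, nat_lit 32, nat_lit 35, nat_lit 36, nat_lit 36, nat_lit 25, nat_lit 28, nat_lit 29, nat_lit 28, nat_lit 26, nat_lit 28, nat_lit 30, nat_lit 20, nat_lit 23, nat_lit 23, nat_lit 22, nat_lit 22, nat_lit 18]), (nat_lit 35, [nat_lit 32, nat_lit 36, nat_lit 36, nat_lit 33, nat_lit 33, nat_lit 33, nat_lit 29, nat_lit 26, nat_lit 27, nat_lit 26, nat_lit 30, nat_lit 31, nat_lit 24, nat_lit 25, nat_lit 23, nat_lit 22, nat_lit 20]), (nat_lit 36, [nat_lit 37, nat_lit 38, nat_lit 33, nat_lit 38, nat_lit 36, nat_lit 37, nat_lit 28, nat_lit 27, nat_lit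 28, nat_lit 32, nat_lit 27, nat_lit 30, nat_lit 26, nat_lit 26, nat_lit 24, nat_lit 22, nat_lit 26, nat_lit 24]), (nat_lit 39, [nat_lit 39, nat_lit 39, nat_lit 34, nat_lit 35, nat_lit 35, nat_lit 39, nat_lit 28, nat_lit 31, nat_lit 28, nat_lit 30, nat_lit 33, nat_lit 31, nat_lit 33, nat_lit 25, nat_lit 27, nat_lit 25, nat_lit 22, nat_lit 22, nat_lit 21])]
theorem co2p2slp : slpOK mu (fun A => Nat.beq (mu cU A) cU) g0 [g0, g1, g2, g3] co2p2Ws I (nat_lit 2) (nat_lit 1) (nat_lit 18) (nat_lit 18) (nat_lit 393) (nat_lit 22) co2p2Tab co2p2QT co2p2GT (nat_lit 169) co2p2Lv = true := by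
  decide +kernel
theorem co2p2pb : PB 2 C2 [] :=
  haveI := H15.finite_Co0
  pb_slp rho par C2 ⊤ (fun g _ => rho_inj g) (hasT_I _) (fun _ => fixU) (List.forall_mem_cons.2 ⟨hasT_gens _ List.mem_cons_self, hasT_gens⟩) (e := 0) Nat.prime_two card_C2 co2p2slp co2p2chk
    (by decide +kernel)

def co2p3Tab : ℕ := nat_lit 0x15308a9400806805000148c8420ab20200030004002110022004400c00100000040d20100028004000000001004400800100000000000000020004000000000000000000100000000000000000000000000
def co2p3QT : ℕ := nat_lit 0x800100020004000800120004000800100020004000000000000000000000000000000000000000000000000000000000000000000000000000000000000000000000000000000000000000000000000000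
def co2p3GT : ℕ := nat_lit 0xe007003801c00e007003001800c0060030018000000000000000000000000000000000000000000000000000000000000000000000000000000000000000000000000000000000000000000000000000
def co2p3As : List ℕ := [nat_lit 0x400100040, nat_lit 0x400040080, nat_lit 0x400040010, nat_lit 0x400100200, nat_lit 0x40010020, nat_lit 0x40010004, nat_lit 0x40080040, nat_lit 0x100200010, nat_lit 0x400800400, nat_lit 0x100200100]
def co2p3Fs : List (ℕ × List ℕ × List ℕ) := [(nat_lit 7, [nat_lit 47, nat_lit 48], [nat_lit 48, nat_lit 47, nat_lit 46, nat_lit 46, nat_lit 45, nat_lit 45, nat_lit 44]), (nat_lit 7, [nat_lit 47, nat_lit 49], [nat_lit 49, nat_lit 47, nat_lit 45]), (nat_lit 7, [nat_lit 48, nat_lit 48, nat_lit 48], [nat_lit 44]), (nat_lit 7, [nat_lit 46, nat_lit 48], [nat_lit 48, nat_lit 46]), (nat_lit 7, [nat_lit 45, nat_lit 47], [nat_lit 47, nat_lit 45]), (nat_lit 7, [nat_lit 46, nat_lit 47], [nat_lit 47, nat_lit 46, nat_lit 44]), (nat_lit 7, [nat_lit 47, nat_lit 47, nat_lit 47], [nat_lit 44, nat_lit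 44]), (nat_lit 6, [nat_lit 41, nat_lit 43], [nat_lit 43, nat_lit 41, nat_lit 39]), (nat_lit 6, [nat_lit 41, nat_lit 42], [nat_lit 42, nat_lit 41, nat_lit 40, nat_lit 40, nat_lit 39, nat_lit 39, nat_lit 38]), (nat_lit 6, [nat_lit 43, nat_lit 43, nat_lit 43], [nat_lit 38]), (nat_lit 6, [nat_lit 42, nat_lit 43], [nat_lit 43, nat_lit 42, nat_lit 40]), (nat_lit 6, [nat_lit 39, nat_lit 41], [nat_lit 41, nat_lit 39]), (nat_lit 6, [nat_lit 39, nat_lit 42], [nat_lit 42, nat_lit 39, nat_lit 38]), (nat_lit 6, [nat_lit 40, nat_lit 42], [nat_lit 42, nat_lit 40])]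
def co2p3Mc : List ℕ := [nat_lit 0, nat_lit 0, nat_lit 0, nat_lit 0x10000000000000000000, nat_lit 0x4010000000000000000000, nat_lit 0x28020000000000000000000]
def co2p3Uc : List (ℕ × ℕ × ℕ) := []
def co2p3Cs : List (List ℕ) := [[nat_lit 0x4000000000], [nat_lit 0x2000000000, nat_lit 0x100040000000], [nat_lit 0x200000000, nat_lit 0x81440000000, nat_lit 0x10080000000], [nat_lit 0x400000000, nat_lit 0x481460180011, nat_lit 0x42a968292804, nat_lit 0x802254451505], [nat_lit 0x20000000, nat_lit 0x4a8048152826, nat_lit 0x81440000002, nat_lit 0x442099091468, nat_lit 0x59a52846a805], [nat_lit 0x80000000, nat_lit 0x8922142a1409, nat_lit 0x828558292814, nat_lit 0xaa29621000a0, nat_lit 0x8856802800a0, nat_lit 0x81208906a28]]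
def co2p3Lv : List (ℕ × List ℕ) := [(nat_lit 0x800400400200080080020010010008002002000800800400100100040020010010004004000, [nat_lit 64]), (nat_lit 0x800000000000000000000000000000000000000000000000000000000000000000000002000, [nat_lit 1, nat_lit 4, nat_lit 16]), (nat_lit 0x800200200080040040020010004004001000800400200100100080020020010008002001, [nat_lit 1170]), (nat_lit 0x1000000000200080000000000000000004000000000000000200000000020000000008000002, [nat_lit 354])]
theorem co2p3chk : check (nat_lit 3) (nat_lit 2) (nat_lit 6) (nat_lit 13) (nat_lit 50) (nat_lit 3) (nat_lit 2) co2p3Tab co2p3QT co2p3GT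
    (Nat.mul (nat_lit 2047) (Nat.div (Nat.shiftLeft (nat_lit 1) (nat_lit 650)) (nat_lit 8191)))
    co2p3As co2p3Fs co2p3Mc co2p3Uc (cfOf co2p3Cs) = true := by decide +kernel
def co2p3Ws : List (ℕ × List ℕ) := [(nat_lit 0, [nat_lit 2, nat_lit 2, nat_lit 2, nat_lit 0, nat_lit 1, nat_lit 0, nat_lit 1, nat_lit 0, nat_lit 0]), (nat_lit 1, [nat_lit 4, nat_lit 2, nat_lit 4, nat_lit 1, nat_lit 2, nat_lit 2, nat_lit 3, nat_lit 4, nat_lit 1]), (nat_lit 5, [nat_lit 5, nat_lit 2, nat_lit 5, nat_lit 5, nat_lit 4, nat_lit 5, nat_lit 3, nat_lit 2, nat_lit 4]), (nat_lit 6, [nat_lit 4, nat_lit 4, nat_lit 3, nat_lit 5, nat_lit 3, nat_lit 5, nat_lit 6, nat_lit 4, nat_lit 3]), (nat_lit 4, [nat_lit 4, nat_lit 4, nat_lit 5, nat_lit 7, nat_lit 6, nat_lit 7, nat_lit 7, nat_lit 6, nat_lit 6]), (nat_lit 8, [nat_lit 5, nat_lit 5, nat_lit 6, nat_lit 7, nat_lit 8, nat_lit 8, nat_lit 8, nat_lit 7, nat_lit 6]), (nat_lit 2, [nat_lit 7, nat_lit 1, nat_lit 1, nat_lit 0, nat_lit 9, nat_lit 7, nat_lit 3, nat_lit 0, nat_lit 9,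 nat_lit 1, nat_lit 5]), (nat_lit 1, [nat_lit 1, nat_lit 7, nat_lit 9, nat_lit 9, nat_lit 9, nat_lit 10, nat_lit 4, nat_lit 8, nat_lit 10, nat_lit 9, nat_lit 3, nat_lit 7]), (nat_lit 7, [nat_lit 6, nat_lit 2, nat_lit 2, nat_lit 11, nat_lit 4, nat_lit 4, nat_lit 10, nat_lit 10, nat_lit 5, nat_lit 4]), (nat_lit 12, [nat_lit 7, nat_lit 9, nat_lit 5, nat_lit 5, nat_lit 7, nat_lit 9, nat_lit 8, nat_lit 6, nat_lit 4, nat_lit 7]), (nat_lit 12, [nat_lit 10, nat_lit 10, nat_lit 12, nat_lit 8, nat_lit 5, nat_lit 13, nat_lit 10, nat_lit 7, nat_lit 4, nat_lit 5, nat_lit 7]), (nat_lit 12, [nat_lit 5, nat_lit 13, nat_lit 11, nat_lit 14, nat_lit 10, nat_lit 7, nat_lit 11, nat_lit 11, nat_lit 10, nat_lit 8]), (nat_lit 3, [nat_lit 3, nat_lit 3, nat_lit 0, nat_lit 3, nat_lit 0, nat_lit 2, nat_lit 4, nat_lit 2, nat_lit 1, nat_lit 1, nat_lit 3]), (nat_lit 4, [nat_lit 6, nat_lit 1, nat_lit 4, nat_lit 2, nat_lit 4, nat_lit 1, nat_lit 1, nat_lit 1, nat_lit 2, nat_lit 5]), (nat_lit 2, [nat_lit 7, nat_lit 6, nat_lit 4,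 nat_lit 4, nat_lit 6, nat_lit 5, nat_lit 2, nat_lit 7, nat_lit 4, nat_lit 2, nat_lit 6, nat_lit 5]), (nat_lit 6, [nat_lit 5, nat_lit 3, nat_lit 3, nat_lit 4, nat_lit 5, nat_lit 4, nat_lit 4, nat_lit 5, nat_lit 4, nat_lit 7, nat_lit 8]), (nat_lit 4, [nat_lit 6, nat_lit 8, nat_lit 4, nat_lit 7, nat_lit 6, nat_lit 8, nat_lit 9, nat_lit 4, nat_lit 6, nat_lit 5, nat_lit 9, nat_lit 8]), (nat_lit 6, [nat_lit 7, nat_lit 8, nat_lit 7, nat_lit 5, nat_lit 9, nat_lit 8, nat_lit 8, nat_lit 7, nat_lit 7, nat_lit 8, nat_lit 10, nat_lit 10]), (nat_lit 2, [nat_lit 3, nat_lit 1, nat_lit 2, nat_lit 5, nat_lit 0, nat_lit 3, nat_lit 5, nat_lit 5, nat_lit 4, nat_lit 1]), (nat_lit 1, [nat_lit 4, nat_lit 2, nat_lit 3, nat_lit 3, nat_lit 6, nat_lit 2, nat_lit 6, nat_lit 3, nat_lit 3, nat_lit 2, nat_lit 6]), (nat_lit 2, [nat_lit 2, nat_lit 6, nat_lit 3, nat_lit 3, nat_lit 4, nat_lit 6, nat_lit 7, nat_lit 3, nat_lit 6, nat_lit 3, nat_lit 7]), (nat_lit 5, [nat_lit 8, nat_lit 4, nat_lit 8, nat_lit 4, nat_lit 3, nat_lit 8,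 nat_lit 5, nat_lit 8, nat_lit 3, nat_lit 3, nat_lit 6]), (nat_lit 5, [nat_lit 8, nat_lit 5, nat_lit 5, nat_lit 4, nat_lit 7, nat_lit 9, nat_lit 9, nat_lit 6, nat_lit 9, nat_lit 6, nat_lit 6, nat_lit 8]), (nat_lit 6, [nat_lit 6, nat_lit 7, nat_lit 10, nat_lit 9, nat_lit 9, nat_lit 9, nat_lit 10, nat_lit 6, nat_lit 6, nat_lit 6, nat_lit 8]), (nat_lit 1, [nat_lit 1, nat_lit 2, nat_lit 5, nat_lit 1, nat_lit 5, nat_lit 2, nat_lit 2, nat_lit 1, nat_lit 2, nat_lit 3]), (nat_lit 13, [nat_lit 13, nat_lit 15, nat_lit 15, nat_lit 17, nat_lit 14, nat_lit 18, nat_lit 11, nat_lit 8, nat_lit 8, nat_lit 10, nat_lit 12, nat_lit 11, nat_lit 1, nat_lit 6, nat_lit 4, nat_lit 5, nat_lit 6]), (nat_lit 19, [nat_lit 18, nat_lit 18, nat_lit 14, nat_lit 17, nat_lit 19, nat_lit 17, nat_lit 11, nat_lit 13, nat_lit 9, nat_lit 9, nat_lit 11, nat_lit 11, nat_lit 6, nat_lit 5, nat_lit 4, nat_lit 4]), (nat_lit 18, [nat_lit 16, nat_lit 17, nat_lit 19, nat_lit 15, nat_lit 17, nat_lit 13, nat_lit 9, nat_lit 9, nat_lit 14, nat_lit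 10, nat_lit 10, nat_lit 5, nat_lit 5, nat_lit 4, nat_lit 8, nat_lit 4, nat_lit 2]), (nat_lit 20, [nat_lit 17, nat_lit 18, nat_lit 20, nat_lit 17, nat_lit 17, nat_lit 21, nat_lit 11, nat_lit 15, nat_lit 12, nat_lit 11, nat_lit 14, nat_lit 14, nat_lit 5, nat_lit 4, nat_lit 4, nat_lit 6, nat_lit 6, nat_lit 7]), (nat_lit 21, [nat_lit 22, nat_lit 19, nat_lit 20, nat_lit 19, nat_lit 21, nat_lit 21, nat_lit 14, nat_lit 14, nat_lit 14, nat_lit 14, nat_lit 16, nat_lit 14, nat_lit 16, nat_lit 10, nat_lit 9, nat_lit 6, nat_lit 7]), (nat_lit 19, [nat_lit 20, nat_lit 22, nat_lit 23, nat_lit 21, nat_lit 23, nat_lit 22, nat_lit 16, nat_lit 17, nat_lit 12, nat_lit 13, nat_lit 16, nat_lit 17, nat_lit 11, nat_lit 11, nat_lit 11, nat_lit 8, nat_lit 6, nat_lit 5]), (nat_lit 20, [nat_lit 24, nat_lit 23, nat_lit 23, nat_lit 23, nat_lit 20, nat_lit 18, nat_lit 16, nat_lit 13, nat_lit 18, nat_lit 16, nat_lit 9, nat_lit 9, nat_lit 11, nat_lit 11, nat_lit 12, nat_lit 12]), (nat_lit 23, [nat_lit 24, nat_lit 23, nat_lit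 23, nat_lit 21, nat_lit 25, nat_lit 25, nat_lit 16, nat_lit 16, nat_lit 19, nat_lit 16, nat_lit 17, nat_lit 18, nat_lit 19, nat_lit 12, nat_lit 12, nat_lit 11, nat_lit 12, nat_lit 10, nat_lit 7])]
theorem co2p3slp : slpOK mu (fun A => Nat.beq (mu cU A) cU) g0 [g0, g1, g2, g3] co2p3Ws I (nat_lit 3) (nat_lit 2) (nat_lit 6) (nat_lit 13) (nat_lit 50) (nat_lit 8) co2p3Tab co2p3QT co2p3GT (nat_lit 107) co2p3Lv = true := by
  decide +kernel
theorem co2p3pb : PB 3 C2 [] :=
  haveI := H15.finite_Co0
  pb_slp rho par C2 ⊤ (fun g _ => rho_inj g) (hasT_I _) (fun _ => fixU) (List.forall_mem_cons.2 ⟨hasT_gens _ List.mem_cons_self, hasT_gens⟩) (e := 0) Nat.prime_three card_C2 co2p3slp co2p3chk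
    (by decide +kernel)

def co2p5Tab : ℕ := nat_lit 0x6c813002000048010000000080000000000000
def co2p5QT : ℕ := nat_lit 0x20008002000000000000000000000000000000
def co2p5GT : ℕ := nat_lit 0x1803006000000000000000000000000000000
def co2p5As : List ℕ := [nat_lit 0x1001020]
def co2p5Fs : List (ℕ × List ℕ × List ℕ) := [(nat_lit 3, [nat_lit 13, nat_lit 13, nat_lit 13, nat_lit 13, nat_lit 13], []), (nat_lit 3, [nat_lit 12, nat_lit 12, nat_lit 12, nat_lit 12, nat_lit 12], []), (nat_lit 3, [nat_lit 11, nat_lit 13], [nat_lit 13, nat_lit 11]), (nat_lit 3, [nat_lit 11, nat_lit 12], [nat_lit 12, nat_lit 11])]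
def co2p5Mc : List ℕ := [nat_lit 0, nat_lit 0, nat_lit 0x200000]
def co2p5Uc : List (ℕ × ℕ × ℕ) := []
def co2p5Cs : List (List ℕ) := [[nat_lit 4096], [nat_lit 4, nat_lit 8448], [nat_lit 20, nat_lit 0, nat_lit 5376]]
def co2p5Lv : List (ℕ × List ℕ) := [(nat_lit 0x800200200080040040020010004004001000800400200100100080020020010008002001, [nat_lit 1, nat_lit 8]), (nat_lit 0x800000000000000000000000000000000000000000000000000000000000000000000002000, [nat_lit 98])]
theorem co2p5chk : check (nat_lit 5) (nat_lit 3) (nat_lit 3) (nat_lit 11) (nat_lit 14) (nat_lit 5) (nat_lit 3) co2p5Tab co2p5QT co2p5GT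
    (Nat.mul (nat_lit 255) (Nat.div (Nat.shiftLeft (nat_lit 1) (nat_lit 154)) (nat_lit 2047)))
    co2p5As co2p5Fs co2p5Mc co2p5Uc (cfOf co2p5Cs) = true := by decide +kernel
def co2p5Ws : List (ℕ × List ℕ) := [(nat_lit 0, [nat_lit 2, nat_lit 2, nat_lit 2, nat_lit 0, nat_lit 1, nat_lit 0, nat_lit 1, nat_lit 0, nat_lit 0]), (nat_lit 1, [nat_lit 4, nat_lit 2, nat_lit 4, nat_lit 1, nat_lit 2, nat_lit 2, nat_lit 3, nat_lit 4, nat_lit 1]), (nat_lit 5, [nat_lit 5, nat_lit 2, nat_lit 5, nat_lit 5, nat_lit 4, nat_lit 5, nat_lit 3, nat_lit 2, nat_lit 4]), (nat_lit 6, [nat_lit 4, nat_lit 4, nat_lit 3, nat_lit 5, nat_lit 3, nat_lit 5, nat_lit 6, nat_lit 4, nat_lit 3]), (nat_lit 4, [nat_lit 4, nat_lit 4, nat_lit 5, nat_lit 7, nat_lit 6, nat_lit 7, nat_lit 7, nat_lit 6, nat_lit 6]), (nat_lit 8, [nat_lit 5, nat_lit 5, nat_lit 6, nat_lit 7, nat_lit 8, nat_lit 8, nat_lit 8, nat_lit 7, nat_lit 6]), (nat_lit 2, [nat_lit 7, nat_lit 1, nat_lit 1, nat_lit 0, nat_lit 9, nat_lit 7, nat_lit 3, nat_lit 0, nat_lit 9, nat_lit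 1, nat_lit 5]), (nat_lit 1, [nat_lit 1, nat_lit 7, nat_lit 9, nat_lit 9, nat_lit 9, nat_lit 10, nat_lit 4, nat_lit 8, nat_lit 10, nat_lit 9, nat_lit 3, nat_lit 7]), (nat_lit 7, [nat_lit 6, nat_lit 2, nat_lit 2, nat_lit 11, nat_lit 4, nat_lit 4, nat_lit 10, nat_lit 10, nat_lit 5, nat_lit 4]), (nat_lit 12, [nat_lit 7, nat_lit 9, nat_lit 5, nat_lit 5, nat_lit 7, nat_lit 9, nat_lit 8, nat_lit 6, nat_lit 4, nat_lit 7]), (nat_lit 12, [nat_lit 10, nat_lit 10, nat_lit 12, nat_lit 8, nat_lit 5, nat_lit 13, nat_lit 10, nat_lit 7, nat_lit 4, nat_lit 5, nat_lit 7]), (nat_lit 12, [nat_lit 5, nat_lit 13, nat_lit 11, nat_lit 14, nat_lit 10, nat_lit 7, nat_lit 11, nat_lit 11, nat_lit 10, nat_lit 8]), (nat_lit 3, [nat_lit 3, nat_lit 3, nat_lit 0, nat_lit 3, nat_lit 0, nat_lit 2, nat_lit 4, nat_lit 2, nat_lit 1, nat_lit 1, nat_lit 3]), (nat_lit 4, [nat_lit 6, nat_lit 1, nat_lit 4, nat_lit 2, nat_lit 4, nat_lit 1, nat_lit 1, nat_lit 1, nat_lit 2, nat_lit 5]), (nat_lit 2, [nat_lit 7, nat_lit 6, nat_lit 4, nat_lit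 4, nat_lit 6, nat_lit 5, nat_lit 2, nat_lit 7, nat_lit 4, nat_lit 2, nat_lit 6, nat_lit 5]), (nat_lit 6, [nat_lit 5, nat_lit 3, nat_lit 3, nat_lit 4, nat_lit 5, nat_lit 4, nat_lit 4, nat_lit 5, nat_lit 4, nat_lit 7, nat_lit 8]), (nat_lit 4, [nat_lit 6, nat_lit 8, nat_lit 4, nat_lit 7, nat_lit 6, nat_lit 8, nat_lit 9, nat_lit 4, nat_lit 6, nat_lit 5, nat_lit 9, nat_lit 8]), (nat_lit 6, [nat_lit 7, nat_lit 8, nat_lit 7, nat_lit 5, nat_lit 9, nat_lit 8, nat_lit 8, nat_lit 7, nat_lit 7, nat_lit 8, nat_lit 10, nat_lit 10]), (nat_lit 2, [nat_lit 3, nat_lit 1, nat_lit 2, nat_lit 5, nat_lit 0, nat_lit 3, nat_lit 5, nat_lit 5, nat_lit 4, nat_lit 1]), (nat_lit 1, [nat_lit 4, nat_lit 2, nat_lit 3, nat_lit 3, nat_lit 6, nat_lit 2, nat_lit 6, nat_lit 3, nat_lit 3, nat_lit 2, nat_lit 6]), (nat_lit 2, [nat_lit 2, nat_lit 6, nat_lit 3, nat_lit 3, nat_lit 4, nat_lit 6, nat_lit 7, nat_lit 3, nat_lit 6, nat_lit 3, nat_lit 7]), (nat_lit 5, [nat_lit 8, nat_lit 4, nat_lit 8, nat_lit 4, nat_lit 3, nat_lit 8, nat_lit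 5, nat_lit 8, nat_lit 3, nat_lit 3, nat_lit 6]), (nat_lit 5, [nat_lit 8, nat_lit 5, nat_lit 5, nat_lit 4, nat_lit 7, nat_lit 9, nat_lit 9, nat_lit 6, nat_lit 9, nat_lit 6, nat_lit 6, nat_lit 8]), (nat_lit 6, [nat_lit 6, nat_lit 7, nat_lit 10, nat_lit 9, nat_lit 9, nat_lit 9, nat_lit 10, nat_lit 6, nat_lit 6, nat_lit 6, nat_lit 8]), (nat_lit 1, [nat_lit 1, nat_lit 2, nat_lit 5, nat_lit 1, nat_lit 5, nat_lit 2, nat_lit 2, nat_lit 1, nat_lit 2, nat_lit 3]), (nat_lit 13, [nat_lit 18, nat_lit 15, nat_lit 18, nat_lit 15, nat_lit 14, nat_lit 12, nat_lit 9, nat_lit 11, nat_lit 11, nat_lit 8, nat_lit 9, nat_lit 4, nat_lit 5, nat_lit 6, nat_lit 5, nat_lit 0]), (nat_lit 19, [nat_lit 15, nat_lit 16, nat_lit 19, nat_lit 16, nat_lit 17, nat_lit 8, nat_lit 10, nat_lit 13, nat_lit 8, nat_lit 12, nat_lit 12, nat_lit 13, nat_lit 6, nat_lit 7, nat_lit 4, nat_lit 6, nat_lit 5, nat_lit 7]), (nat_lit 18, [nat_lit 17, nat_lit 16, nat_lit 19, nat_lit 20, nat_lit 17, nat_lit 16, nat_lit 11, nat_lit 11, nat_lit 12, nat_lit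 12, nat_lit 11, nat_lit 12, nat_lit 8, nat_lit 7, nat_lit 4, nat_lit 8, nat_lit 4]), (nat_lit 21, [nat_lit 19, nat_lit 21, nat_lit 16, nat_lit 19, nat_lit 17, nat_lit 10, nat_lit 13, nat_lit 15, nat_lit 10, nat_lit 12, nat_lit 4, nat_lit 6, nat_lit 4, nat_lit 4, nat_lit 9, nat_lit 3])]
theorem co2p5slp : slpOK mu (fun A => Nat.beq (mu cU A) cU) g0 [g0, g1, g2, g3] co2p5Ws I (nat_lit 5) (nat_lit 3) (nat_lit 3) (nat_lit 11) (nat_lit 14) (nat_lit 4) co2p5Tab co2p5QT co2p5GT (nat_lit 114) co2p5Lv = true := by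
  decide +kernel
theorem co2p5pb : PB 5 C2 [] :=
  haveI := H15.finite_Co0
  pb_slp rho par C2 ⊤ (fun g _ => rho_inj g) (hasT_I _) (fun _ => fixU) (List.forall_mem_cons.2 ⟨hasT_gens _ List.mem_cons_self, hasT_gens⟩) (e := 0) Nat.prime_five card_C2 co2p5slp co2p5chk
    (by decide +kernel)

end Cfsg.Agent.H63.Le
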