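/-
Bounds for the Schur multiplier of Co3 (generated certificates).
-/
import Cfsg.Agent.H63.Leech3

set_option autoImplicit false
set_option maxRecDepth 100000

namespace Cfsg.Agent.H63.Le

open H14

def co3p2Tab : ℕ := nat_lit 0x26b12b1371080a112000502900100b2e60491ed29528801b00200123717616e1cc0291d803a00200101712009004802401300f00600300100002b0ad04c02001600800400200100000000605102401300d00500300100000000001a02401600e00600300100000000000000301300800400200100000000000000000000a005002001000000000000000000003004002001000000000000000000000001002001000000000000000000000000000001000000000000000000000000000000000000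
def co3p2QT : ℕ := nat_lit 0x240100080020010008004002001280180040020010008004002001200140080020010008004002001000000000000000000000000000000000000000000000000000000000000000000000000000000000000000000000000000000000000000000000000000000000000000000000000000000000000000000000000000000000000000000000000000000000000000000000000000000000000000000000000000000000000000000000000000000000000000000000000000000000000000000
def co3p2GT : ℕ := nat_lit 0xc00c00c00c00c00c00c00c00c00b00b00b00b00b00b00b00b00b00a00a00a00a00a00a00a00a00a000000000000000000000000000000000000000000000000000000000000000000000000000000000000000000000000000000000000000000000000000000000000000000000000000000000000000000000000000000000000000000000000000000000000000000000000000000000000000000000000000000000000000000000000000000000000000000000000000000000000000000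
def co3p2As : List ℕ := [nat_lit 0x10020080, nat_lit 0x8010040, nat_lit 0x10040040, nat_lit 0x20010040, nat_lit 0x10010040, nat_lit 0x20040100, nat_lit 0x4010010, nat_lit 0x8020040, nat_lit 0x4010020, nat_lit 0x20020080, nat_lit 0x20080200, nat_lit 0x4010040, nat_lit 0x4002008, nat_lit 0x10040008, nat_lit 0x10010020, nat_lit 0x20008020, nat_lit 0x4008020, nat_lit 0x8020020, nat_lit 0x10040004, nat_lit 0x4004010, nat_lit 0x20040004, nat_lit 0x10040100, nat_lit 0x20001004, nat_lit 0x4001004, nat_lit 0x8020080, nat_lit 0x8001004, nat_lit 0x10002008, nat_lit 0x802004, nat_lit 0x4000802, nat_lit 0x2008020, nat_lit 0x802008, nat_lit 0x10001004, nat_lit 0x2001004, nat_lit 0x801004, nat_lit 0x401002, nat_lit 0x1004008, nat_lit 0x1004004, nat_lit 0x401004]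
def co3p2Fs : List (ℕ × List ℕ × List ℕ) := [(nat_lit 12, [nat_lit 123, nat_lit 128], [nat_lit 128, nat_lit 123, nat_lit 121, nat_lit 120]), (nat_lit 12, [nat_lit 126, nat_lit 126], [nat_lit 122, nat_lit 121]), (nat_lit 12, [nat_lit 123, nat_lit 124], [nat_lit 124, nat_lit 123, nat_lit 121]), (nat_lit 12, [nat_lit 125, nat_lit 125], [nat_lit 121, nat_lit 120]), (nat_lit 12, [nat_lit 124, nat_lit 124], []), (nat_lit 12, [nat_lit 121, nat_lit 121], []), (nat_lit 12, [nat_lit 122, nat_lit 122], [nat_lit 120]), (nat_lit 11, [nat_lit 116, nat_lit 117], [nat_lit 117, nat_lit 116, nat_lit 113]), (nat_lit 11, [nat_lit 117, nat_lit 117], [nat_lit 115, nat_lit 114, nat_lit 112]), (nat_lit 11, [nat_lit 115, nat_lit 117], [nat_lit 117, nat_lit 115, nat_lit 113, nat_lit 112]), (nat_lit 11, [nat_lit 119, nat_lit 119], [nat_lit 112, nat_lit 111]), (nat_lit 11, [nat_lit 113, nat_lit 119], [nat_lit 119, nat_lit 113, nat_lit 112]), (nat_lit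 11, [nat_lit 112, nat_lit 117], [nat_lit 117, nat_lit 112, nat_lit 111]), (nat_lit 11, [nat_lit 113, nat_lit 113], [nat_lit 111]), (nat_lit 10, [nat_lit 108, nat_lit 110], [nat_lit 110, nat_lit 108, nat_lit 106]), (nat_lit 10, [nat_lit 107, nat_lit 107], [nat_lit 103, nat_lit 102]), (nat_lit 10, [nat_lit 108, nat_lit 108], [nat_lit 104, nat_lit 103]), (nat_lit 10, [nat_lit 110, nat_lit 110], [nat_lit 106, nat_lit 104, nat_lit 103, nat_lit 102]), (nat_lit 10, [nat_lit 106, nat_lit 109], [nat_lit 109, nat_lit 106, nat_lit 103]), (nat_lit 10, [nat_lit 106, nat_lit 107], [nat_lit 107, nat_lit 106, nat_lit 103, nat_lit 102]), (nat_lit 10, [nat_lit 104, nat_lit 104], [nat_lit 102]), (nat_lit 10, [nat_lit 106, nat_lit 106], [])]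
def co3p2Mc : List ℕ := [nat_lit 0, nat_lit 0, nat_lit 0, nat_lit 0, nat_lit 0x1008040000000000000000000000000, nat_lit 0x830040000000000000000000000000, nat_lit 0x838100000000000000000000000000, nat_lit 0x1030000000000000000000000000000, nat_lit 0x30140000000000000000000000000, nat_lit 0x1000000000000000000000000000000]
def co3p2Uc : List (ℕ × ℕ × ℕ) := []
def co3p2Cs : List (List ℕ) := [[nat_lit 0x82000000], [nat_lit 0x2000000, nat_lit 0x8a0024400000], [nat_lit 0x400000, nat_lit 0x100400000, nat_lit 0x410addf5897800f], [nat_lit 0x4000000, nat_lit 0x24000000, nat_lit 0x28358000000, nat_lit 0xf56f67e6b96a91a], [nat_lit 0x82800000, nat_lit 0x8a0025400000, nat_lit 0x410acdedb97800f, nat_lit 0xb465ba114802a14, nat_lit 0x8a0024410001], [nat_lit 0x8000000, nat_lit 0x48000000, nat_lit 0x8258000000, nat_lit 0x400020000000, nat_lit 0xf7e34ec7b57aa1b, nat_lit 0xf56b67e4597a91a], [nat_lit 0x8a1124000000, nat_lit 0x4102f4c2697800f,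 nat_lit 0xb665333cf802a14, nat_lit 0xf64684a2496801a, nat_lit 0xf65625b8296801a, nat_lit 0xe8bff79a897aa01, nat_lit 0xa9b36aa698fe94a], [nat_lit 0x482400000, nat_lit 0x410a95548d7800f, nat_lit 0x410a95dc8d7800f, nat_lit 0x40391ba7c412a01, nat_lit 0xf667c7be956aa1a, nat_lit 0x813d0627e97aa0e, nat_lit 0xabb7f73421eaa63, nat_lit 0x355cb44b994831a], [nat_lit 0x10000000, nat_lit 0x210000000, nat_lit 0x620120000000, nat_lit 0x8a92c11c340030e, nat_lit 0x76dc449f7578015, nat_lit 0x8a92c53c340030e, nat_lit 0x97dc9da439ec079, nat_lit 0xbfc2f13c11e8314, nat_lit 0x8a9e6116945830e], [nat_lit 0x8a2124000000, nat_lit 0x410377c2697800f, nat_lit 0xb724b074cc02a14, nat_lit 0xa42d7917dc00314, nat_lit 0xf607c5be817aa1b, nat_lit 0xdfd5fbd1b17a900, nat_lit 0x4fd18b6f5893e78, nat_lit 0x27198a33c61fe9b, nat_lit 0xae0bade8cbe4362, nat_lit 0x530eb181523f08f]]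
def co3p2Lv : List (ℕ × List ℕ) := [(nat_lit 0x800800200100080040020010008004004001000800400000200080080040020008004002002, [nat_lit 64]), (nat_lit 0x800400200100080040020010008004002001000800400000100080040020010008004002001, [nat_lit 32, nat_lit 256]), (nat_lit 0x400400100100080040020008004002001000800800200100100040020010008004002001, [nat_lit 163]), (nat_lit 0x1000000000100000000000000000000004002000000400400000000080040000000000000000, [nat_lit 4]), (nat_lit 0x1000000400000000000000000010000000002001000000400000000080000000000008000000, [nat_lit 8]), (nat_lit 0x800400400200080040000010010004004002000800400400100080040020010008004004001, [nat_lit 1]), (nat_lit 0x400200100100080040010008008002001000800400400100080040020020010004002001, [nat_lit 17]), (nat_lit 0x400200100080080020010008004004001000800800200100100040040010008008004001, [nat_lit 2]), (nat_lit 0x800000000000000000000000000000000000000000000000000000000000000000000000001,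 [nat_lit 663])]
theorem co3p2chk : check (nat_lit 2) (nat_lit 1) (nat_lit 10) (nat_lit 12) (nat_lit 129) (nat_lit 2) (nat_lit 1) co3p2Tab co3p2QT co3p2GT
    (Nat.mul (nat_lit 2047) (Nat.div (Nat.shiftLeft (nat_lit 1) (nat_lit 1548)) (nat_lit 4095)))
    co3p2As co3p2Fs co3p2Mc co3p2Uc (cfOf co3p2Cs) = true := by decide +kernel
def co3p2Ws : List (ℕ × List ℕ) := [(nat_lit 0, [nat_lit 2, nat_lit 2, nat_lit 2, nat_lit 0, nat_lit 1, nat_lit 0, nat_lit 1, nat_lit 0, nat_lit 0]), (nat_lit 1, [nat_lit 4, nat_lit 2, nat_lit 4, nat_lit 1, nat_lit 2, nat_lit 2, nat_lit 3, nat_lit 4, nat_lit 1]), (nat_lit 5, [nat_lit 5, nat_lit 2, nat_lit 5, nat_lit 5, nat_lit 4, nat_lit 5, nat_lit 3, nat_lit 2, nat_lit 4]), (nat_lit 6, [nat_lit 4, nat_lit 4, nat_lit 3, nat_lit 5, nat_lit 3, nat_lit 5, nat_lit 6, nat_lit 4, nat_lit 3]), (nat_lit 4, [nat_lit 4, nat_lit 4, nat_lit 5, nat_lit 7, nat_lit 6, nat_lit 7, nat_lit 7, nat_lit 6, nat_lit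 6]), (nat_lit 8, [nat_lit 5, nat_lit 5, nat_lit 6, nat_lit 7, nat_lit 8, nat_lit 8, nat_lit 8, nat_lit 7, nat_lit 6]), (nat_lit 2, [nat_lit 7, nat_lit 1, nat_lit 1, nat_lit 0, nat_lit 9, nat_lit 7, nat_lit 3, nat_lit 0, nat_lit 9, nat_lit 1, nat_lit 5]), (nat_lit 1, [nat_lit 1, nat_lit 7, nat_lit 9, nat_lit 9, nat_lit 9, nat_lit 10, nat_lit 4, nat_lit 8, nat_lit 10, nat_lit 9, nat_lit 3, nat_lit 7]), (nat_lit 7, [nat_lit 6, nat_lit 2, nat_lit 2, nat_lit 11, nat_lit 4, nat_lit 4, nat_lit 10, nat_lit 10, nat_lit 5, nat_lit 4]), (nat_lit 12, [nat_lit 7, nat_lit 9, nat_lit 5, nat_lit 5, nat_lit 7, nat_lit 9, nat_lit 8, nat_lit 6, nat_lit 4, nat_lit 7]), (nat_lit 12, [nat_lit 10, nat_lit 10, nat_lit 12, nat_lit 8, nat_lit 5, nat_lit 13, nat_lit 10, nat_lit 7, nat_lit 4, nat_lit 5, nat_lit 7]), (nat_lit 12, [nat_lit 5, nat_lit 13, nat_lit 11, nat_lit 14, nat_lit 10, nat_lit 7, nat_lit 11, nat_lit 11, nat_lit 10, nat_lit 8]),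 (nat_lit 3, [nat_lit 3, nat_lit 3, nat_lit 0, nat_lit 3, nat_lit 0, nat_lit 2, nat_lit 4, nat_lit 2, nat_lit 1, nat_lit 1, nat_lit 3]), (nat_lit 4, [nat_lit 6, nat_lit 1, nat_lit 4, nat_lit 2, nat_lit 4, nat_lit 1, nat_lit 1, nat_lit 1, nat_lit 2, nat_lit 5]), (nat_lit 2, [nat_lit 7, nat_lit 6, nat_lit 4, nat_lit 4, nat_lit 6, nat_lit 5, nat_lit 2, nat_lit 7, nat_lit 4, nat_lit 2, nat_lit 6, nat_lit 5]), (nat_lit 6, [nat_lit 5, nat_lit 3, nat_lit 3, nat_lit 4, nat_lit 5, nat_lit 4, nat_lit 4, nat_lit 5, nat_lit 4, nat_lit 7, nat_lit 8]), (nat_lit 4, [nat_lit 6, nat_lit 8, nat_lit 4, nat_lit 7, nat_lit 6, nat_lit 8, nat_lit 9, nat_lit 4, nat_lit 6, nat_lit 5, nat_lit 9, nat_lit 8]), (nat_lit 6, [nat_lit 7, nat_lit 8, nat_lit 7, nat_lit 5, nat_lit 9, nat_lit 8, nat_lit 8, nat_lit 7, nat_lit 7, nat_lit 8, nat_lit 10, nat_lit 10]), (nat_lit 2, [nat_lit 3, nat_lit 1, nat_lit 2, nat_lit 5, nat_lit 0, nat_lit 3, nat_lit 5,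 nat_lit 5, nat_lit 4, nat_lit 1]), (nat_lit 1, [nat_lit 4, nat_lit 2, nat_lit 3, nat_lit 3, nat_lit 6, nat_lit 2, nat_lit 6, nat_lit 3, nat_lit 3, nat_lit 2, nat_lit 6]), (nat_lit 2, [nat_lit 2, nat_lit 6, nat_lit 3, nat_lit 3, nat_lit 4, nat_lit 6, nat_lit 7, nat_lit 3, nat_lit 6, nat_lit 3, nat_lit 7]), (nat_lit 5, [nat_lit 8, nat_lit 4, nat_lit 8, nat_lit 4, nat_lit 3, nat_lit 8, nat_lit 5, nat_lit 8, nat_lit 3, nat_lit 3, nat_lit 6]), (nat_lit 5, [nat_lit 8, nat_lit 5, nat_lit 5, nat_lit 4, nat_lit 7, nat_lit 9, nat_lit 9, nat_lit 6, nat_lit 9, nat_lit 6, nat_lit 6, nat_lit 8]), (nat_lit 6, [nat_lit 6, nat_lit 7, nat_lit 10, nat_lit 9, nat_lit 9, nat_lit 9, nat_lit 10, nat_lit 6, nat_lit 6, nat_lit 6, nat_lit 8]), (nat_lit 1, [nat_lit 1, nat_lit 2, nat_lit 5, nat_lit 1, nat_lit 5, nat_lit 2, nat_lit 2, nat_lit 1, nat_lit 2, nat_lit 3]), (nat_lit 24, [nat_lit 27, nat_lit 25, nat_lit 21, nat_lit 23, nat_lit 21, nat_lit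 18, nat_lit 15, nat_lit 18, nat_lit 15, nat_lit 16, nat_lit 17, nat_lit 12, nat_lit 8, nat_lit 11, nat_lit 11, nat_lit 9, nat_lit 9, nat_lit 6, nat_lit 6, nat_lit 6, nat_lit 3, nat_lit 2]), (nat_lit 27, [nat_lit 22, nat_lit 22, nat_lit 27, nat_lit 25, nat_lit 14, nat_lit 16, nat_lit 16, nat_lit 15, nat_lit 19, nat_lit 19, nat_lit 17, nat_lit 12, nat_lit 11, nat_lit 12, nat_lit 10, nat_lit 13, nat_lit 13, nat_lit 2, nat_lit 4, nat_lit 7, nat_lit 4, nat_lit 7, nat_lit 1]), (nat_lit 22, [nat_lit 21, nat_lit 24, nat_lit 25, nat_lit 25, nat_lit 26, nat_lit 15, nat_lit 20, nat_lit 17, nat_lit 20, nat_lit 19, nat_lit 20, nat_lit 15, nat_lit 9, nat_lit 10, nat_lit 13, nat_lit 14, nat_lit 12, nat_lit 10, nat_lit 8, nat_lit 3, nat_lit 5, nat_lit 3, nat_lit 2]), (nat_lit 25, [nat_lit 25, nat_lit 23, nat_lit 23, nat_lit 26, nat_lit 17, nat_lit 17, nat_lit 20, nat_lit 21, nat_lit 18, nat_lit 11, nat_lit 14, nat_lit 15, nat_lit 10,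 nat_lit 14, nat_lit 14, nat_lit 6, nat_lit 9, nat_lit 9, nat_lit 4, nat_lit 4]), (nat_lit 27, [nat_lit 25, nat_lit 24, nat_lit 26, nat_lit 26, nat_lit 19, nat_lit 17, nat_lit 22, nat_lit 18, nat_lit 21, nat_lit 19, nat_lit 20, nat_lit 13, nat_lit 15, nat_lit 14, nat_lit 16, nat_lit 12, nat_lit 16, nat_lit 16, nat_lit 10, nat_lit 10, nat_lit 10, nat_lit 8, nat_lit 9]), (nat_lit 27, [nat_lit 27, nat_lit 25, nat_lit 25, nat_lit 28, nat_lit 23, nat_lit 19, nat_lit 21, nat_lit 20, nat_lit 19, nat_lit 19, nat_lit 17, nat_lit 12, nat_lit 14, nat_lit 13, nat_lit 15, nat_lit 15, nat_lit 6, nat_lit 11, nat_lit 7, nat_lit 6]), (nat_lit 29, [nat_lit 27, nat_lit 25, nat_lit 33, nat_lit 31, nat_lit 31, nat_lit 20, nat_lit 24, nat_lit 23, nat_lit 21, nat_lit 21, nat_lit 20, nat_lit 17, nat_lit 16, nat_lit 14, nat_lit 16, nat_lit 13, nat_lit 16, nat_lit 18, nat_lit 9, nat_lit 7, nat_lit 11, nat_lit 9, nat_lit 10, nat_lit 9, nat_lit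 6]), (nat_lit 28, [nat_lit 29, nat_lit 35, nat_lit 34, nat_lit 28, nat_lit 21, nat_lit 24, nat_lit 20, nat_lit 21, nat_lit 24, nat_lit 23, nat_lit 25, nat_lit 14, nat_lit 16, nat_lit 17, nat_lit 16, nat_lit 19, nat_lit 16, nat_lit 19, nat_lit 13, nat_lit 12, nat_lit 10, nat_lit 13, nat_lit 11, nat_lit 7]), (nat_lit 22, [nat_lit 21, nat_lit 25, nat_lit 23, nat_lit 22, nat_lit 22, nat_lit 24, nat_lit 16, nat_lit 17, nat_lit 20, nat_lit 20, nat_lit 13, nat_lit 9, nat_lit 9, nat_lit 14, nat_lit 8]), (nat_lit 29, [nat_lit 32, nat_lit 35, nat_lit 34, nat_lit 33, nat_lit 22, nat_lit 24, nat_lit 22, nat_lit 24, nat_lit 25, nat_lit 24, nat_lit 16, nat_lit 17, nat_lit 20, nat_lit 17, nat_lit 17, nat_lit 13, nat_lit 15, nat_lit 10, nat_lit 11, nat_lit 12]), (nat_lit 38, [nat_lit 29, nat_lit 31, nat_lit 30, nat_lit 35, nat_lit 26, nat_lit 28, nat_lit 27, nat_lit 24, nat_lit 25, nat_lit 25, nat_lit 27, nat_lit 22, nat_lit 21, nat_lit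 18, nat_lit 21, nat_lit 17, nat_lit 22, nat_lit 16, nat_lit 16, nat_lit 12, nat_lit 11, nat_lit 15, nat_lit 10]), (nat_lit 30, [nat_lit 32, nat_lit 31, nat_lit 33, nat_lit 31, nat_lit 39, nat_lit 29, nat_lit 29, nat_lit 27, nat_lit 27, nat_lit 25, nat_lit 25, nat_lit 29, nat_lit 22, nat_lit 19, nat_lit 19, nat_lit 18, nat_lit 22, nat_lit 22, nat_lit 17, nat_lit 15, nat_lit 16, nat_lit 17, nat_lit 17]), (nat_lit 40, [nat_lit 33, nat_lit 35, nat_lit 31, nat_lit 36, nat_lit 36, nat_lit 29, nat_lit 25, nat_lit 30, nat_lit 25, nat_lit 27, nat_lit 24, nat_lit 19, nat_lit 20, nat_lit 24, nat_lit 16, nat_lit 18, nat_lit 18, nat_lit 16, nat_lit 15, nat_lit 12])]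
theorem co3p2slp : slpOK mu (fun A => Nat.beq (mu cV A) cV) g0 [g0, g1, g2, g3] co3p2Ws I (nat_lit 2) (nat_lit 1) (nat_lit 10) (nat_lit 12) (nat_lit 129) (nat_lit 13) co3p2Tab co3p2QT co3p2GT (nat_lit 5) co3p2Lv = true := by
  decide +kernel
theorem co3p2pb : PB 2 C3 [] :=
  haveI := H15.finite_Co0
  pb_slp rho par C3 ⊤ (fun g _ => rho_inj g) (hasT_I _) (fun _ => fixV) (List.forall_mem_cons.2 ⟨hasT_gens _ List.mem_cons_self, hasT_gens⟩) (e := 0) Nat.prime_two card_C3 co3p2slp co3p2chk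
    (by decide +kernel)

def co3p3Tab : ℕ := nat_lit 0x256102d459150cb000500200004d400666128c2840010800500020000208010400d4004000200010000000808d0059002200180008000000000000230012000c00040000000000000080080006000200000000000000000000020001000000000000000000000000008000000000000000000000000000000000
def co3p3QT : ℕ := nat_lit 0x1000080004000200010000800048000400020001000080004000200000000000000000000000000000000000000000000000000000000000000000000000000000000000000000000000000000000000000000000000000000000000000000000000000000000000000000000000000000000000000000000000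
def co3p3GT : ℕ := nat_lit 0x8001000200040008001000200038007000e001c0038007000e00000000000000000000000000000000000000000000000000000000000000000000000000000000000000000000000000000000000000000000000000000000000000000000000000000000000000000000000000000000000000000000000
def co3p3As : List ℕ := [nat_lit 0x4000400040, nat_lit 0x10000400040, nat_lit 0x10001000040, nat_lit 0x10001000100, nat_lit 0x10000400200, nat_lit 0x10000400010, nat_lit 0x10001000010, nat_lit 0x10000400001, nat_lit 0x4000040020, nat_lit 0x400200010, nat_lit 0x10008000400, nat_lit 0x10008000100, nat_lit 0x4002000400, nat_lit 0x400200040]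
def co3p3Fs : List (ℕ × List ℕ × List ℕ) := [(nat_lit 8, [nat_lit 61, nat_lit 61, nat_lit 61], [nat_lit 58, nat_lit 58]), (nat_lit 8, [nat_lit 63, nat_lit 64], [nat_lit 64, nat_lit 63, nat_lit 60]), (nat_lit 8, [nat_lit 61, nat_lit 63], [nat_lit 63, nat_lit 61, nat_lit 60, nat_lit 59, nat_lit 59, nat_lit 58]), (nat_lit 8, [nat_lit 62, nat_lit 63], [nat_lit 63, nat_lit 62, nat_lit 60, nat_lit 59, nat_lit 59, nat_lit 58, nat_lit 58]), (nat_lit 8, [nat_lit 63, nat_lit 63, nat_lit 63], [nat_lit 58, nat_lit 58]), (nat_lit 8, [nat_lit 59, nat_lit 62], [nat_lit 62, nat_lit 59, nat_lit 58, nat_lit 58]), (nat_lit 8, [nat_lit 59, nat_lit 64], [nat_lit 64, nat_lit 59]), (nat_lit 7, [nat_lit 56, nat_lit 57], [nat_lit 57, nat_lit 56, nat_lit 53]), (nat_lit 7, [nat_lit 55, nat_lit 57], [nat_lit 57, nat_lit 55, nat_lit 52]), (nat_lit 7, [nat_lit 55, nat_lit 56], [nat_lit 56, nat_lit 55, nat_lit 53, nat_lit 52, nat_lit 52, nat_lit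 51, nat_lit 51]), (nat_lit 7, [nat_lit 54, nat_lit 56], [nat_lit 56, nat_lit 54, nat_lit 53, nat_lit 52, nat_lit 52, nat_lit 51]), (nat_lit 7, [nat_lit 56, nat_lit 56, nat_lit 56], [nat_lit 51, nat_lit 51]), (nat_lit 7, [nat_lit 54, nat_lit 55], [nat_lit 55, nat_lit 54, nat_lit 52, nat_lit 51, nat_lit 51]), (nat_lit 7, [nat_lit 54, nat_lit 54, nat_lit 54], [nat_lit 51, nat_lit 51]), (nat_lit 7, [nat_lit 52, nat_lit 57], [nat_lit 57, nat_lit 52]), (nat_lit 7, [nat_lit 52, nat_lit 55], [nat_lit 55, nat_lit 52, nat_lit 51, nat_lit 51]), (nat_lit 7, [nat_lit 52, nat_lit 54], [nat_lit 54, nat_lit 52, nat_lit 51, nat_lit 51])]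
def co3p3Mc : List ℕ := [nat_lit 0, nat_lit 0, nat_lit 0, nat_lit 0, nat_lit 0x280040000000000000000000000000, nat_lit 0x240040000000000000000000000000, nat_lit 0x140000000000000000000000000000]
def co3p3Uc : List (ℕ × ℕ × ℕ) := []
def co3p3Cs : List (List ℕ) := [[nat_lit 0x100000000000], [nat_lit 0x400000000000, nat_lit 0x8000000000], [nat_lit 0x40000000000, nat_lit 0xa840000000000, nat_lit 0x20000000000], [nat_lit 0x400000000, nat_lit 0x52100a094158116, nat_lit 0x2a80902000100026, nat_lit 0x615a9a09645855a], [nat_lit 0x20608000000000, nat_lit 0x518a46894158110, nat_lit 0x8a801494258119, nat_lit 0x2120601480051004, nat_lit 0x1121489402600850], [nat_lit 0x1000000000, nat_lit 0x505600094158129, nat_lit 0x19498414682a4210, nat_lit 0x1105650414209008, nat_lit 0xa661518401aa224, nat_lit 0x12686a089655818a], [nat_lit 0x2040000000000, nat_lit 0x15a585000200000, nat_lit 0x659044800100010, nat_lit 0x2141a840854a112, nat_lit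 0x946649410589022, nat_lit 0x8259108885a0102, nat_lit 0x2a54a20101600094]]
def co3p3Lv : List (ℕ × List ℕ) := [(nat_lit 0x400200100080040020010010004002002000800800200200080040040010010008002001, [nat_lit 256]), (nat_lit 0x1000000000200000080000000000000004000000000000400200000000000020000000004000, [nat_lit 64]), (nat_lit 0x800000000000000000000000000000000000000000000000000000000000000000000000001, [nat_lit 1, nat_lit 4, nat_lit 16]), (nat_lit 0x400400100080040020010008004002002000800800400200100040020010008004004001, [nat_lit 1190]), (nat_lit 0x800000000000000000000000000000000000000000000000000000000000000000000000002, [nat_lit 4232])]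
theorem co3p3chk : check (nat_lit 3) (nat_lit 2) (nat_lit 7) (nat_lit 15) (nat_lit 65) (nat_lit 3) (nat_lit 2) co3p3Tab co3p3QT co3p3GT
    (Nat.mul (nat_lit 8191) (Nat.div (Nat.shiftLeft (nat_lit 1) (nat_lit 975)) (nat_lit 32767)))
    co3p3As co3p3Fs co3p3Mc co3p3Uc (cfOf co3p3Cs) = true := by decide +kernel
def co3p3Ws : List (ℕ × List ℕ) := [(nat_lit 0, [nat_lit 2, nat_lit 2, nat_lit 2, nat_lit 0, nat_lit 1, nat_lit 0, nat_lit 1, nat_lit 0, nat_lit 0]), (nat_lit 1, [nat_lit 4, nat_lit 2, nat_lit 4, nat_lit 1, nat_lit 2, nat_lit 2, nat_lit 3, nat_lit 4, nat_lit 1]), (nat_lit 5, [nat_lit 5, nat_lit 2, nat_lit 5, nat_lit 5, nat_lit 4, nat_lit 5, nat_lit 3, nat_lit 2, nat_lit 4]), (nat_lit 6, [nat_lit 4, nat_lit 4, nat_lit 3, nat_lit 5, nat_lit 3, nat_lit 5, nat_lit 6, nat_lit 4, nat_lit 3]), (nat_lit 4, [nat_lit 4, nat_lit 4, nat_lit 5, nat_lit 7, nat_lit 6, nat_lit 7, nat_lit 7, nat_lit 6, nat_lit 6]), (nat_lit 8,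 [nat_lit 5, nat_lit 5, nat_lit 6, nat_lit 7, nat_lit 8, nat_lit 8, nat_lit 8, nat_lit 7, nat_lit 6]), (nat_lit 2, [nat_lit 7, nat_lit 1, nat_lit 1, nat_lit 0, nat_lit 9, nat_lit 7, nat_lit 3, nat_lit 0, nat_lit 9, nat_lit 1, nat_lit 5]), (nat_lit 1, [nat_lit 1, nat_lit 7, nat_lit 9, nat_lit 9, nat_lit 9, nat_lit 10, nat_lit 4, nat_lit 8, nat_lit 10, nat_lit 9, nat_lit 3, nat_lit 7]), (nat_lit 7, [nat_lit 6, nat_lit 2, nat_lit 2, nat_lit 11, nat_lit 4, nat_lit 4, nat_lit 10, nat_lit 10, nat_lit 5, nat_lit 4]), (nat_lit 12, [nat_lit 7, nat_lit 9, nat_lit 5, nat_lit 5, nat_lit 7, nat_lit 9, nat_lit 8, nat_lit 6, nat_lit 4, nat_lit 7]), (nat_lit 12, [nat_lit 10, nat_lit 10, nat_lit 12, nat_lit 8, nat_lit 5, nat_lit 13, nat_lit 10, nat_lit 7, nat_lit 4, nat_lit 5, nat_lit 7]), (nat_lit 12, [nat_lit 5, nat_lit 13, nat_lit 11, nat_lit 14, nat_lit 10, nat_lit 7, nat_lit 11, nat_lit 11, nat_lit 10, nat_lit 8]), (nat_lit 3, [nat_lit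 3, nat_lit 3, nat_lit 0, nat_lit 3, nat_lit 0, nat_lit 2, nat_lit 4, nat_lit 2, nat_lit 1, nat_lit 1, nat_lit 3]), (nat_lit 4, [nat_lit 6, nat_lit 1, nat_lit 4, nat_lit 2, nat_lit 4, nat_lit 1, nat_lit 1, nat_lit 1, nat_lit 2, nat_lit 5]), (nat_lit 2, [nat_lit 7, nat_lit 6, nat_lit 4, nat_lit 4, nat_lit 6, nat_lit 5, nat_lit 2, nat_lit 7, nat_lit 4, nat_lit 2, nat_lit 6, nat_lit 5]), (nat_lit 6, [nat_lit 5, nat_lit 3, nat_lit 3, nat_lit 4, nat_lit 5, nat_lit 4, nat_lit 4, nat_lit 5, nat_lit 4, nat_lit 7, nat_lit 8]), (nat_lit 4, [nat_lit 6, nat_lit 8, nat_lit 4, nat_lit 7, nat_lit 6, nat_lit 8, nat_lit 9, nat_lit 4, nat_lit 6, nat_lit 5, nat_lit 9, nat_lit 8]), (nat_lit 6, [nat_lit 7, nat_lit 8, nat_lit 7, nat_lit 5, nat_lit 9, nat_lit 8, nat_lit 8, nat_lit 7, nat_lit 7, nat_lit 8, nat_lit 10, nat_lit 10]), (nat_lit 2, [nat_lit 3, nat_lit 1, nat_lit 2, nat_lit 5, nat_lit 0, nat_lit 3, nat_lit 5, nat_lit 5, nat_lit 4,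 nat_lit 1]), (nat_lit 1, [nat_lit 4, nat_lit 2, nat_lit 3, nat_lit 3, nat_lit 6, nat_lit 2, nat_lit 6, nat_lit 3, nat_lit 3, nat_lit 2, nat_lit 6]), (nat_lit 2, [nat_lit 2, nat_lit 6, nat_lit 3, nat_lit 3, nat_lit 4, nat_lit 6, nat_lit 7, nat_lit 3, nat_lit 6, nat_lit 3, nat_lit 7]), (nat_lit 5, [nat_lit 8, nat_lit 4, nat_lit 8, nat_lit 4, nat_lit 3, nat_lit 8, nat_lit 5, nat_lit 8, nat_lit 3, nat_lit 3, nat_lit 6]), (nat_lit 5, [nat_lit 8, nat_lit 5, nat_lit 5, nat_lit 4, nat_lit 7, nat_lit 9, nat_lit 9, nat_lit 6, nat_lit 9, nat_lit 6, nat_lit 6, nat_lit 8]), (nat_lit 6, [nat_lit 6, nat_lit 7, nat_lit 10, nat_lit 9, nat_lit 9, nat_lit 9, nat_lit 10, nat_lit 6, nat_lit 6, nat_lit 6, nat_lit 8]), (nat_lit 1, [nat_lit 1, nat_lit 2, nat_lit 5, nat_lit 1, nat_lit 5, nat_lit 2, nat_lit 2, nat_lit 1, nat_lit 2, nat_lit 3]), (nat_lit 20, [nat_lit 25, nat_lit 22, nat_lit 21, nat_lit 16, nat_lit 16, nat_lit 16, nat_lit 15,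 nat_lit 16, nat_lit 16, nat_lit 16, nat_lit 11, nat_lit 9, nat_lit 10, nat_lit 11, nat_lit 7, nat_lit 10, nat_lit 2, nat_lit 6, nat_lit 1, nat_lit 3, nat_lit 2]), (nat_lit 25, [nat_lit 22, nat_lit 26, nat_lit 25, nat_lit 21, nat_lit 23, nat_lit 16, nat_lit 15, nat_lit 19, nat_lit 18, nat_lit 10, nat_lit 13, nat_lit 8, nat_lit 13, nat_lit 11, nat_lit 13, nat_lit 3, nat_lit 5, nat_lit 6, nat_lit 5, nat_lit 5, nat_lit 1]), (nat_lit 27, [nat_lit 27, nat_lit 27, nat_lit 16, nat_lit 18, nat_lit 16, nat_lit 16, nat_lit 19, nat_lit 20, nat_lit 12, nat_lit 12, nat_lit 10, nat_lit 14, nat_lit 11, nat_lit 13, nat_lit 14, nat_lit 7, nat_lit 8, nat_lit 8, nat_lit 3, nat_lit 7]), (nat_lit 28, [nat_lit 29, nat_lit 26, nat_lit 25, nat_lit 24, nat_lit 31, nat_lit 16, nat_lit 20, nat_lit 18, nat_lit 20, nat_lit 21, nat_lit 17, nat_lit 20, nat_lit 15, nat_lit 12, nat_lit 15, nat_lit 11, nat_lit 10, nat_lit 13, nat_lit 13, nat_lit 7, nat_lit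 6, nat_lit 8, nat_lit 8, nat_lit 3]), (nat_lit 32, [nat_lit 24, nat_lit 28, nat_lit 28, nat_lit 23, nat_lit 25, nat_lit 19, nat_lit 22, nat_lit 22, nat_lit 17, nat_lit 19, nat_lit 22, nat_lit 19, nat_lit 16, nat_lit 13, nat_lit 13, nat_lit 15, nat_lit 6, nat_lit 8, nat_lit 10, nat_lit 10, nat_lit 9, nat_lit 8, nat_lit 4]), (nat_lit 26, [nat_lit 24, nat_lit 33, nat_lit 25, nat_lit 29, nat_lit 19, nat_lit 18, nat_lit 18, nat_lit 22, nat_lit 21, nat_lit 13, nat_lit 14, nat_lit 17, nat_lit 14, nat_lit 16, nat_lit 8, nat_lit 7, nat_lit 9, nat_lit 5]), (nat_lit 29, [nat_lit 27, nat_lit 25, nat_lit 28, nat_lit 31, nat_lit 29, nat_lit 23, nat_lit 22, nat_lit 20, nat_lit 22, nat_lit 24, nat_lit 23, nat_lit 18, nat_lit 16, nat_lit 17, nat_lit 15, nat_lit 14, nat_lit 15, nat_lit 18, nat_lit 9, nat_lit 11, nat_lit 8, nat_lit 10, nat_lit 6]), (nat_lit 35, [nat_lit 26, nat_lit 27, nat_lit 28, nat_lit 34, nat_lit 32, nat_lit 25, nat_lit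 22, nat_lit 22, nat_lit 21, nat_lit 22, nat_lit 23, nat_lit 24, nat_lit 19, nat_lit 18, nat_lit 19, nat_lit 19, nat_lit 18, nat_lit 16, nat_lit 12, nat_lit 12, nat_lit 10, nat_lit 10]), (nat_lit 31, [nat_lit 31, nat_lit 29, nat_lit 29, nat_lit 27, nat_lit 26, nat_lit 24, nat_lit 22, nat_lit 26, nat_lit 25, nat_lit 23, nat_lit 26, nat_lit 18, nat_lit 15, nat_lit 18, nat_lit 19, nat_lit 17, nat_lit 20, nat_lit 9, nat_lit 13, nat_lit 12, nat_lit 12])]
theorem co3p3slp : slpOK mu (fun A => Nat.beq (mu cV A) cV) g0 [g0, g1, g2, g3] co3p3Ws I (nat_lit 3) (nat_lit 2) (nat_lit 7) (nat_lit 15) (nat_lit 65) (nat_lit 9) co3p3Tab co3p3QT co3p3GT (nat_lit 127) co3p3Lv = true := by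
  decide +kernel
theorem co3p3pb : PB 3 C3 [] :=
  haveI := H15.finite_Co0
  pb_slp rho par C3 ⊤ (fun g _ => rho_inj g) (hasT_I _) (fun _ => fixV) (List.forall_mem_cons.2 ⟨hasT_gens _ List.mem_cons_self, hasT_gens⟩) (e := 0) Nat.prime_three card_C3 co3p3slp co3p3chk
    (by decide +kernel)

def co3p5Tab : ℕ := nat_lit 0x72013002000048010000000080000000000000
def co3p5QT : ℕ := nat_lit 0x20008002000000000000000000000000000000
def co3p5GT : ℕ := nat_lit 0x1803006000000000000000000000000000000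
def co3p5As : List ℕ := [nat_lit 0x1001020]
def co3p5Fs : List (ℕ × List ℕ × List ℕ) := [(nat_lit 3, [nat_lit 13, nat_lit 13, nat_lit 13, nat_lit 13, nat_lit 13], []), (nat_lit 3, [nat_lit 12, nat_lit 12, nat_lit 12, nat_lit 12, nat_lit 12], []), (nat_lit 3, [nat_lit 11, nat_lit 13], [nat_lit 13, nat_lit 11]), (nat_lit 3, [nat_lit 11, nat_lit 12], [nat_lit 12, nat_lit 11])]
def co3p5Mc : List ℕ := [nat_lit 0, nat_lit 0, nat_lit 0x200000]
def co3p5Uc : List (ℕ × ℕ × ℕ) := []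
def co3p5Cs : List (List ℕ) := [[nat_lit 4096], [nat_lit 4, nat_lit 8448], [nat_lit 18, nat_lit 0, nat_lit 5248]]
def co3p5Lv : List (ℕ × List ℕ) := [(nat_lit 0x800000000000000000000000000000000000000000000000000000000000000000000000001, [nat_lit 1, nat_lit 8]), (nat_lit 0x800000000000000000000000000000000000000000000000000000000000000000000000002, [nat_lit 73])]
theorem co3p5chk : check (nat_lit 5) (nat_lit 3) (nat_lit 3) (nat_lit 11) (nat_lit 14) (nat_lit 5) (nat_lit 3) co3p5Tab co3p5QT co3p5GT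
    (Nat.mul (nat_lit 255) (Nat.div (Nat.shiftLeft (nat_lit 1) (nat_lit 154)) (nat_lit 2047)))
    co3p5As co3p5Fs co3p5Mc co3p5Uc (cfOf co3p5Cs) = true := by decide +kernel
def co3p5Ws : List (ℕ × List ℕ) := [(nat_lit 0, [nat_lit 2, nat_lit 2, nat_lit 2, nat_lit 0, nat_lit 1, nat_lit 0, nat_lit 1, nat_lit 0, nat_lit 0]), (nat_lit 1, [nat_lit 4, nat_lit 2, nat_lit 4, nat_lit 1, nat_lit 2, nat_lit 2, nat_lit 3, nat_lit 4, nat_lit 1]), (nat_lit 5, [nat_lit 5, nat_lit 2, nat_lit 5, nat_lit 5, nat_lit 4, nat_lit 5, nat_lit 3, nat_lit 2, nat_lit 4]), (nat_lit 6, [nat_lit 4, nat_lit 4, nat_lit 3, nat_lit 5, nat_lit 3, nat_lit 5, nat_lit 6, nat_lit 4, nat_lit 3]), (nat_lit 4, [nat_lit 4, nat_lit 4, nat_lit 5, nat_lit 7, nat_lit 6, nat_lit 7, nat_lit 7, nat_lit 6, nat_lit 6]), (nat_lit 8, [nat_lit 5, nat_lit 5, nat_lit 6, nat_lit 7, nat_lit 8, nat_lit 8, nat_lit 8, nat_lit 7, nat_lit 6]), (nat_lit 2, [nat_lit 7, nat_lit 1,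 nat_lit 1, nat_lit 0, nat_lit 9, nat_lit 7, nat_lit 3, nat_lit 0, nat_lit 9, nat_lit 1, nat_lit 5]), (nat_lit 1, [nat_lit 1, nat_lit 7, nat_lit 9, nat_lit 9, nat_lit 9, nat_lit 10, nat_lit 4, nat_lit 8, nat_lit 10, nat_lit 9, nat_lit 3, nat_lit 7]), (nat_lit 7, [nat_lit 6, nat_lit 2, nat_lit 2, nat_lit 11, nat_lit 4, nat_lit 4, nat_lit 10, nat_lit 10, nat_lit 5, nat_lit 4]), (nat_lit 12, [nat_lit 7, nat_lit 9, nat_lit 5, nat_lit 5, nat_lit 7, nat_lit 9, nat_lit 8, nat_lit 6, nat_lit 4, nat_lit 7]), (nat_lit 12, [nat_lit 10, nat_lit 10, nat_lit 12, nat_lit 8, nat_lit 5, nat_lit 13, nat_lit 10, nat_lit 7, nat_lit 4, nat_lit 5, nat_lit 7]), (nat_lit 12, [nat_lit 5, nat_lit 13, nat_lit 11, nat_lit 14, nat_lit 10, nat_lit 7, nat_lit 11, nat_lit 11, nat_lit 10, nat_lit 8]), (nat_lit 3, [nat_lit 3, nat_lit 3, nat_lit 0, nat_lit 3, nat_lit 0, nat_lit 2, nat_lit 4, nat_lit 2, nat_lit 1, nat_lit 1, nat_lit 3]), (nat_lit 4, [nat_lit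 6, nat_lit 1, nat_lit 4, nat_lit 2, nat_lit 4, nat_lit 1, nat_lit 1, nat_lit 1, nat_lit 2, nat_lit 5]), (nat_lit 2, [nat_lit 7, nat_lit 6, nat_lit 4, nat_lit 4, nat_lit 6, nat_lit 5, nat_lit 2, nat_lit 7, nat_lit 4, nat_lit 2, nat_lit 6, nat_lit 5]), (nat_lit 6, [nat_lit 5, nat_lit 3, nat_lit 3, nat_lit 4, nat_lit 5, nat_lit 4, nat_lit 4, nat_lit 5, nat_lit 4, nat_lit 7, nat_lit 8]), (nat_lit 4, [nat_lit 6, nat_lit 8, nat_lit 4, nat_lit 7, nat_lit 6, nat_lit 8, nat_lit 9, nat_lit 4, nat_lit 6, nat_lit 5, nat_lit 9, nat_lit 8]), (nat_lit 6, [nat_lit 7, nat_lit 8, nat_lit 7, nat_lit 5, nat_lit 9, nat_lit 8, nat_lit 8, nat_lit 7, nat_lit 7, nat_lit 8, nat_lit 10, nat_lit 10]), (nat_lit 2, [nat_lit 3, nat_lit 1, nat_lit 2, nat_lit 5, nat_lit 0, nat_lit 3, nat_lit 5, nat_lit 5, nat_lit 4, nat_lit 1]), (nat_lit 1, [nat_lit 4, nat_lit 2, nat_lit 3, nat_lit 3, nat_lit 6, nat_lit 2, nat_lit 6, nat_lit 3, nat_lit 3, nat_lit 2,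 nat_lit 6]), (nat_lit 2, [nat_lit 2, nat_lit 6, nat_lit 3, nat_lit 3, nat_lit 4, nat_lit 6, nat_lit 7, nat_lit 3, nat_lit 6, nat_lit 3, nat_lit 7]), (nat_lit 5, [nat_lit 8, nat_lit 4, nat_lit 8, nat_lit 4, nat_lit 3, nat_lit 8, nat_lit 5, nat_lit 8, nat_lit 3, nat_lit 3, nat_lit 6]), (nat_lit 5, [nat_lit 8, nat_lit 5, nat_lit 5, nat_lit 4, nat_lit 7, nat_lit 9, nat_lit 9, nat_lit 6, nat_lit 9, nat_lit 6, nat_lit 6, nat_lit 8]), (nat_lit 6, [nat_lit 6, nat_lit 7, nat_lit 10, nat_lit 9, nat_lit 9, nat_lit 9, nat_lit 10, nat_lit 6, nat_lit 6, nat_lit 6, nat_lit 8]), (nat_lit 1, [nat_lit 1, nat_lit 2, nat_lit 5, nat_lit 1, nat_lit 5, nat_lit 2, nat_lit 2, nat_lit 1, nat_lit 2, nat_lit 3]), (nat_lit 26, [nat_lit 21, nat_lit 27, nat_lit 25, nat_lit 21, nat_lit 14, nat_lit 14, nat_lit 14, nat_lit 16, nat_lit 13, nat_lit 14, nat_lit 15, nat_lit 12, nat_lit 10, nat_lit 11, nat_lit 11, nat_lit 8, nat_lit 11, nat_lit 5, nat_lit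 2, nat_lit 4, nat_lit 6, nat_lit 4, nat_lit 0]), (nat_lit 27, [nat_lit 22, nat_lit 29, nat_lit 23, nat_lit 26, nat_lit 26, nat_lit 16, nat_lit 17, nat_lit 15, nat_lit 16, nat_lit 14, nat_lit 14, nat_lit 18, nat_lit 9, nat_lit 10, nat_lit 10, nat_lit 11, nat_lit 10, nat_lit 13, nat_lit 13, nat_lit 6, nat_lit 7, nat_lit 3, nat_lit 5, nat_lit 2, nat_lit 1]), (nat_lit 29, [nat_lit 26, nat_lit 30, nat_lit 27, nat_lit 30, nat_lit 25, nat_lit 16, nat_lit 15, nat_lit 18, nat_lit 18, nat_lit 20, nat_lit 16, nat_lit 20, nat_lit 9, nat_lit 12, nat_lit 12, nat_lit 12, nat_lit 10, nat_lit 13, nat_lit 8, nat_lit 5, nat_lit 5, nat_lit 4, nat_lit 3, nat_lit 2]), (nat_lit 26, [nat_lit 24, nat_lit 22, nat_lit 25, nat_lit 28, nat_lit 26, nat_lit 17, nat_lit 17, nat_lit 20, nat_lit 19, nat_lit 18, nat_lit 16, nat_lit 11, nat_lit 15, nat_lit 11, nat_lit 10, nat_lit 12, nat_lit 11, nat_lit 15, nat_lit 9, nat_lit 4, nat_lit 6, nat_lit 5,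 nat_lit 4, nat_lit 9, nat_lit 3])]
theorem co3p5slp : slpOK mu (fun A => Nat.beq (mu cV A) cV) g0 [g0, g1, g2, g3] co3p5Ws I (nat_lit 5) (nat_lit 3) (nat_lit 3) (nat_lit 11) (nat_lit 14) (nat_lit 4) co3p5Tab co3p5QT co3p5GT (nat_lit 90) co3p5Lv = true := by
  decide +kernel
theorem co3p5pb : PB 5 C3 [] :=
  haveI := H15.finite_Co0
  pb_slp rho par C3 ⊤ (fun g _ => rho_inj g) (hasT_I _) (fun _ => fixV) (List.forall_mem_cons.2 ⟨hasT_gens _ List.mem_cons_self, hasT_gens⟩) (e := 0) Nat.prime_five card_C3 co3p5slp co3p5chk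
    (by decide +kernel)

end Cfsg.Agent.H63.Le
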