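/-
Bounds for the Schur multiplier of 3.J3 (generated certificates).
-/
import Cfsg.Agent.H63.Mod

set_option autoImplicit false
set_option maxRecDepth 100000

namespace Cfsg.Agent.H63.J3

open H14

def MASK : ℕ := nat_lit 0x7c000000000000000000001f0000000000000000000007c000000000000000000001f0000000000000000000007c000000000000000000001f0000000000000000000007c000000000000000000001f0000000000000000000007c000000000000000000001f0000000000000000000007c000000000000000000001f0000000000000000000007c000000000000000000001f0000000000000000000007c000000000000000000001f0000000000000000000007c000000000000000000001f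
def QM : ℕ := nat_lit 0x7bdef7bdef7bdef7bdef7bdef7bdef7bdef7bdef7bdef7bdef7bdef7bdef7bdef7bdef7bdef7bdef7bdef7bdef7bdef7bdef7bdef7bdef7bdef7bdef7bdef7bdef7bdef7bdef7bdef7bdef7bdef7bdef7bdef7bdef7bdef7bdef7bdef7bdef7bdef7bdef7bdef7bdef7bdef7bdef7bdef7bdef7bdef7bdef7bdef7bdef7bdef7bdef7bdef7bdef7bdef7bdef7bdef7bdef7bdef7bdef7bdef7bdef7bdef7bdef7bdef7bdef7bdef7bdef7bdef7bdef7bdef7bdef7bdef7bdef7bdef7bdef7bdef7bdef7bdef7bdef7bdef
def I : ℕ := nat_lit 0x80000000000000000000000100000000000000000000000200000000000000000000000400000000000000000000000800000000000000000000001000000000000000000000002000000000000000000000004000000000000000000000008000000000000000000000010000000000000000000000020000000000000000000000040000000000000000000000080000000000000000000000100000000000000000000000200000000000000000000000400000000000000000000000800000000000000000000001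
noncomputable abbrev mu : ℕ → ℕ → ℕ := mulM (nat_lit 18) (nat_lit 2) (nat_lit 5) (nat_lit 1) (nat_lit 1) (nat_lit 90) (nat_lit 0x40000000000000000000000) MASK QM
theorem par : parOK (nat_lit 18) (nat_lit 2) (nat_lit 5) (nat_lit 1) (nat_lit 1) (nat_lit 90) (nat_lit 0x40000000000000000000000) MASK QM = true := by decide +kernel
theorem id : idOK (nat_lit 18) (nat_lit 2) (nat_lit 5) I = true := by decide +kernel
def gens : List ℕ := [nat_lit 0x200800100001080200040000401084000840100421004200042008000084210002100421004010002008000084200002100021084210042000400080000802008021080210040108401000000040108021084200840000021000210040000020000200800008021000000040000401000210000000020080210840008000000000040108020080200040100421080210840100421084210800108020084010842008000080000802008420004010000100001000210042008421084210000008021004200802008000, nat_lit 0x4210802100001080000802108001080000840100001000010040008020084010800008421000010042008401080210802108400004010000108001080200002108400000000042008020080010040000021004010040108421000000000008001004200840000000000010842100420000200002008421080210840000400004200800108020004010800100021000200042108401084000800000421084010042108401084000002008421080200842000000084010802108000000210802008401080010000008001]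

def p2Tab : ℕ := nat_lit 0x2e174965e07020402d0080050100481804010000428090280c0200000001605010040000000040a02008000000000040401000000000000000200000000000000000000
def p2QT : ℕ := nat_lit 0x240500401100200802008000000000000000000000000000000000000000000000000000000000000000000000000000000000000000000000000000000000000000000
def p2GT : ℕ := nat_lit 0x402010080381c0e07038000000000000000000000000000000000000000000000000000000000000000000000000000000000000000000000000000000000000000000
def p2As : List ℕ := [nat_lit 0x101010, nat_lit 0x101004, nat_lit 263176, nat_lit 0x100804, nat_lit 0x101020, nat_lit 0x100204, nat_lit 528400, nat_lit 526352, nat_lit 264200, nat_lit 524546, nat_lit 0x102020, nat_lit 66050, nat_lit 0x102008, nat_lit 0x102004, nat_lit 264196, nat_lit 528416, nat_lit 132104, nat_lit 66052]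
def p2Fs : List (ℕ × List ℕ × List ℕ) := [(nat_lit 8, [nat_lit 58, nat_lit 58], []), (nat_lit 8, [nat_lit 56, nat_lit 56], []), (nat_lit 8, [nat_lit 57, nat_lit 57], []), (nat_lit 7, [nat_lit 52, nat_lit 52], []), (nat_lit 7, [nat_lit 53, nat_lit 54], [nat_lit 54, nat_lit 53, nat_lit 51]), (nat_lit 7, [nat_lit 54, nat_lit 54], [nat_lit 51]), (nat_lit 7, [nat_lit 53, nat_lit 53], [nat_lit 51])]
def p2Mc : List ℕ := [nat_lit 0, nat_lit 0, nat_lit 0, nat_lit 0x800000000000, nat_lit 0x8000000000, nat_lit 0x100000000000, nat_lit 0x200000000000]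
def p2Uc : List (ℕ × ℕ × ℕ) := []
def p2Cs : List (List ℕ) := [[nat_lit 40960], [nat_lit 8192, nat_lit 0x21b400], [nat_lit 128, nat_lit 0x290400, nat_lit 0x25f38d], [nat_lit 256, nat_lit 0x619100, nat_lit 0x105106, nat_lit 57344], [nat_lit 41984, nat_lit 0x209000, nat_lit 0x27530d, nat_lit 0x118c186, nat_lit 0x6a18e0], [nat_lit 512, nat_lit 0xf1d006, nat_lit 0x21f78d, nat_lit 0x10f100, nat_lit 0, nat_lit 0x25f38e], [nat_lit 45056, nat_lit 0x21bc00, nat_lit 0, nat_lit 0, nat_lit 0x1603dd0, nat_lit 0, nat_lit 0x405d10]]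
def p2Lv : List (ℕ × List ℕ) := [(nat_lit 0x100021084010802108000, [nat_lit 2, nat_lit 4, nat_lit 16]), (nat_lit 0x108401080200842008401, [nat_lit 80]), (nat_lit 0x108021004200042000401, [nat_lit 15]), (nat_lit 0x400004210042008420, [nat_lit 44]), (nat_lit 1, [nat_lit 1])]
theorem p2chk : check (nat_lit 2) (nat_lit 1) (nat_lit 7) (nat_lit 9) (nat_lit 60) (nat_lit 2) (nat_lit 1) p2Tab p2QT p2GT
    (Nat.mul (nat_lit 255) (Nat.div (Nat.shiftLeft (nat_lit 1) (nat_lit 540)) (nat_lit 511)))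
    p2As p2Fs p2Mc p2Uc (cfOf p2Cs) = true := by decide +kernel
def p2Ws : List (ℕ × List ℕ) := [(nat_lit 0, [nat_lit 0, nat_lit 0, nat_lit 0, nat_lit 0, nat_lit 1, nat_lit 0, nat_lit 1, nat_lit 0, nat_lit 0]), (nat_lit 1, [nat_lit 2, nat_lit 2, nat_lit 2, nat_lit 1, nat_lit 2, nat_lit 2, nat_lit 1, nat_lit 2, nat_lit 1]), (nat_lit 3, [nat_lit 3, nat_lit 2, nat_lit 3, nat_lit 3, nat_lit 2, nat_lit 3, nat_lit 3, nat_lit 2, nat_lit 2]), (nat_lit 4, [nat_lit 4, nat_lit 4, nat_lit 3, nat_lit 3, nat_lit 3, nat_lit 3, nat_lit 4, nat_lit 4, nat_lit 3]), (nat_lit 4, [nat_lit 4, nat_lit 4, nat_lit 5, nat_lit 5, nat_lit 4, nat_lit 5, nat_lit 5, nat_lit 4, nat_lit 4]), (nat_lit 6, [nat_lit 5, nat_lit 5, nat_lit 6, nat_lit 5, nat_lit 6, nat_lit 6, nat_lit 6, nat_lit 5, nat_lit 6]), (nat_lit 4, [nat_lit 0, nat_lit 3, nat_lit 6, nat_lit 0, nat_lit 2, nat_lit 3, nat_lit 0, nat_lit 4, nat_lit 1, nat_lit 2]), (nat_lit 3, [nat_lit 1, nat_lit 6, nat_lit 6, nat_lit 7, nat_lit 4, nat_lit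 5, nat_lit 5, nat_lit 8, nat_lit 1, nat_lit 7]), (nat_lit 3, [nat_lit 6, nat_lit 2, nat_lit 2, nat_lit 9, nat_lit 4, nat_lit 9, nat_lit 5, nat_lit 5, nat_lit 5, nat_lit 2, nat_lit 2]), (nat_lit 7, [nat_lit 10, nat_lit 8, nat_lit 10, nat_lit 5, nat_lit 10, nat_lit 9, nat_lit 7, nat_lit 5, nat_lit 3, nat_lit 8, nat_lit 8]), (nat_lit 5, [nat_lit 7, nat_lit 7, nat_lit 9, nat_lit 8, nat_lit 7, nat_lit 7, nat_lit 10, nat_lit 6, nat_lit 8, nat_lit 7, nat_lit 8]), (nat_lit 9, [nat_lit 9, nat_lit 10, nat_lit 6, nat_lit 5, nat_lit 11, nat_lit 9, nat_lit 8, nat_lit 7, nat_lit 9, nat_lit 11, nat_lit 9]), (nat_lit 7, [nat_lit 13, nat_lit 9, nat_lit 10, nat_lit 9, nat_lit 4, nat_lit 4, nat_lit 0, nat_lit 5]), (nat_lit 9, [nat_lit 12, nat_lit 14, nat_lit 10, nat_lit 11, nat_lit 4, nat_lit 1, nat_lit 2, nat_lit 5, nat_lit 6]), (nat_lit 8, [nat_lit 11, nat_lit 15, nat_lit 14, nat_lit 11, nat_lit 12, nat_lit 4, nat_lit 3, nat_lit 7, nat_lit 6, nat_lit 7]), (nat_lit 13, [nat_lit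 11, nat_lit 9, nat_lit 10, nat_lit 12, nat_lit 8, nat_lit 6, nat_lit 4, nat_lit 4, nat_lit 6]), (nat_lit 15, [nat_lit 15, nat_lit 17, nat_lit 10, nat_lit 17, nat_lit 6, nat_lit 8, nat_lit 4, nat_lit 9]), (nat_lit 11, [nat_lit 17, nat_lit 16, nat_lit 11, nat_lit 17, nat_lit 6, nat_lit 8, nat_lit 8, nat_lit 9, nat_lit 10]), (nat_lit 13, [nat_lit 12, nat_lit 19, nat_lit 13, nat_lit 8, nat_lit 8, nat_lit 8, nat_lit 9]), (nat_lit 20, [nat_lit 15, nat_lit 17, nat_lit 13, nat_lit 19, nat_lit 11, nat_lit 10, nat_lit 9, nat_lit 12, nat_lit 12]), (nat_lit 18, [nat_lit 21, nat_lit 17, nat_lit 19, nat_lit 18, nat_lit 21, nat_lit 13, nat_lit 11, nat_lit 9, nat_lit 8])]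
theorem p2slp : slpOK mu (fun _ => true) I gens p2Ws I (nat_lit 2) (nat_lit 1) (nat_lit 7) (nat_lit 9) (nat_lit 60) (nat_lit 9) p2Tab p2QT p2GT (nat_lit 21) p2Lv = true := by
  decide +kernel
theorem p2pb {G : Type*} [Group G] [Finite G] (hM : Mod G (nat_lit 18) (nat_lit 2) (nat_lit 5) gens) (ho : Nat.card G = 150698880) :
    PB 2 G [] :=
  hM.pb par id (e := 0) Nat.prime_two ho p2slp p2chk (by decide +kernel)

def p3Tab : ℕ := nat_lit 0x5021aa01040150130004012140028004400800100000480880100028004000000000004000800100000000000000020004000000000000000000100000000000000000000000000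
def p3QT : ℕ := nat_lit 0x20004000800100020004000000000000000000000000000000000000000000000000000000000000000000000000000000000000000000000000000000000000000000000000000
def p3GT : ℕ := nat_lit 0x3001800c0060030018000000000000000000000000000000000000000000000000000000000000000000000000000000000000000000000000000000000000000000000000000
def p3As : List ℕ := [nat_lit 0x400800100, nat_lit 0x400100200, nat_lit 0x400100010, nat_lit 0x400100004, nat_lit 0x400800400, nat_lit 0x100200100, nat_lit 0x400100001, nat_lit 0x400040080, nat_lit 0x100040080, nat_lit 0x100040010, nat_lit 0x100040001, nat_lit 0x100004008, nat_lit 0x100010004]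
def p3Fs : List (ℕ × List ℕ × List ℕ) := [(nat_lit 6, [nat_lit 42, nat_lit 43], [nat_lit 43, nat_lit 42, nat_lit 41]), (nat_lit 6, [nat_lit 42, nat_lit 42, nat_lit 42], [nat_lit 40, nat_lit 38, nat_lit 38]), (nat_lit 6, [nat_lit 43, nat_lit 43, nat_lit 43], [nat_lit 39, nat_lit 39, nat_lit 38]), (nat_lit 6, [nat_lit 41, nat_lit 42], [nat_lit 42, nat_lit 41, nat_lit 39]), (nat_lit 6, [nat_lit 41, nat_lit 43], [nat_lit 43, nat_lit 41, nat_lit 40]), (nat_lit 6, [nat_lit 40, nat_lit 43], [nat_lit 43, nat_lit 40, nat_lit 38]), (nat_lit 6, [nat_lit 40, nat_lit 41], [nat_lit 41, nat_lit 40]), (nat_lit 6, [nat_lit 38, nat_lit 43], [nat_lit 43, nat_lit 38])]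
def p3Mc : List ℕ := [nat_lit 0, nat_lit 0, nat_lit 0x60800000000000000000, nat_lit 0x18400000000000000000, nat_lit 0x20400000000000000000, nat_lit 0x20800000000000000000]
def p3Uc : List (ℕ × ℕ × ℕ) := []
def p3Cs : List (List ℕ) := [[nat_lit 262144], [nat_lit 0x100000, nat_lit 0x1000000], [nat_lit 65536, nat_lit 0x800000, nat_lit 0x4000000], [nat_lit 0x10000000, nat_lit 0x2800020009, nat_lit 0x2810210005, nat_lit 0x19815140000], [nat_lit 0x241012000a, nat_lit 0x9444261505, nat_lit 0x249012000a, nat_lit 0x190691a2a88, nat_lit 0x99a1621a1], [nat_lit 0x2410020009, nat_lit 0x2510020009, nat_lit 0x1284a0a1505, nat_lit 0x48590a2808, nat_lit 0xaa91459508, nat_lit 0]]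
def p3Lv : List (ℕ × List ℕ) := [(nat_lit 0x2100020080010842108000, [nat_lit 1, nat_lit 256, nat_lit 1024]), (nat_lit 0x2008020004010800108021, [nat_lit 6]), (nat_lit 0x20080010000000000, [nat_lit 26]), (nat_lit 1, [nat_lit 84])]
theorem p3chk : check (nat_lit 3) (nat_lit 2) (nat_lit 6) (nat_lit 13) (nat_lit 44) (nat_lit 3) (nat_lit 2) p3Tab p3QT p3GT
    (Nat.mul (nat_lit 2047) (Nat.div (Nat.shiftLeft (nat_lit 1) (nat_lit 572)) (nat_lit 8191)))
    p3As p3Fs p3Mc p3Uc (cfOf p3Cs) = true := by decide +kernel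
def p3Ws : List (ℕ × List ℕ) := [(nat_lit 0, [nat_lit 0, nat_lit 0, nat_lit 0, nat_lit 0, nat_lit 1, nat_lit 0, nat_lit 1, nat_lit 0, nat_lit 0]), (nat_lit 1, [nat_lit 2, nat_lit 2, nat_lit 2, nat_lit 1, nat_lit 2, nat_lit 2, nat_lit 1, nat_lit 2, nat_lit 1]), (nat_lit 3, [nat_lit 3, nat_lit 2, nat_lit 3, nat_lit 3, nat_lit 2, nat_lit 3, nat_lit 3, nat_lit 2, nat_lit 2]), (nat_lit 4, [nat_lit 4, nat_lit 4, nat_lit 3, nat_lit 3, nat_lit 3, nat_lit 3, nat_lit 4, nat_lit 4, nat_lit 3]), (nat_lit 4, [nat_lit 4, nat_lit 4, nat_lit 5, nat_lit 5, nat_lit 4, nat_lit 5, nat_lit 5, nat_lit 4, nat_lit 4]), (nat_lit 6, [nat_lit 5, nat_lit 5, nat_lit 6, nat_lit 5, nat_lit 6, nat_lit 6, nat_lit 6, nat_lit 5, nat_lit 6]), (nat_lit 4, [nat_lit 0, nat_lit 3, nat_lit 6, nat_lit 0, nat_lit 2, nat_lit 3, nat_lit 0, nat_lit 4, nat_lit 1, nat_lit 2]), (nat_lit 3, [nat_lit 1, nat_lit 6, nat_lit 6, nat_lit 7, nat_lit 4, nat_lit 5, nat_lit 5, nat_lit 8, nat_lit 1, nat_lit 7]), (nat_lit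 3, [nat_lit 6, nat_lit 2, nat_lit 2, nat_lit 9, nat_lit 4, nat_lit 9, nat_lit 5, nat_lit 5, nat_lit 5, nat_lit 2, nat_lit 2]), (nat_lit 7, [nat_lit 10, nat_lit 8, nat_lit 10, nat_lit 5, nat_lit 10, nat_lit 9, nat_lit 7, nat_lit 5, nat_lit 3, nat_lit 8, nat_lit 8]), (nat_lit 5, [nat_lit 7, nat_lit 7, nat_lit 9, nat_lit 8, nat_lit 7, nat_lit 7, nat_lit 10, nat_lit 6, nat_lit 8, nat_lit 7, nat_lit 8]), (nat_lit 9, [nat_lit 9, nat_lit 10, nat_lit 6, nat_lit 5, nat_lit 11, nat_lit 9, nat_lit 8, nat_lit 7, nat_lit 9, nat_lit 11, nat_lit 9]), (nat_lit 8, [nat_lit 10, nat_lit 9, nat_lit 10, nat_lit 8, nat_lit 3, nat_lit 1, nat_lit 1, nat_lit 3]), (nat_lit 10, [nat_lit 12, nat_lit 13, nat_lit 11, nat_lit 10, nat_lit 13, nat_lit 4, nat_lit 4, nat_lit 3, nat_lit 5, nat_lit 3]), (nat_lit 11, [nat_lit 11, nat_lit 14, nat_lit 12, nat_lit 12, nat_lit 3, nat_lit 5, nat_lit 3, nat_lit 4]), (nat_lit 10, [nat_lit 13, nat_lit 16, nat_lit 10, nat_lit 14, nat_lit 7, nat_lit 4, nat_lit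 4, nat_lit 8]), (nat_lit 17, [nat_lit 17, nat_lit 12, nat_lit 12, nat_lit 12, nat_lit 7, nat_lit 9, nat_lit 9, nat_lit 7]), (nat_lit 11, [nat_lit 13, nat_lit 16, nat_lit 18, nat_lit 18, nat_lit 8, nat_lit 5, nat_lit 10, nat_lit 6]), (nat_lit 13, [nat_lit 18, nat_lit 13, nat_lit 15, nat_lit 17, nat_lit 18, nat_lit 10, nat_lit 8, nat_lit 10, nat_lit 6, nat_lit 8])]
theorem p3slp : slpOK mu (fun _ => true) I gens p3Ws I (nat_lit 3) (nat_lit 2) (nat_lit 6) (nat_lit 13) (nat_lit 44) (nat_lit 7) p3Tab p3QT p3GT (nat_lit 161) p3Lv = true := by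
  decide +kernel
theorem p3pb {G : Type*} [Group G] [Finite G] (hM : Mod G (nat_lit 18) (nat_lit 2) (nat_lit 5) gens) (ho : Nat.card G = 150698880) :
    PB 3 G [] :=
  hM.pb par id (e := 0) Nat.prime_three ho p3slp p3chk (by decide +kernel)

end Cfsg.Agent.H63.J3
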