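/-
Bounds for the Schur multiplier of McL (generated certificates).
-/
import Cfsg.Agent.H63.Leech3

set_option autoImplicit false
set_option maxRecDepth 100000

namespace Cfsg.Agent.H63.Le

open H14

def mclp2Tab : ℕ := nat_lit 0x740541f0700f0042504419010060044001c4b088030040108c180240600801000000500a0100200400000010240400c01000000000101402004000000000000008010000000000000000040000000000000000000000
def mclp2QT : ℕ := nat_lit 0x6004008010020042004008010020044008008010020040000000000000000000000000000000000000000000000000000000000000000000000000000000000000000000000000000000000000000000000000000000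
def mclp2GT : ℕ := nat_lit 0x902409024090240802008020080200701c0701c0701c0000000000000000000000000000000000000000000000000000000000000000000000000000000000000000000000000000000000000000000000000000000
def mclp2As : List ℕ := [nat_lit 0x101010, nat_lit 0x100804, nat_lit 525316, nat_lit 0x100810, nat_lit 0x102010, nat_lit 0x101020, nat_lit 526352, nat_lit 525320, nat_lit 0x102004, nat_lit 0x100204, nat_lit 131588, nat_lit 264196, nat_lit 132098, nat_lit 528400, nat_lit 528392, nat_lit 0x102040, nat_lit 264208, nat_lit 132104]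
def mclp2Fs : List (ℕ × List ℕ × List ℕ) := [(nat_lit 9, [nat_lit 67, nat_lit 68], [nat_lit 68, nat_lit 67, nat_lit 66, nat_lit 65, nat_lit 64, nat_lit 63]), (nat_lit 9, [nat_lit 65, nat_lit 68], [nat_lit 68, nat_lit 65, nat_lit 64]), (nat_lit 9, [nat_lit 65, nat_lit 65], []), (nat_lit 9, [nat_lit 67, nat_lit 67], [nat_lit 63]), (nat_lit 8, [nat_lit 60, nat_lit 62], [nat_lit 62, nat_lit 60, nat_lit 58]), (nat_lit 8, [nat_lit 60, nat_lit 60], [nat_lit 57]), (nat_lit 8, [nat_lit 61, nat_lit 61], [nat_lit 57]), (nat_lit 8, [nat_lit 58, nat_lit 58], []), (nat_lit 7, [nat_lit 53, nat_lit 54], [nat_lit 54, nat_lit 53, nat_lit 51]), (nat_lit 7, [nat_lit 54, nat_lit 54], [nat_lit 51]), (nat_lit 7, [nat_lit 53, nat_lit 56], [nat_lit 56, nat_lit 53, nat_lit 52]), (nat_lit 7, [nat_lit 56, nat_lit 56], [nat_lit 51]), (nat_lit 7, [nat_lit 53, nat_lit 53], [])]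
def mclp2Mc : List ℕ := [nat_lit 0, nat_lit 0, nat_lit 0, nat_lit 0x4104000000000000, nat_lit 0x100000000000000, nat_lit 0x1c000000000000000, nat_lit 0x4000000000000]
def mclp2Uc : List (ℕ × ℕ × ℕ) := []
def mclp2Cs : List (List ℕ) := [[nat_lit 0x180000], [nat_lit 262144, nat_lit 0x12390000], [nat_lit 524288, nat_lit 0x12190000, nat_lit 0x12190020], [nat_lit 8192, nat_lit 0x10a40000, nat_lit 0x62204016, nat_lit 0x733464f6], [nat_lit 16384, nat_lit 0x52986016, nat_lit 0x11040020, nat_lit 0x7b2cc4f6, nat_lit 0x7b34c436], [nat_lit 0x21d0000, nat_lit 0x12380000, nat_lit 0x121b0020, nat_lit 0x4b9272c0, nat_lit 0x1086120, nat_lit 0x12180021], [nat_lit 32768, nat_lit 0x12710000, nat_lit 0x399712c0, nat_lit 0x772c24f6, nat_lit 0x45814df6, nat_lit 0x2be212c4, nat_lit 0x67c4a4fc]]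
def mclp2Lv : List (ℕ × List ℕ) := [(nat_lit 0x400200200080040020010008004004002000800800400100080080040010008004002001, [nat_lit 16]), (nat_lit 0x800400400100080080040010008004002000000800400200100100040040010008004004002, [nat_lit 8]), (nat_lit 0x400200200100040040010008004002001000800400400100100040040010008004004001, [nat_lit 64]), (nat_lit 0x1000800000200000080000000000000000000000000000000000000080040000000000004002, [nat_lit 1, nat_lit 4]), (nat_lit 0x1000800400000000080000000000000000002001000800000000000000040000000000000000, [nat_lit 3]), (nat_lit 0x800000000000000000000000000000000000000000000000000000000000000000000000002, [nat_lit 35])]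
theorem mclp2chk : check (nat_lit 2) (nat_lit 1) (nat_lit 7) (nat_lit 10) (nat_lit 69) (nat_lit 2) (nat_lit 1) mclp2Tab mclp2QT mclp2GT
    (Nat.mul (nat_lit 511) (Nat.div (Nat.shiftLeft (nat_lit 1) (nat_lit 690)) (nat_lit 1023)))
    mclp2As mclp2Fs mclp2Mc mclp2Uc (cfOf mclp2Cs) = true := by decide +kernel
def mclp2Ws : List (ℕ × List ℕ) := [(nat_lit 0, [nat_lit 2, nat_lit 2, nat_lit 2, nat_lit 0, nat_lit 1, nat_lit 0, nat_lit 1, nat_lit 0, nat_lit 0]), (nat_lit 1, [nat_lit 4, nat_lit 2, nat_lit 4, nat_lit 1, nat_lit 2, nat_lit 2, nat_lit 3, nat_lit 4, nat_lit 1]), (nat_lit 5, [nat_lit 5, nat_lit 2, nat_lit 5, nat_lit 5, nat_lit 4, nat_lit 5, nat_lit 3, nat_lit 2, nat_lit 4]), (nat_lit 6, [nat_lit 4, nat_lit 4, nat_lit 3, nat_lit 5, nat_lit 3, nat_lit 5, nat_lit 6, nat_lit 4, nat_lit 3]), (nat_lit 4, [nat_lit 4, nat_lit 4, nat_lit 5, nat_lit 7, nat_lit 6, nat_lit 7, nat_lit 7, nat_lit 6, nat_lit 6]), (nat_lit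 8, [nat_lit 5, nat_lit 5, nat_lit 6, nat_lit 7, nat_lit 8, nat_lit 8, nat_lit 8, nat_lit 7, nat_lit 6]), (nat_lit 2, [nat_lit 7, nat_lit 1, nat_lit 1, nat_lit 0, nat_lit 9, nat_lit 7, nat_lit 3, nat_lit 0, nat_lit 9, nat_lit 1, nat_lit 5]), (nat_lit 1, [nat_lit 1, nat_lit 7, nat_lit 9, nat_lit 9, nat_lit 9, nat_lit 10, nat_lit 4, nat_lit 8, nat_lit 10, nat_lit 9, nat_lit 3, nat_lit 7]), (nat_lit 7, [nat_lit 6, nat_lit 2, nat_lit 2, nat_lit 11, nat_lit 4, nat_lit 4, nat_lit 10, nat_lit 10, nat_lit 5, nat_lit 4]), (nat_lit 12, [nat_lit 7, nat_lit 9, nat_lit 5, nat_lit 5, nat_lit 7, nat_lit 9, nat_lit 8, nat_lit 6, nat_lit 4, nat_lit 7]), (nat_lit 12, [nat_lit 10, nat_lit 10, nat_lit 12, nat_lit 8, nat_lit 5, nat_lit 13, nat_lit 10, nat_lit 7, nat_lit 4, nat_lit 5, nat_lit 7]), (nat_lit 12, [nat_lit 5, nat_lit 13, nat_lit 11, nat_lit 14, nat_lit 10, nat_lit 7, nat_lit 11, nat_lit 11, nat_lit 10, nat_lit 8]), (nat_lit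 3, [nat_lit 3, nat_lit 3, nat_lit 0, nat_lit 3, nat_lit 0, nat_lit 2, nat_lit 4, nat_lit 2, nat_lit 1, nat_lit 1, nat_lit 3]), (nat_lit 4, [nat_lit 6, nat_lit 1, nat_lit 4, nat_lit 2, nat_lit 4, nat_lit 1, nat_lit 1, nat_lit 1, nat_lit 2, nat_lit 5]), (nat_lit 2, [nat_lit 7, nat_lit 6, nat_lit 4, nat_lit 4, nat_lit 6, nat_lit 5, nat_lit 2, nat_lit 7, nat_lit 4, nat_lit 2, nat_lit 6, nat_lit 5]), (nat_lit 6, [nat_lit 5, nat_lit 3, nat_lit 3, nat_lit 4, nat_lit 5, nat_lit 4, nat_lit 4, nat_lit 5, nat_lit 4, nat_lit 7, nat_lit 8]), (nat_lit 4, [nat_lit 6, nat_lit 8, nat_lit 4, nat_lit 7, nat_lit 6, nat_lit 8, nat_lit 9, nat_lit 4, nat_lit 6, nat_lit 5, nat_lit 9, nat_lit 8]), (nat_lit 6, [nat_lit 7, nat_lit 8, nat_lit 7, nat_lit 5, nat_lit 9, nat_lit 8, nat_lit 8, nat_lit 7, nat_lit 7, nat_lit 8, nat_lit 10, nat_lit 10]), (nat_lit 2, [nat_lit 3, nat_lit 1, nat_lit 2, nat_lit 5, nat_lit 0, nat_lit 3, nat_lit 5,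 nat_lit 5, nat_lit 4, nat_lit 1]), (nat_lit 1, [nat_lit 4, nat_lit 2, nat_lit 3, nat_lit 3, nat_lit 6, nat_lit 2, nat_lit 6, nat_lit 3, nat_lit 3, nat_lit 2, nat_lit 6]), (nat_lit 2, [nat_lit 2, nat_lit 6, nat_lit 3, nat_lit 3, nat_lit 4, nat_lit 6, nat_lit 7, nat_lit 3, nat_lit 6, nat_lit 3, nat_lit 7]), (nat_lit 5, [nat_lit 8, nat_lit 4, nat_lit 8, nat_lit 4, nat_lit 3, nat_lit 8, nat_lit 5, nat_lit 8, nat_lit 3, nat_lit 3, nat_lit 6]), (nat_lit 5, [nat_lit 8, nat_lit 5, nat_lit 5, nat_lit 4, nat_lit 7, nat_lit 9, nat_lit 9, nat_lit 6, nat_lit 9, nat_lit 6, nat_lit 6, nat_lit 8]), (nat_lit 6, [nat_lit 6, nat_lit 7, nat_lit 10, nat_lit 9, nat_lit 9, nat_lit 9, nat_lit 10, nat_lit 6, nat_lit 6, nat_lit 6, nat_lit 8]), (nat_lit 1, [nat_lit 1, nat_lit 2, nat_lit 5, nat_lit 1, nat_lit 5, nat_lit 2, nat_lit 2, nat_lit 1, nat_lit 2, nat_lit 3]), (nat_lit 13, [nat_lit 16, nat_lit 13, nat_lit 16, nat_lit 18, nat_lit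 16, nat_lit 18, nat_lit 9, nat_lit 7, nat_lit 9, nat_lit 7, nat_lit 3, nat_lit 4, nat_lit 3, nat_lit 3, nat_lit 5]), (nat_lit 17, [nat_lit 15, nat_lit 19, nat_lit 19, nat_lit 18, nat_lit 16, nat_lit 15, nat_lit 13, nat_lit 10, nat_lit 11, nat_lit 9, nat_lit 11, nat_lit 13, nat_lit 10, nat_lit 7, nat_lit 6, nat_lit 7, nat_lit 4, nat_lit 7, nat_lit 1]), (nat_lit 18, [nat_lit 17, nat_lit 17, nat_lit 15, nat_lit 18, nat_lit 16, nat_lit 9, nat_lit 12, nat_lit 13, nat_lit 10, nat_lit 11, nat_lit 13, nat_lit 8, nat_lit 8, nat_lit 6, nat_lit 8, nat_lit 5, nat_lit 2]), (nat_lit 18, [nat_lit 21, nat_lit 20, nat_lit 17, nat_lit 17, nat_lit 16, nat_lit 19, nat_lit 14, nat_lit 11, nat_lit 11, nat_lit 13, nat_lit 12, nat_lit 14, nat_lit 4, nat_lit 4, nat_lit 4, nat_lit 4, nat_lit 8]), (nat_lit 22, [nat_lit 17, nat_lit 21, nat_lit 20, nat_lit 17, nat_lit 19, nat_lit 19, nat_lit 14, nat_lit 12, nat_lit 16, nat_lit 16, nat_lit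 13, nat_lit 8, nat_lit 10, nat_lit 8, nat_lit 9, nat_lit 7, nat_lit 4]), (nat_lit 20, [nat_lit 23, nat_lit 23, nat_lit 19, nat_lit 21, nat_lit 18, nat_lit 17, nat_lit 16, nat_lit 13, nat_lit 13, nat_lit 14, nat_lit 12, nat_lit 6, nat_lit 8, nat_lit 7, nat_lit 6]), (nat_lit 21, [nat_lit 22, nat_lit 21, nat_lit 19, nat_lit 23, nat_lit 22, nat_lit 23, nat_lit 14, nat_lit 17, nat_lit 18, nat_lit 15, nat_lit 16, nat_lit 17, nat_lit 9, nat_lit 8, nat_lit 11, nat_lit 12, nat_lit 6]), (nat_lit 23, [nat_lit 24, nat_lit 24, nat_lit 25, nat_lit 24, nat_lit 20, nat_lit 18, nat_lit 17, nat_lit 19, nat_lit 14, nat_lit 15, nat_lit 19, nat_lit 19, nat_lit 12, nat_lit 9, nat_lit 10, nat_lit 9, nat_lit 8, nat_lit 7]), (nat_lit 25, [nat_lit 21, nat_lit 25, nat_lit 26, nat_lit 25, nat_lit 22, nat_lit 22, nat_lit 19, nat_lit 15, nat_lit 20, nat_lit 20, nat_lit 15, nat_lit 10, nat_lit 9, nat_lit 11, nat_lit 14, nat_lit 14, nat_lit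 8]), (nat_lit 27, [nat_lit 27, nat_lit 23, nat_lit 23, nat_lit 22, nat_lit 26, nat_lit 27, nat_lit 16, nat_lit 16, nat_lit 17, nat_lit 20, nat_lit 19, nat_lit 13, nat_lit 13, nat_lit 10, nat_lit 11, nat_lit 9])]
theorem mclp2slp : slpOK mu (fun A => Nat.beq (mu cV A) cV && Nat.beq (mu cU A) cU) g0 [g0, g1, g2, g3] mclp2Ws I (nat_lit 2) (nat_lit 1) (nat_lit 7) (nat_lit 10) (nat_lit 69) (nat_lit 10) mclp2Tab mclp2QT mclp2GT (nat_lit 6) mclp2Lv = true := by
  decide +kernel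
theorem mclp2pb : PB 2 CM [] :=
  haveI := H15.finite_Co0
  pb_slp rho par CM ⊤ (fun g _ => rho_inj g) (hasT_I _) (fun _ h1 h2 => fixU (fixV h1 (Bool.and_eq_true_iff.1 h2).1) (Bool.and_eq_true_iff.1 h2).2) (List.forall_mem_cons.2 ⟨hasT_gens _ List.mem_cons_self, hasT_gens⟩) (e := 0) Nat.prime_two card_CM mclp2slp mclp2chk
    (by decide +kernel)

def mclp3Tab : ℕ := nat_lit 0x4290819084a08850001048102180881002a0025000100000110004000110004000100000000004400100004000100000000000000100006000100000000000000000004000100000000000000000000000100000000000000000000000000000000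
def mclp3QT : ℕ := nat_lit 0x400004000100004000104000100004000100004000100000000000000000000000000000000000000000000000000000000000000000000000000000000000000000000000000000000000000000000000000000000000000000000000000000000
def mclp3GT : ℕ := nat_lit 0x7000700070007000700060006000600060006000600000000000000000000000000000000000000000000000000000000000000000000000000000000000000000000000000000000000000000000000000000000000000000000000000000000
def mclp3As : List ℕ := [nat_lit 0x400100040, nat_lit 0x400100010, nat_lit 0x400040004, nat_lit 0x400100200, nat_lit 0x400100001, nat_lit 0x100040010, nat_lit 0x100040001, nat_lit 0x400040010, nat_lit 0x400800010, nat_lit 0x100200040, nat_lit 0x400800040, nat_lit 0x400800004, nat_lit 0x100200010, nat_lit 0x100200004, nat_lit 0x100200001, nat_lit 0x40080001, nat_lit 0x10020001, nat_lit 0x4008001]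
def mclp3Fs : List (ℕ × List ℕ × List ℕ) := [(nat_lit 7, [nat_lit 45, nat_lit 46], [nat_lit 46, nat_lit 45]), (nat_lit 7, [nat_lit 47, nat_lit 47, nat_lit 47], []), (nat_lit 7, [nat_lit 46, nat_lit 46, nat_lit 46], []), (nat_lit 7, [nat_lit 48, nat_lit 48, nat_lit 48], []), (nat_lit 6, [nat_lit 41, nat_lit 42], [nat_lit 42, nat_lit 41, nat_lit 39]), (nat_lit 6, [nat_lit 42, nat_lit 43], [nat_lit 43, nat_lit 42, nat_lit 40]), (nat_lit 6, [nat_lit 40, nat_lit 42], [nat_lit 42, nat_lit 40]), (nat_lit 6, [nat_lit 39, nat_lit 43], [nat_lit 43, nat_lit 39]), (nat_lit 6, [nat_lit 39, nat_lit 42], [nat_lit 42, nat_lit 39]), (nat_lit 6, [nat_lit 40, nat_lit 40, nat_lit 40], []), (nat_lit 6, [nat_lit 41, nat_lit 41, nat_lit 41], []), (nat_lit 6, [nat_lit 42, nat_lit 42, nat_lit 42], []), (nat_lit 6, [nat_lit 39, nat_lit 39, nat_lit 39], []), (nat_lit 6, [nat_lit 43, nat_lit 43, nat_lit 43], [])]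
def mclp3Mc : List ℕ := [nat_lit 0x630802020020000000000000000000000000000000000, nat_lit 0x33330670220020000000000000000000000000000000000, nat_lit 0x66330500010010000000000000000000000000000000000, nat_lit 0x10000000000000000000000000000000000, nat_lit 0x33600300220000000000000000000000000000000000000, nat_lit 0x3600300010010000000000000000000000000000000000]
def mclp3Uc : List (ℕ × ℕ × ℕ) := [(nat_lit 0x2000000000000000000000000000000000, nat_lit 3, nat_lit 0x7000000000000000000000)]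
def mclp3Cs : List (List ℕ) := [[nat_lit 0x30336335600303333300030636000006], [nat_lit 0x400000000001000000000000000, nat_lit 0x600603330500300303600066606000003], [nat_lit 0x40000000000010000000000000000, nat_lit 0x8000000000000000000000000000, nat_lit 0x30133300000303033000000603000000], [nat_lit 0x40000000100000000000000000, nat_lit 0x541888705257401024827070585000021, nat_lit 0x204033488000000231100000060000008, nat_lit 0x33336302600303033300030636000040], [nat_lit 0x40020000000001050000000000000000, nat_lit 0x50054500000708088000000200000000, nat_lit 0x80085800000502022000000402000000, nat_lit 0x417017248411277175745414201200142, nat_lit 0x60030364600856633600060363408003], [nat_lit 0x4000000000000000000000000000000, nat_lit 0x605065511000000768800000030000001, nat_lit 0x27167177112535467545380787600344, nat_lit 4, nat_lit 0, nat_lit 0x3803330033230303030000000610410]]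
def mclp3Lv : List (ℕ × List ℕ) := [(nat_lit 0x400400100080040040020008008002001000800400200100080080020020008008002001, [nat_lit 256]), (nat_lit 0x1000800000200000080000000000000000000000000000000000000080040000000000004002, [nat_lit 1, nat_lit 64, nat_lit 1024]), (nat_lit 0x800400200100080040020010008004002001000800400200100080040000010008004002001, [nat_lit 5]), (nat_lit 0x1000800400000000080000000000000000002001000800000000000000040000000000000000, [nat_lit 24])]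
theorem mclp3chk : check (nat_lit 3) (nat_lit 2) (nat_lit 6) (nat_lit 16) (nat_lit 49) (nat_lit 9) (nat_lit 4) mclp3Tab mclp3QT mclp3GT
    (Nat.mul (nat_lit 4095) (Nat.div (Nat.shiftLeft (nat_lit 1) (nat_lit 784)) (nat_lit 65535)))
    mclp3As mclp3Fs mclp3Mc mclp3Uc (cfOf mclp3Cs) = true := by decide +kernel
def mclp3Ws : List (ℕ × List ℕ) := [(nat_lit 0, [nat_lit 2, nat_lit 2, nat_lit 2, nat_lit 0, nat_lit 1, nat_lit 0, nat_lit 1, nat_lit 0, nat_lit 0]), (nat_lit 1, [nat_lit 4, nat_lit 2, nat_lit 4, nat_lit 1, nat_lit 2, nat_lit 2, nat_lit 3, nat_lit 4, nat_lit 1]), (nat_lit 5, [nat_lit 5, nat_lit 2, nat_lit 5, nat_lit 5, nat_lit 4, nat_lit 5, nat_lit 3, nat_lit 2, nat_lit 4]), (nat_lit 6, [nat_lit 4, nat_lit 4, nat_lit 3, nat_lit 5, nat_lit 3, nat_lit 5, nat_lit 6, nat_lit 4, nat_lit 3]), (nat_lit 4, [nat_lit 4, nat_lit 4, nat_lit 5, nat_lit 7, nat_lit 6, nat_lit 7, nat_lit 7, nat_lit 6, nat_lit 6]), (nat_lit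 8, [nat_lit 5, nat_lit 5, nat_lit 6, nat_lit 7, nat_lit 8, nat_lit 8, nat_lit 8, nat_lit 7, nat_lit 6]), (nat_lit 2, [nat_lit 7, nat_lit 1, nat_lit 1, nat_lit 0, nat_lit 9, nat_lit 7, nat_lit 3, nat_lit 0, nat_lit 9, nat_lit 1, nat_lit 5]), (nat_lit 1, [nat_lit 1, nat_lit 7, nat_lit 9, nat_lit 9, nat_lit 9, nat_lit 10, nat_lit 4, nat_lit 8, nat_lit 10, nat_lit 9, nat_lit 3, nat_lit 7]), (nat_lit 7, [nat_lit 6, nat_lit 2, nat_lit 2, nat_lit 11, nat_lit 4, nat_lit 4, nat_lit 10, nat_lit 10, nat_lit 5, nat_lit 4]), (nat_lit 12, [nat_lit 7, nat_lit 9, nat_lit 5, nat_lit 5, nat_lit 7, nat_lit 9, nat_lit 8, nat_lit 6, nat_lit 4, nat_lit 7]), (nat_lit 12, [nat_lit 10, nat_lit 10, nat_lit 12, nat_lit 8, nat_lit 5, nat_lit 13, nat_lit 10, nat_lit 7, nat_lit 4, nat_lit 5, nat_lit 7]), (nat_lit 12, [nat_lit 5, nat_lit 13, nat_lit 11, nat_lit 14, nat_lit 10, nat_lit 7, nat_lit 11, nat_lit 11, nat_lit 10, nat_lit 8]), (nat_lit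 3, [nat_lit 3, nat_lit 3, nat_lit 0, nat_lit 3, nat_lit 0, nat_lit 2, nat_lit 4, nat_lit 2, nat_lit 1, nat_lit 1, nat_lit 3]), (nat_lit 4, [nat_lit 6, nat_lit 1, nat_lit 4, nat_lit 2, nat_lit 4, nat_lit 1, nat_lit 1, nat_lit 1, nat_lit 2, nat_lit 5]), (nat_lit 2, [nat_lit 7, nat_lit 6, nat_lit 4, nat_lit 4, nat_lit 6, nat_lit 5, nat_lit 2, nat_lit 7, nat_lit 4, nat_lit 2, nat_lit 6, nat_lit 5]), (nat_lit 6, [nat_lit 5, nat_lit 3, nat_lit 3, nat_lit 4, nat_lit 5, nat_lit 4, nat_lit 4, nat_lit 5, nat_lit 4, nat_lit 7, nat_lit 8]), (nat_lit 4, [nat_lit 6, nat_lit 8, nat_lit 4, nat_lit 7, nat_lit 6, nat_lit 8, nat_lit 9, nat_lit 4, nat_lit 6, nat_lit 5, nat_lit 9, nat_lit 8]), (nat_lit 6, [nat_lit 7, nat_lit 8, nat_lit 7, nat_lit 5, nat_lit 9, nat_lit 8, nat_lit 8, nat_lit 7, nat_lit 7, nat_lit 8, nat_lit 10, nat_lit 10]), (nat_lit 2, [nat_lit 3, nat_lit 1, nat_lit 2, nat_lit 5, nat_lit 0, nat_lit 3, nat_lit 5,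 nat_lit 5, nat_lit 4, nat_lit 1]), (nat_lit 1, [nat_lit 4, nat_lit 2, nat_lit 3, nat_lit 3, nat_lit 6, nat_lit 2, nat_lit 6, nat_lit 3, nat_lit 3, nat_lit 2, nat_lit 6]), (nat_lit 2, [nat_lit 2, nat_lit 6, nat_lit 3, nat_lit 3, nat_lit 4, nat_lit 6, nat_lit 7, nat_lit 3, nat_lit 6, nat_lit 3, nat_lit 7]), (nat_lit 5, [nat_lit 8, nat_lit 4, nat_lit 8, nat_lit 4, nat_lit 3, nat_lit 8, nat_lit 5, nat_lit 8, nat_lit 3, nat_lit 3, nat_lit 6]), (nat_lit 5, [nat_lit 8, nat_lit 5, nat_lit 5, nat_lit 4, nat_lit 7, nat_lit 9, nat_lit 9, nat_lit 6, nat_lit 9, nat_lit 6, nat_lit 6, nat_lit 8]), (nat_lit 6, [nat_lit 6, nat_lit 7, nat_lit 10, nat_lit 9, nat_lit 9, nat_lit 9, nat_lit 10, nat_lit 6, nat_lit 6, nat_lit 6, nat_lit 8]), (nat_lit 1, [nat_lit 1, nat_lit 2, nat_lit 5, nat_lit 1, nat_lit 5, nat_lit 2, nat_lit 2, nat_lit 1, nat_lit 2, nat_lit 3]), (nat_lit 13, [nat_lit 13, nat_lit 15, nat_lit 17, nat_lit 15, nat_lit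 14, nat_lit 13, nat_lit 7, nat_lit 10, nat_lit 12, nat_lit 12, nat_lit 11, nat_lit 5, nat_lit 4, nat_lit 5, nat_lit 6, nat_lit 3, nat_lit 6, nat_lit 0]), (nat_lit 19, [nat_lit 17, nat_lit 19, nat_lit 16, nat_lit 19, nat_lit 18, nat_lit 11, nat_lit 11, nat_lit 11, nat_lit 12, nat_lit 12, nat_lit 11, nat_lit 12, nat_lit 6, nat_lit 5, nat_lit 5, nat_lit 2, nat_lit 7, nat_lit 1]), (nat_lit 18, [nat_lit 16, nat_lit 19, nat_lit 15, nat_lit 17, nat_lit 20, nat_lit 10, nat_lit 13, nat_lit 10, nat_lit 9, nat_lit 14, nat_lit 5, nat_lit 4, nat_lit 8, nat_lit 7, nat_lit 6, nat_lit 6]), (nat_lit 19, [nat_lit 17, nat_lit 19, nat_lit 17, nat_lit 18, nat_lit 21, nat_lit 13, nat_lit 13, nat_lit 10, nat_lit 11, nat_lit 14, nat_lit 8, nat_lit 4, nat_lit 5, nat_lit 4, nat_lit 3]), (nat_lit 18, [nat_lit 22, nat_lit 22, nat_lit 18, nat_lit 21, nat_lit 20, nat_lit 16, nat_lit 15, nat_lit 13, nat_lit 13, nat_lit 13, nat_lit 15, nat_lit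 16, nat_lit 9, nat_lit 10, nat_lit 6, nat_lit 10, nat_lit 4]), (nat_lit 20, [nat_lit 19, nat_lit 21, nat_lit 23, nat_lit 18, nat_lit 23, nat_lit 18, nat_lit 12, nat_lit 12, nat_lit 17, nat_lit 12, nat_lit 13, nat_lit 11, nat_lit 8, nat_lit 6, nat_lit 10]), (nat_lit 24, [nat_lit 20, nat_lit 22, nat_lit 23, nat_lit 23, nat_lit 23, nat_lit 14, nat_lit 13, nat_lit 17, nat_lit 17, nat_lit 18, nat_lit 15, nat_lit 10, nat_lit 11, nat_lit 9, nat_lit 10, nat_lit 10]), (nat_lit 20, [nat_lit 21, nat_lit 23, nat_lit 25, nat_lit 21, nat_lit 24, nat_lit 24, nat_lit 15, nat_lit 19, nat_lit 17, nat_lit 15, nat_lit 18, nat_lit 18, nat_lit 8, nat_lit 8, nat_lit 12, nat_lit 11, nat_lit 13])]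
theorem mclp3slp : slpOK mu (fun A => Nat.beq (mu cV A) cV && Nat.beq (mu cU A) cU) g0 [g0, g1, g2, g3] mclp3Ws I (nat_lit 3) (nat_lit 2) (nat_lit 6) (nat_lit 16) (nat_lit 49) (nat_lit 8) mclp3Tab mclp3QT mclp3GT (nat_lit 137) mclp3Lv = true := by
  decide +kernel
theorem mclp3pb : PB 3 CM [3] :=
  haveI := H15.finite_Co0
  pb_slp rho par CM ⊤ (fun g _ => rho_inj g) (hasT_I _) (fun _ h1 h2 => fixU (fixV h1 (Bool.and_eq_true_iff.1 h2).1) (Bool.and_eq_true_iff.1 h2).2) (List.forall_mem_cons.2 ⟨hasT_gens _ List.mem_cons_self, hasT_gens⟩) (e := 1) Nat.prime_three card_CM mclp3slp mclp3chk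
    (by decide +kernel)

def mclp5Tab : ℕ := nat_lit 0x29859002000048010000000080000000000000
def mclp5QT : ℕ := nat_lit 0x20008002000000000000000000000000000000
def mclp5GT : ℕ := nat_lit 0x1803006000000000000000000000000000000
def mclp5As : List ℕ := [nat_lit 0x1001020]
def mclp5Fs : List (ℕ × List ℕ × List ℕ) := [(nat_lit 3, [nat_lit 12, nat_lit 12, nat_lit 12, nat_lit 12, nat_lit 12], []), (nat_lit 3, [nat_lit 13, nat_lit 13, nat_lit 13, nat_lit 13, nat_lit 13], []), (nat_lit 3, [nat_lit 11, nat_lit 13], [nat_lit 13, nat_lit 11]), (nat_lit 3, [nat_lit 11, nat_lit 12], [nat_lit 12, nat_lit 11])]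
def mclp5Mc : List ℕ := [nat_lit 0, nat_lit 0, nat_lit 0x200000]
def mclp5Uc : List (ℕ × ℕ × ℕ) := []
def mclp5Cs : List (List ℕ) := [[nat_lit 4096], [nat_lit 16, nat_lit 128], [nat_lit 12, nat_lit 0, nat_lit 10304]]
def mclp5Lv : List (ℕ × List ℕ) := [(nat_lit 0x1000800000200000080000000000000000000000000000000000000080040000000000004002, [nat_lit 1, nat_lit 8]), (nat_lit 0x1000800400000000080000000000000000002001000800000000000000040000000000000000, [nat_lit 75])]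
theorem mclp5chk : check (nat_lit 5) (nat_lit 3) (nat_lit 3) (nat_lit 11) (nat_lit 14) (nat_lit 5) (nat_lit 3) mclp5Tab mclp5QT mclp5GT
    (Nat.mul (nat_lit 255) (Nat.div (Nat.shiftLeft (nat_lit 1) (nat_lit 154)) (nat_lit 2047)))
    mclp5As mclp5Fs mclp5Mc mclp5Uc (cfOf mclp5Cs) = true := by decide +kernel
def mclp5Ws : List (ℕ × List ℕ) := [(nat_lit 0, [nat_lit 2, nat_lit 2, nat_lit 2, nat_lit 0, nat_lit 1, nat_lit 0, nat_lit 1, nat_lit 0, nat_lit 0]), (nat_lit 1, [nat_lit 4, nat_lit 2, nat_lit 4, nat_lit 1, nat_lit 2, nat_lit 2, nat_lit 3, nat_lit 4, nat_lit 1]), (nat_lit 5, [nat_lit 5, nat_lit 2, nat_lit 5, nat_lit 5, nat_lit 4, nat_lit 5, nat_lit 3, nat_lit 2, nat_lit 4]), (nat_lit 6, [nat_lit 4, nat_lit 4, nat_lit 3, nat_lit 5, nat_lit 3, nat_lit 5, nat_lit 6, nat_lit 4, nat_lit 3]), (nat_lit 4, [nat_lit 4, nat_lit 4, nat_lit 5, nat_lit 7, nat_lit 6, nat_lit 7, nat_lit 7, nat_lit 6, nat_lit 6]), (nat_lit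 8, [nat_lit 5, nat_lit 5, nat_lit 6, nat_lit 7, nat_lit 8, nat_lit 8, nat_lit 8, nat_lit 7, nat_lit 6]), (nat_lit 2, [nat_lit 7, nat_lit 1, nat_lit 1, nat_lit 0, nat_lit 9, nat_lit 7, nat_lit 3, nat_lit 0, nat_lit 9, nat_lit 1, nat_lit 5]), (nat_lit 1, [nat_lit 1, nat_lit 7, nat_lit 9, nat_lit 9, nat_lit 9, nat_lit 10, nat_lit 4, nat_lit 8, nat_lit 10, nat_lit 9, nat_lit 3, nat_lit 7]), (nat_lit 7, [nat_lit 6, nat_lit 2, nat_lit 2, nat_lit 11, nat_lit 4, nat_lit 4, nat_lit 10, nat_lit 10, nat_lit 5, nat_lit 4]), (nat_lit 12, [nat_lit 7, nat_lit 9, nat_lit 5, nat_lit 5, nat_lit 7, nat_lit 9, nat_lit 8, nat_lit 6, nat_lit 4, nat_lit 7]), (nat_lit 12, [nat_lit 10, nat_lit 10, nat_lit 12, nat_lit 8, nat_lit 5, nat_lit 13, nat_lit 10, nat_lit 7, nat_lit 4, nat_lit 5, nat_lit 7]), (nat_lit 12, [nat_lit 5, nat_lit 13, nat_lit 11, nat_lit 14, nat_lit 10, nat_lit 7, nat_lit 11, nat_lit 11, nat_lit 10, nat_lit 8]), (nat_lit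 3, [nat_lit 3, nat_lit 3, nat_lit 0, nat_lit 3, nat_lit 0, nat_lit 2, nat_lit 4, nat_lit 2, nat_lit 1, nat_lit 1, nat_lit 3]), (nat_lit 4, [nat_lit 6, nat_lit 1, nat_lit 4, nat_lit 2, nat_lit 4, nat_lit 1, nat_lit 1, nat_lit 1, nat_lit 2, nat_lit 5]), (nat_lit 2, [nat_lit 7, nat_lit 6, nat_lit 4, nat_lit 4, nat_lit 6, nat_lit 5, nat_lit 2, nat_lit 7, nat_lit 4, nat_lit 2, nat_lit 6, nat_lit 5]), (nat_lit 6, [nat_lit 5, nat_lit 3, nat_lit 3, nat_lit 4, nat_lit 5, nat_lit 4, nat_lit 4, nat_lit 5, nat_lit 4, nat_lit 7, nat_lit 8]), (nat_lit 4, [nat_lit 6, nat_lit 8, nat_lit 4, nat_lit 7, nat_lit 6, nat_lit 8, nat_lit 9, nat_lit 4, nat_lit 6, nat_lit 5, nat_lit 9, nat_lit 8]), (nat_lit 6, [nat_lit 7, nat_lit 8, nat_lit 7, nat_lit 5, nat_lit 9, nat_lit 8, nat_lit 8, nat_lit 7, nat_lit 7, nat_lit 8, nat_lit 10, nat_lit 10]), (nat_lit 2, [nat_lit 3, nat_lit 1, nat_lit 2, nat_lit 5, nat_lit 0, nat_lit 3, nat_lit 5,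 nat_lit 5, nat_lit 4, nat_lit 1]), (nat_lit 1, [nat_lit 4, nat_lit 2, nat_lit 3, nat_lit 3, nat_lit 6, nat_lit 2, nat_lit 6, nat_lit 3, nat_lit 3, nat_lit 2, nat_lit 6]), (nat_lit 2, [nat_lit 2, nat_lit 6, nat_lit 3, nat_lit 3, nat_lit 4, nat_lit 6, nat_lit 7, nat_lit 3, nat_lit 6, nat_lit 3, nat_lit 7]), (nat_lit 5, [nat_lit 8, nat_lit 4, nat_lit 8, nat_lit 4, nat_lit 3, nat_lit 8, nat_lit 5, nat_lit 8, nat_lit 3, nat_lit 3, nat_lit 6]), (nat_lit 5, [nat_lit 8, nat_lit 5, nat_lit 5, nat_lit 4, nat_lit 7, nat_lit 9, nat_lit 9, nat_lit 6, nat_lit 9, nat_lit 6, nat_lit 6, nat_lit 8]), (nat_lit 6, [nat_lit 6, nat_lit 7, nat_lit 10, nat_lit 9, nat_lit 9, nat_lit 9, nat_lit 10, nat_lit 6, nat_lit 6, nat_lit 6, nat_lit 8]), (nat_lit 1, [nat_lit 1, nat_lit 2, nat_lit 5, nat_lit 1, nat_lit 5, nat_lit 2, nat_lit 2, nat_lit 1, nat_lit 2, nat_lit 3]), (nat_lit 17, [nat_lit 13, nat_lit 14, nat_lit 16, nat_lit 15, nat_lit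 18, nat_lit 16, nat_lit 10, nat_lit 7, nat_lit 9, nat_lit 11, nat_lit 8, nat_lit 12, nat_lit 4, nat_lit 1, nat_lit 5, nat_lit 1, nat_lit 6]), (nat_lit 19, [nat_lit 14, nat_lit 15, nat_lit 17, nat_lit 15, nat_lit 16, nat_lit 19, nat_lit 19, nat_lit 9, nat_lit 12, nat_lit 11, nat_lit 12, nat_lit 9, nat_lit 12, nat_lit 4, nat_lit 6, nat_lit 2, nat_lit 5, nat_lit 7, nat_lit 1]), (nat_lit 20, [nat_lit 15, nat_lit 19, nat_lit 18, nat_lit 17, nat_lit 20, nat_lit 11, nat_lit 12, nat_lit 11, nat_lit 14, nat_lit 13, nat_lit 6, nat_lit 8, nat_lit 8, nat_lit 5, nat_lit 2]), (nat_lit 19, [nat_lit 18, nat_lit 18, nat_lit 21, nat_lit 17, nat_lit 18, nat_lit 19, nat_lit 14, nat_lit 14, nat_lit 14, nat_lit 13, nat_lit 12, nat_lit 14, nat_lit 15, nat_lit 9, nat_lit 6, nat_lit 4, nat_lit 9, nat_lit 6, nat_lit 9])]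
theorem mclp5slp : slpOK mu (fun A => Nat.beq (mu cV A) cV && Nat.beq (mu cU A) cU) g0 [g0, g1, g2, g3] mclp5Ws I (nat_lit 5) (nat_lit 3) (nat_lit 3) (nat_lit 11) (nat_lit 14) (nat_lit 4) mclp5Tab mclp5QT mclp5GT (nat_lit 89) mclp5Lv = true := by
  decide +kernel
theorem mclp5pb : PB 5 CM [] :=
  haveI := H15.finite_Co0
  pb_slp rho par CM ⊤ (fun g _ => rho_inj g) (hasT_I _) (fun _ h1 h2 => fixU (fixV h1 (Bool.and_eq_true_iff.1 h2).1) (Bool.and_eq_true_iff.1 h2).2) (List.forall_mem_cons.2 ⟨hasT_gens _ List.mem_cons_self, hasT_gens⟩) (e := 0) Nat.prime_five card_CM mclp5slp mclp5chk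
    (by decide +kernel)

end Cfsg.Agent.H63.Le
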